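import Cfsg.Agent.Lib.SFourFree.Reduced
import Cfsg.Agent.Lib.GlaubermanTwo54.NoTransv
import Cfsg.Agent.Lib.SThreeFree21.Statement

/-!
# The invariants of the characteristic subgroup `W(S)`

`P2` (every elementary action is strictly weaker than the module), the configuration `IsBad`, the
setting `Cfg` of a group with a unique maximal subgroup over a Sylow 2-subgroup, and the data of a pair
(`PairIn`).  See `notes/stellmacher_helper55.md`.

Owner: helper55.
-/

set_option autoImplicit false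
set_option linter.style.haveILetI false
set_option linter.unusedSectionVars false

namespace Cfsg.Agent.Lib.Stellmacher55

open Subgroup PLocal
open scoped commutatorElement

universe u

variable {G : Type u} [Group G]

/-- `R` induces an elementary abelian 2-group on `V`. -/
def ElemOn (R V : Subgroup G) : Prop :=
  (∀ a ∈ R, ∀ b ∈ R, ⁅a, b⁆ ∈ centralizer (V : Set G)) ∧ ∀ a ∈ R, a * a ∈ centralizer (V : Set G)

/-- `R` centralises `V` or `|R : C_R(V)| < |V : C_V(R)|`. -/
def Strict (V R : Subgroup G) : Prop :=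
  (centralizer (V : Set G)).relIndex R = 1 ∨
    (centralizer (V : Set G)).relIndex R < (centralizer (R : Set G)).relIndex V

/-- Every elementary action of a subgroup of `S` on `V` is strict. -/
def P2 (S V : Subgroup G) : Prop := ∀ R : Subgroup G, R ≤ S → ElemOn R V → Strict V R

/-- The span of the `[a, b]`, `b ∈ R`. -/
def cSpan (a : G) (R : Subgroup G) : Subgroup G := Subgroup.closure (Set.range fun b : R => ⁅a, (b : G)⁆)

/-- `E < V` with `[V, R] ≤ E`, `[E, R] ≤ C := C_V(R)` and, for every `e` outside `E`, `r ↦ [e, r] C`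
inducing a bijection of `R / C_R(V)` with `E / C`. -/
structure IsBad (V E R : Subgroup G) : Prop where
  le : E ≤ V
  ne : ¬ V ≤ E
  not_le : ¬ R ≤ centralizer (V : Set G)
  comm : ∀ v ∈ V, ∀ r ∈ R, ⁅v, r⁆ ∈ E
  quad : ∀ e ∈ E, ∀ r ∈ R, ⁅e, r⁆ ∈ fixOn V R
  span : ∀ e ∈ V, e ∉ E → ∀ x ∈ E, ∃ r ∈ R, ⁅e, r⁆⁻¹ * x ∈ fixOn V R
  inj : ∀ e ∈ V, e ∉ E → ∀ r ∈ R, ⁅e, r⁆ ∈ fixOn V R → r ∈ centralizer (V : Set G)

/-- No bad configuration on `V` for subgroups of `S` centralising `Y`. -/
def NotBad (S V Y : Subgroup G) : Prop :=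
  ∀ R : Subgroup G, R ≤ S → ElemOn R V → R ≤ centralizer (Y : Set G) → ∀ E, ¬ IsBad V E R

/-- The group is constrained and without a section `Sym(4)`; `M` is the only maximal subgroup
containing the Sylow 2-subgroup `S`. -/
structure Cfg (S : Sylow 2 G) (M : Subgroup G) : Prop where
  free : ¬ Cfsg.Involves (Equiv.Perm (Fin 4)) G
  c2 : centralizer (Cfsg.pCore 2 G : Set G) ≤ Cfsg.pCore 2 G
  le : (S : Subgroup G) ≤ M
  ne : M ≠ ⊤
  max : ∀ H : Subgroup G, (S : Subgroup G) ≤ H → H ≠ ⊤ → H ≤ M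

/-- Every fixed-point-free module of an element of order a power of `p` has order above `f ^ 2`. -/
def PairSize (f p : ℕ) : Prop := ∀ n, 0 < n → 2 ^ n ≡ 1 [MOD p] → f ^ 2 < 2 ^ n

/-- A pair of `R` modulo the normal subgroup `T`: `a ∈ R` inverts the `p`-element `k`, `B` centralises
it, and `|R : B|` is small compared with the modules of `k`. -/
structure PairIn (T R B : Subgroup G) (a h k : G) (p : ℕ) : Prop where
  le : B ≤ R
  inf_le : R ⊓ T ≤ B
  mem : a ∈ R
  not_mem : a ∉ B
  prime : p.Prime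
  ne_two : p ≠ 2
  pow : ∃ i, orderOf k = p ^ i
  zpow : k ∈ zpowers ⁅a, h⁆
  not_memT : k ∉ T
  comm : ∀ b ∈ B, ⁅b, k⁆ ∈ T
  size : PairSize (B.relIndex R) p

/-- Pairs with the inverted element outside the maximal subgroup over `S`. -/
def PropPairOut : Prop :=
  ∀ (G : Type u) [Group G] [Finite G] (S : Sylow 2 G) (M : Subgroup G), Cfg S M →
    ∀ R : Subgroup G, R ≤ (S : Subgroup G) → (∀ a ∈ R, ∀ b ∈ R, ⁅a, b⁆ ∈ Cfsg.pCore 2 G) →
      (∀ a ∈ R, a * a ∈ Cfsg.pCore 2 G) → ¬ R ≤ Cfsg.pCore 2 G →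
      ∃ (B : Subgroup G) (a h k : G) (p : ℕ), PairIn (Cfsg.pCore 2 G) R B a h k p ∧ k ∉ M

/-- Pairs of an elementary abelian subgroup invariant under `N(S)`: every element of `R` outside `B`
generates with `R ^ k` an element congruent to `k`. -/
def PropPairClause : Prop :=
  ∀ (G : Type u) [Group G] [Finite G] (S : Sylow 2 G) (M : Subgroup G), Cfg S M →
    ∀ R : Subgroup G, R ≤ (S : Subgroup G) → Cfsg.IsElementaryAbelian 2 R →
      (∀ g ∈ normalizer ((S : Subgroup G) : Set G), R.map (MulAut.conj g).toMonoidHom = R) →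
      ¬ R ≤ Cfsg.pCore 2 G →
      ∃ (B : Subgroup G) (a h k : G) (p : ℕ), PairIn (Cfsg.pCore 2 G) R B a h k p ∧
        ∀ e ∈ R, e ∉ B → ∃ k' ∈ zpowers e ⊔ R.map (MulAut.conj k).toMonoidHom, k'⁻¹ * k ∈ Cfsg.pCore 2 G

/-- `a` inverts every power of `[a, h]` modulo a normal subgroup containing `a ^ 2`. -/
theorem inverts_mod {C : Subgroup G} [C.Normal] {a h k : G} (ha : a * a ∈ C) (hk : k ∈ zpowers ⁅a, h⁆) :
    a * k * a⁻¹ * k ∈ C := by
  obtain ⟨i, rfl⟩ := hk
  have h2 : (a : G ⧸ C) * a = 1 := (QuotientGroup.eq_one_iff _).2 ha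
  have hi : ((a : G) : G ⧸ C)⁻¹ = a := inv_eq_of_mul_eq_one_right h2
  refine (QuotientGroup.eq_one_iff _).1 ?_
  set c : G ⧸ C := ((⁅a, h⁆ : G) : G ⧸ C)
  have h1 : (a : G ⧸ C) * c * (a : G ⧸ C)⁻¹ = c⁻¹ := by
    show (a : G ⧸ C) * ((a : G ⧸ C) * h * (a : G ⧸ C)⁻¹ * (h : G ⧸ C)⁻¹) * (a : G ⧸ C)⁻¹ =
      ((a : G ⧸ C) * h * (a : G ⧸ C)⁻¹ * (h : G ⧸ C)⁻¹)⁻¹
    rw [hi]
    simp only [_root_.mul_inv_rev, inv_inv, hi]
    simp only [← mul_assoc, h2, one_mul]
  simp only [QuotientGroup.mk_mul, QuotientGroup.mk_inv, QuotientGroup.mk_zpow]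
  rw [← conj_zpow, h1, inv_zpow, inv_mul_cancel]

theorem ElemOn.mono {R R' V : Subgroup G} (h : ElemOn R V) (hR : R' ≤ R) : ElemOn R' V :=
  ⟨fun a ha b hb => h.1 a (hR ha) b (hR hb), fun a ha => h.2 a (hR ha)⟩

theorem ElemOn.anti {R V V' : Subgroup G} (h : ElemOn R V) (hV : V' ≤ V) : ElemOn R V' :=
  ⟨fun a ha b hb => Subgroup.centralizer_le hV (h.1 a ha b hb),
    fun a ha => Subgroup.centralizer_le hV (h.2 a ha)⟩

theorem elemOn_of_elemAb {R V : Subgroup G} (h : Cfsg.IsElementaryAbelian 2 R) : ElemOn R V := by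
  refine ⟨fun a ha b hb => ?_, fun a ha => ?_⟩
  · rw [commutatorElement_eq_one_iff_mul_comm.2 (PGroups.elemAb_comm h ha hb)]; exact one_mem _
  · rw [← pow_two, h.2 a ha]; exact one_mem _

theorem Strict.not_le {V R : Subgroup G} (h : Strict V R) (hR : ¬ R ≤ centralizer (V : Set G)) :
    (centralizer (V : Set G)).relIndex R < (centralizer (R : Set G)).relIndex V :=
  h.resolve_left fun h1 => hR (Subgroup.relIndex_eq_one.1 h1)

theorem strict_of_le {V R : Subgroup G} (h : R ≤ centralizer (V : Set G)) : Strict V R :=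
  Or.inl (Subgroup.relIndex_eq_one.2 h)

/-- A group acting on `V` whose centraliser in `V` is everything. -/
theorem relIndex_centralizer_eq_one_comm {V R : Subgroup G}
    (h : (centralizer (V : Set G)).relIndex R = 1) : (centralizer (R : Set G)).relIndex V = 1 :=
  Subgroup.relIndex_eq_one.2 (Subgroup.le_centralizer_iff.1 (Subgroup.relIndex_eq_one.1 h))

theorem Strict.le {V R : Subgroup G} (h : Strict V R) :
    (centralizer (V : Set G)).relIndex R ≤ (centralizer (R : Set G)).relIndex V :=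
  h.elim (fun h1 => by rw [h1, relIndex_centralizer_eq_one_comm h1]) le_of_lt

/-! ### Additivity -/

/-- `|R : C_R(V)| = |R : C_R(W)| |C_R(W) : C_R(V)|`. -/
theorem relIndex_split {V W R : Subgroup G} (hWV : W ≤ V) :
    (centralizer (V : Set G)).relIndex R = (centralizer (W : Set G)).relIndex R *
      (centralizer (V : Set G)).relIndex (R ⊓ centralizer (W : Set G)) := by
  have hle : centralizer (V : Set G) ≤ centralizer (W : Set G) := Subgroup.centralizer_le hWV
  have h := relIndex_mul_relIndex (R ⊓ centralizer (V : Set G)) (R ⊓ centralizer (W : Set G)) R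
    (inf_le_inf_left _ hle) inf_le_left
  rw [inf_relIndex_left, inf_relIndex_left] at h
  rw [← h, mul_comm]
  congr 1
  have e : R ⊓ centralizer (V : Set G) = (R ⊓ centralizer (W : Set G)) ⊓ centralizer (V : Set G) := by
    rw [inf_assoc, inf_eq_right.2 hle]
  rw [e, inf_relIndex_left]

/-- `|W : C_W(R)| |V : C_V(C_R(W))| ≤ |V : C_V(R)|`. -/
theorem relIndex_fix_split [Finite G] {V W R R₀ : Subgroup G} (hWV : W ≤ V) (hR₀ : R₀ ≤ R)
    (hR₀W : R₀ ≤ centralizer (W : Set G)) :
    (centralizer (R : Set G)).relIndex W * (centralizer (R₀ : Set G)).relIndex V ≤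
      (centralizer (R : Set G)).relIndex V := by
  set C := centralizer (R : Set G)
  set C₀ := centralizer (R₀ : Set G)
  set M := W ⊔ (V ⊓ C) with hM
  have hMV : M ≤ V := sup_le hWV inf_le_left
  have hMC₀ : M ≤ C₀ := sup_le (Subgroup.le_centralizer_iff.1 hR₀W)
    (inf_le_right.trans (Subgroup.centralizer_le hR₀))
  have h3 := relIndex_mul_relIndex (V ⊓ C) M V le_sup_right hMV
  rw [inf_relIndex_left] at h3
  rw [← h3]
  refine Nat.mul_le_mul ?_ ?_
  · refine le_trans ?_ (Subgroup.relIndex_le_of_le_right (le_sup_left : W ≤ M)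
      Subgroup.index_ne_zero_of_finite)
    exact Subgroup.relIndex_le_of_le_left inf_le_right Subgroup.index_ne_zero_of_finite
  · exact Subgroup.relIndex_le_of_le_left hMC₀ Subgroup.index_ne_zero_of_finite

theorem relIndex_pos [Finite G] (H K : Subgroup G) : 0 < H.relIndex K :=
  Nat.pos_of_ne_zero Subgroup.index_ne_zero_of_finite

/-- Strictness on `W` and, for the kernel, on `V` gives strictness on `V`. -/
theorem strict_of_split [Finite G] {V W R : Subgroup G} (hWV : W ≤ V) (h1 : Strict W R)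
    (h2 : Strict V (R ⊓ centralizer (W : Set G))) : Strict V R := by
  have hl := relIndex_split (R := R) hWV
  have hr := relIndex_fix_split (R := R) (R₀ := R ⊓ centralizer (W : Set G)) hWV inf_le_left inf_le_right
  rcases h1 with h1 | h1
  · rcases h2 with h2 | h2
    · exact Or.inl (by rw [hl, h1, h2])
    · refine Or.inr ?_
      rw [hl, h1, one_mul]
      refine h2.trans_le (le_trans ?_ hr)
      rw [relIndex_centralizer_eq_one_comm h1, one_mul]
  · refine Or.inr ?_
    rw [hl]
    refine lt_of_lt_of_le ?_ hr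
    exact Nat.mul_lt_mul_of_lt_of_le h1 h2.le (relIndex_pos _ _)

/-- Strictness is closed under sums. -/
theorem strict_of_generated [Finite G] {ι : Type*} [Finite ι] (W : ι → Subgroup G) {V A : Subgroup G}
    (hV : V = ⨆ i, W i) (h : ∀ i, ∀ B : Subgroup G, B ≤ A → Strict (W i) B) : Strict V A := by
  classical
  cases nonempty_fintype ι
  have key : ∀ s : Finset ι, ∀ B : Subgroup G, B ≤ A → Strict (s.sup W) B := by
    intro s
    induction s using Finset.induction_on with
    | empty =>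
      intro B _
      rw [Finset.sup_empty]
      exact strict_of_le fun b _ => Subgroup.mem_centralizer_iff.mpr fun x hx => by
        rw [SetLike.mem_coe, Subgroup.mem_bot] at hx; subst hx; simp
    | insert i s hi ih =>
      intro B hB
      rw [Finset.sup_insert]
      set V₁ := s.sup W
      set B₂ := B ⊓ centralizer (V₁ : Set G) with hB₂
      refine strict_of_split le_sup_right (ih B hB) ?_
      -- the kernel acts on `W i` alone
      have hB₂A : B₂ ≤ A := inf_le_left.trans hB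
      have hsum : centralizer ((W i ⊔ V₁ : Subgroup G) : Set G) =
          centralizer (W i : Set G) ⊓ centralizer (V₁ : Set G) := by
        refine le_antisymm (le_inf (Subgroup.centralizer_le (SetLike.coe_subset_coe.mpr le_sup_left))
          (Subgroup.centralizer_le (SetLike.coe_subset_coe.mpr le_sup_right))) ?_
        exact Subgroup.le_centralizer_iff.mp (sup_le (Subgroup.le_centralizer_iff.mp inf_le_left)
          (Subgroup.le_centralizer_iff.mp inf_le_right))
      refine strict_of_split le_sup_left (h i B₂ hB₂A) (strict_of_le ?_)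
      rw [hsum]
      exact le_inf inf_le_right (inf_le_left.trans inf_le_right)
  have := key Finset.univ A le_rfl
  rwa [Finset.sup_univ_eq_iSup, ← hV] at this

/-! ### Transport -/

section Transport

variable {H : Type*} [Group H] (f : G →* H)

theorem comap_centralizer_map' (hf : Function.Injective f) (U : Subgroup G) :
    (centralizer ((U.map f : Subgroup H) : Set H)).comap f = centralizer (U : Set G) := by
  ext x
  simp only [Subgroup.mem_comap, Subgroup.mem_centralizer_iff, Subgroup.coe_map,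
    Set.forall_mem_image, ← map_mul]
  exact forall₂_congr fun z _ => hf.eq_iff

theorem mem_centralizer_map_iff (hf : Function.Injective f) {U : Subgroup G} {x : G} :
    f x ∈ centralizer ((U.map f : Subgroup H) : Set H) ↔ x ∈ centralizer (U : Set G) := by
  rw [← Subgroup.mem_comap, comap_centralizer_map' f hf]

end Transport

theorem strict_map {H : Type u} [Group H] (f : G →* H) (hf : Function.Injective f) {V R : Subgroup G} :
    Strict (V.map f) (R.map f) ↔ Strict V R := by
  rw [Strict, Strict, ← Subgroup.relIndex_comap, ← Subgroup.relIndex_comap,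
    comap_centralizer_map' f hf, comap_centralizer_map' f hf]

theorem elemOn_map {H : Type u} [Group H] (f : G →* H) (hf : Function.Injective f) {V R : Subgroup G} :
    ElemOn (R.map f) (V.map f) ↔ ElemOn R V := by
  constructor
  · intro h
    refine ⟨fun a ha b hb => ?_, fun a ha => ?_⟩
    · have := h.1 _ (mem_map_of_mem f ha) _ (mem_map_of_mem f hb)
      rwa [← map_commutatorElement, mem_centralizer_map_iff f hf] at this
    · have := h.2 _ (mem_map_of_mem f ha)
      rwa [← map_mul, mem_centralizer_map_iff f hf] at this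
  · intro h
    refine ⟨?_, ?_⟩
    · rintro _ ⟨a, ha, rfl⟩ _ ⟨b, hb, rfl⟩
      rw [← map_commutatorElement, mem_centralizer_map_iff f hf]
      exact h.1 a ha b hb
    · rintro _ ⟨a, ha, rfl⟩
      rw [← map_mul, mem_centralizer_map_iff f hf]
      exact h.2 a ha

theorem map_fixOn {H : Type u} [Group H] (f : G →* H) (hf : Function.Injective f) (V R : Subgroup G) :
    (fixOn V R).map f = fixOn (V.map f) (R.map f) := by
  ext y
  constructor
  · rintro ⟨x, ⟨hxV, hxR⟩, rfl⟩
    exact ⟨mem_map_of_mem f hxV, (mem_centralizer_map_iff f hf).2 hxR⟩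
  · rintro ⟨⟨x, hxV, rfl⟩, hy⟩
    exact ⟨x, ⟨hxV, (mem_centralizer_map_iff f hf).1 hy⟩, rfl⟩

theorem mem_fixOn_map_iff {H : Type u} [Group H] (f : G →* H) (hf : Function.Injective f)
    {V R : Subgroup G} {x : G} : f x ∈ fixOn (V.map f) (R.map f) ↔ x ∈ fixOn V R := by
  rw [← map_fixOn f hf, Subgroup.mem_map_iff_mem hf]

theorem isBad_map {H : Type u} [Group H] (f : G →* H) (hf : Function.Injective f) {V E R : Subgroup G} :
    IsBad (V.map f) (E.map f) (R.map f) ↔ IsBad V E R := by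
  have hm : ∀ (U : Subgroup G) (x : G), f x ∈ U.map f ↔ x ∈ U := fun U x => Subgroup.mem_map_iff_mem hf
  constructor
  · intro h
    refine ⟨(Subgroup.map_le_map_iff_of_injective hf).1 h.le,
      fun hc => h.ne (Subgroup.map_mono hc), fun hc => h.not_le ?_, fun v hv r hr => ?_,
      fun e he r hr => ?_, fun e he hne x hx => ?_, fun e he hne r hr hfix => ?_⟩
    · rintro _ ⟨r, hr, rfl⟩; exact (mem_centralizer_map_iff f hf).2 (hc hr)
    · have := h.comm _ (mem_map_of_mem f hv) _ (mem_map_of_mem f hr)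
      rwa [← map_commutatorElement, hm] at this
    · have := h.quad _ (mem_map_of_mem f he) _ (mem_map_of_mem f hr)
      rwa [← map_commutatorElement, mem_fixOn_map_iff f hf] at this
    · obtain ⟨_, ⟨r, hr, rfl⟩, h'⟩ :=
        h.span _ (mem_map_of_mem f he) (fun h' => hne ((hm _ _).1 h')) _ (mem_map_of_mem f hx)
      rw [← map_commutatorElement, ← map_inv, ← map_mul, mem_fixOn_map_iff f hf] at h'
      exact ⟨r, hr, h'⟩
    · refine (mem_centralizer_map_iff f hf).1
        (h.inj _ (mem_map_of_mem f he) (fun h' => hne ((hm _ _).1 h')) _ (mem_map_of_mem f hr) ?_)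
      rwa [← map_commutatorElement, mem_fixOn_map_iff f hf]
  · intro h
    refine ⟨Subgroup.map_mono h.le, fun hc => h.ne ((Subgroup.map_le_map_iff_of_injective hf).1 hc),
      fun hc => h.not_le fun r hr => (mem_centralizer_map_iff f hf).1 (hc (mem_map_of_mem f hr)),
      ?_, ?_, ?_, ?_⟩
    · rintro _ ⟨v, hv, rfl⟩ _ ⟨r, hr, rfl⟩
      rw [← map_commutatorElement, hm]; exact h.comm v hv r hr
    · rintro _ ⟨e, he, rfl⟩ _ ⟨r, hr, rfl⟩
      rw [← map_commutatorElement, mem_fixOn_map_iff f hf]; exact h.quad e he r hr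
    · rintro _ ⟨e, he, rfl⟩ hne _ ⟨x, hx, rfl⟩
      obtain ⟨r, hr, h'⟩ := h.span e he (fun h' => hne (mem_map_of_mem f h')) x hx
      refine ⟨f r, mem_map_of_mem f hr, ?_⟩
      rwa [← map_commutatorElement, ← map_inv, ← map_mul, mem_fixOn_map_iff f hf]
    · rintro _ ⟨e, he, rfl⟩ hne _ ⟨r, hr, rfl⟩ hfix
      rw [← map_commutatorElement, mem_fixOn_map_iff f hf] at hfix
      exact (mem_centralizer_map_iff f hf).2 (h.inj e he (fun h' => hne (mem_map_of_mem f h')) r hr hfix)

theorem exists_map_eq {H : Type u} [Group H] (f : G →* H) {S : Subgroup G} {R' : Subgroup H}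
    (h : R' ≤ S.map f) : ∃ R : Subgroup G, R ≤ S ∧ R.map f = R' :=
  ⟨S ⊓ R'.comap f, inf_le_left, le_antisymm (by rintro _ ⟨x, hx, rfl⟩; exact hx.2) fun y hy => by
    obtain ⟨x, hx, rfl⟩ := h hy
    exact ⟨x, ⟨hx, hy⟩, rfl⟩⟩

theorem p2_map {H : Type u} [Group H] (f : G →* H) (hf : Function.Injective f) {S V : Subgroup G} :
    P2 (S.map f) (V.map f) ↔ P2 S V := by
  constructor
  · exact fun h R hR he => (strict_map f hf).1 (h _ (Subgroup.map_mono hR) ((elemOn_map f hf).2 he))
  · intro h R' hR' he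
    obtain ⟨R, hR, rfl⟩ := exists_map_eq f hR'
    exact (strict_map f hf).2 (h R hR ((elemOn_map f hf).1 he))

theorem le_centralizer_map_iff {H : Type u} [Group H] (f : G →* H) (hf : Function.Injective f)
    {U R : Subgroup G} :
    R.map f ≤ centralizer ((U.map f : Subgroup H) : Set H) ↔ R ≤ centralizer (U : Set G) := by
  rw [Subgroup.map_le_iff_le_comap, comap_centralizer_map' f hf]

theorem notBad_map {H : Type u} [Group H] (f : G →* H) (hf : Function.Injective f) {S V Y : Subgroup G} :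
    NotBad (S.map f) (V.map f) (Y.map f) ↔ NotBad S V Y := by
  constructor
  · exact fun h R hR he hc E hE => h _ (Subgroup.map_mono hR) ((elemOn_map f hf).2 he)
      ((le_centralizer_map_iff f hf).2 hc) _ ((isBad_map f hf).2 hE)
  · intro h R' hR' he hc E' hE'
    obtain ⟨R, hR, rfl⟩ := exists_map_eq f hR'
    obtain ⟨E, -, rfl⟩ := exists_map_eq f hE'.le
    exact h R hR ((elemOn_map f hf).1 he) ((le_centralizer_map_iff f hf).1 hc) E ((isBad_map f hf).1 hE')

theorem map_conj_inv_map (g : G) (U : Subgroup G) :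
    (U.map (MulAut.conj g⁻¹).toMonoidHom).map (MulAut.conj g).toMonoidHom = U := by
  rw [Subgroup.map_map]
  have : ((MulAut.conj g).toMonoidHom.comp (MulAut.conj g⁻¹).toMonoidHom) = MonoidHom.id G :=
    MonoidHom.ext fun x => by simp [mul_assoc]
  rw [this, Subgroup.map_id]

/-- A conjugate of `V` inherits `P2` for subgroups pulled back into `S`. -/
theorem P2.conj {S V R : Subgroup G} (h : P2 S V) (g : G)
    (hR : R.map (MulAut.conj g⁻¹).toMonoidHom ≤ S)
    (he : ElemOn R (V.map (MulAut.conj g).toMonoidHom)) :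
    Strict (V.map (MulAut.conj g).toMonoidHom) R := by
  have hf := (MulAut.conj g).injective
  rw [← map_conj_inv_map g R] at he ⊢
  exact (strict_map _ hf).2 (h _ hR ((elemOn_map _ hf).1 he))

/-- A conjugate of `V` inherits `NotBad` for subgroups pulled back into `S`. -/
theorem NotBad.conj {S V Y R : Subgroup G} (h : NotBad S V Y) (g : G)
    (hR : R.map (MulAut.conj g⁻¹).toMonoidHom ≤ S)
    (he : ElemOn R (V.map (MulAut.conj g).toMonoidHom))
    (hc : R ≤ centralizer ((Y.map (MulAut.conj g).toMonoidHom : Subgroup G) : Set G)) (E : Subgroup G) :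
    ¬ IsBad (V.map (MulAut.conj g).toMonoidHom) E R := by
  intro hE
  have hf := (MulAut.conj g).injective
  rw [← map_conj_inv_map g R] at he hE hc
  rw [← map_conj_inv_map g E] at hE
  exact h _ hR ((elemOn_map _ hf).1 he) ((le_centralizer_map_iff _ hf).1 hc) _ ((isBad_map _ hf).1 hE)

/-! ### Quadratic action of a minimal non-strict subgroup -/

theorem conj_comm_of_elemOn {R V : Subgroup G} (h : ElemOn R V) (hn : R ≤ normalizer (V : Set G))
    {b c x : G} (hb : b ∈ R) (hc : c ∈ R) (hx : x ∈ V) :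
    b * (c * x * c⁻¹) * b⁻¹ = c * (b * x * b⁻¹) * c⁻¹ := by
  have hy : c * (b * x * b⁻¹) * c⁻¹ ∈ V :=
    (Subgroup.mem_normalizer_iff.1 (hn hc) _).1 ((Subgroup.mem_normalizer_iff.1 (hn hb) x).1 hx)
  have e : b * (c * x * c⁻¹) * b⁻¹ = ⁅b, c⁆ * (c * (b * x * b⁻¹) * c⁻¹) * ⁅b, c⁆⁻¹ := by
    simp only [commutatorElement_def]; group
  rw [e, ← Subgroup.mem_centralizer_iff.1 (h.1 b hb c hc) _ hy, mul_inv_cancel_right]

/-- The counting used for a map `R → M'` reflecting cosets. -/
theorem relIndex_le_of_diff [Finite G] {R H M C : Subgroup G} (φ : G → G) (hφ : ∀ b ∈ R, φ b ∈ M)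
    (hd : ∀ b ∈ R, ∀ b' ∈ R, (φ b)⁻¹ * φ b' ∈ C → b⁻¹ * b' ∈ H) :
    H.relIndex R ≤ C.relIndex M := by
  rw [Subgroup.relIndex, Subgroup.relIndex, Subgroup.index, Subgroup.index]
  choose s hs using fun q : R ⧸ H.subgroupOf R => QuotientGroup.mk_surjective q
  refine Nat.card_le_card_of_injective
    (fun q => (QuotientGroup.mk (⟨φ (s q : G), hφ _ (s q).2⟩ : M) : M ⧸ C.subgroupOf M)) fun q q' he => ?_
  rw [← hs q, ← hs q', QuotientGroup.eq]
  have he' : (⟨φ (s q : G), hφ _ (s q).2⟩ : M)⁻¹ * ⟨φ (s q' : G), hφ _ (s q').2⟩ ∈ C.subgroupOf M :=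
    QuotientGroup.eq.1 he
  exact hd _ (s q).2 _ (s q').2 he'

/-- If `[v, b] ≡ [v, b']` modulo `C_V(R)`, then `b⁻¹ b'` centralises `[v, R]`. -/
theorem diff_mem_centralizer {R V : Subgroup G} (hV : Cfsg.IsElementaryAbelian 2 V)
    (hn : R ≤ normalizer (V : Set G)) (hR : ElemOn R V) {v b b' : G} (hv : v ∈ V) (hb : b ∈ R) (hb' : b' ∈ R)
    (he' : ⁅v, b⁆⁻¹ * ⁅v, b'⁆ ∈ fixOn V R) : b⁻¹ * b' ∈ centralizer (cSpan v R : Set G) := by
  lift b to R using hb
  lift b' to R using hb'
  rw [cSpan, Subgroup.centralizer_closure, Subgroup.mem_centralizer_iff]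
  rintro _ ⟨c, rfl⟩
  set x := ⁅v, (c : G)⁆ with hx
  have key : (b : G) * x * (b : G)⁻¹ = (b' : G) * x * (b' : G)⁻¹ := by
    set d := ⁅v, (b : G)⁆⁻¹ * ⁅v, (b' : G)⁆ with hd
    have hd' : d = (b : G) * v * (b : G)⁻¹ * ((b' : G) * v * (b' : G)⁻¹)⁻¹ := by
      rw [hd]; simp only [commutatorElement_def]; group
    have hdc : (c : G) * d * (c : G)⁻¹ = d := by
      rw [(mem_fixOn.1 he').2 c c.2, mul_inv_cancel_right]
    have hvc : (c : G) * v * (c : G)⁻¹ ∈ V := (Subgroup.mem_normalizer_iff.1 (hn c.2) v).1 hv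
    have h1 : (b : G) * ((c : G) * v * (c : G)⁻¹) * (b : G)⁻¹ *
        ((b' : G) * ((c : G) * v * (c : G)⁻¹) * (b' : G)⁻¹)⁻¹ = d := by
      rw [conj_comm_of_elemOn hR hn b.2 c.2 hv, conj_comm_of_elemOn hR hn b'.2 c.2 hv]
      conv_rhs => rw [← hdc, hd']
      group
    have hbv : ∀ r : R, ∀ y ∈ V, (r : G) * y * (r : G)⁻¹ ∈ V := fun r y hy =>
      (Subgroup.mem_normalizer_iff.1 (hn r.2) y).1 hy
    set p := (b : G) * v * (b : G)⁻¹
    set p' := (b' : G) * v * (b' : G)⁻¹
    set q := (b : G) * ((c : G) * v * (c : G)⁻¹) * (b : G)⁻¹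
    set q' := (b' : G) * ((c : G) * v * (c : G)⁻¹) * (b' : G)⁻¹
    have hpq : p * p'⁻¹ = q * q'⁻¹ := by rw [h1, hd']
    have ex : ∀ r : G, r * x * r⁻¹ = r * v * r⁻¹ * (r * ((c : G) * v * (c : G)⁻¹) * r⁻¹)⁻¹ := by
      intro r; rw [hx]; simp only [commutatorElement_def]; group
    rw [ex, ex]
    show p * q⁻¹ = p' * q'⁻¹
    calc p * q⁻¹ = (p * p'⁻¹) * p' * q⁻¹ := by group
      _ = (q * q'⁻¹) * p' * q⁻¹ := by rw [hpq]
      _ = q * (q'⁻¹ * p') * q⁻¹ := by group
      _ = (q'⁻¹ * p') * q * q⁻¹ := by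
        rw [PGroups.elemAb_comm hV (hbv b _ hvc) (mul_mem (inv_mem (hbv b' _ hvc)) (hbv b' v hv))]
      _ = q'⁻¹ * p' := by group
      _ = p' * q'⁻¹ := PGroups.elemAb_comm hV (inv_mem (hbv b' _ hvc)) (hbv b' v hv)
  calc x * ((b : G)⁻¹ * b') = (b : G)⁻¹ * ((b : G) * x * (b : G)⁻¹) * b' := by group
    _ = (b : G)⁻¹ * ((b' : G) * x * (b' : G)⁻¹) * b' := by rw [key]
    _ = (b : G)⁻¹ * b' * x := by group

/-- A non-strict subgroup all whose proper subgroups are strict acts quadratically. -/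
theorem quadratic_of_minimal [Finite G] {V R : Subgroup G} (hV : Cfsg.IsElementaryAbelian 2 V)
    (hn : R ≤ normalizer (V : Set G)) (hR : ElemOn R V) (hne : ¬ R ≤ centralizer (V : Set G))
    (hbad : (centralizer (R : Set G)).relIndex V ≤ (centralizer (V : Set G)).relIndex R)
    (hp : PActsOn 2 V R)
    (hmin : ∀ H : Subgroup G, H < R → Strict V H) :
    ∀ v ∈ V, ∀ b ∈ R, ∀ c ∈ R, c * ⁅v, b⁆ = ⁅v, b⁆ * c := by
  intro v hv
  set M := cSpan v R with hM
  have hMV : M ≤ V := (Subgroup.closure_le _).2 (by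
    rintro _ ⟨b, rfl⟩; exact commutatorElement_mem (hn b.2) hv)
  set H := R ⊓ centralizer (M : Set G) with hH
  by_cases hHR : H = R
  · intro b hb c hc
    have hcH : c ∈ H := hHR.symm ▸ hc
    exact (Subgroup.mem_centralizer_iff.1 hcH.2 _
      (Subgroup.subset_closure ⟨⟨b, hb⟩, rfl⟩)).symm
  exfalso
  set C := fixOn V R with hC
  set M' := M ⊔ C with hM'
  have hM'V : M' ≤ V := sup_le hMV fixOn_le
  have hCV_H : centralizer (V : Set G) ⊓ R ≤ H :=
    le_inf inf_le_right (inf_le_left.trans (Subgroup.centralizer_le hMV))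
  -- the injection `R / H → M' / C`
  have hinj : H.relIndex R ≤ C.relIndex M' :=
    relIndex_le_of_diff (fun b => ⁅v, b⁆) (fun b hb => Subgroup.mem_sup_left
      (Subgroup.subset_closure ⟨⟨b, hb⟩, rfl⟩)) fun b hb b' hb' he =>
      ⟨R.mul_mem (inv_mem hb) hb', diff_mem_centralizer hV hn hR hv hb hb' he⟩
  -- the measures
  have hsplit : (centralizer (V : Set G)).relIndex R =
      H.relIndex R * (centralizer (V : Set G)).relIndex H := by
    have h := relIndex_mul_relIndex (R ⊓ centralizer (V : Set G)) H R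
      (by rw [inf_comm]; exact hCV_H) inf_le_left
    rw [inf_relIndex_left R (centralizer (V : Set G))] at h
    rw [← h, mul_comm]
    congr 1
    have e : R ⊓ centralizer (V : Set G) = H ⊓ centralizer (V : Set G) :=
      le_antisymm (le_inf (by rw [inf_comm]; exact hCV_H) inf_le_right) (inf_le_inf_right _ inf_le_left)
    rw [e, inf_relIndex_left]
  have hCr : (centralizer (R : Set G)).relIndex V = C.relIndex M' * M'.relIndex V := by
    rw [relIndex_mul_relIndex C M' V le_sup_right hM'V, hC]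
    exact (inf_relIndex_left V _).symm
  have hM'H : M' ≤ centralizer (H : Set G) :=
    sup_le (Subgroup.le_centralizer_iff.1 inf_le_right)
      (inf_le_right.trans (Subgroup.centralizer_le inf_le_left))
  have hkey : H.relIndex R * M'.relIndex V ≤ H.relIndex R * (centralizer (V : Set G)).relIndex H := by
    rw [← hsplit]
    exact le_trans (Nat.mul_le_mul_right _ hinj) (hCr ▸ hbad)
  have hlt : H < R := lt_of_le_of_ne inf_le_left hHR
  have hH1 : (centralizer (V : Set G)).relIndex H = 1 := by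
    refine (hmin H hlt).resolve_right (not_lt.2 ?_)
    exact (Subgroup.relIndex_le_of_le_left hM'H Subgroup.index_ne_zero_of_finite).trans
      (Nat.le_of_mul_le_mul_left hkey (relIndex_pos _ _))
  rw [hH1, mul_one] at hkey
  have hM'top : M'.relIndex V = 1 := by
    have h1 := Nat.le_of_mul_le_mul_left (hkey.trans_eq (mul_one _).symm) (relIndex_pos H R)
    have h2 := relIndex_pos M' V
    omega
  have hVM' : V ≤ M' := Subgroup.relIndex_eq_one.1 hM'top
  -- `[V, R] = [V, R, R]`
  have hMU0 : cSpan v R ≤ ⁅V, R⁆ := by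
    rw [cSpan, Subgroup.closure_le]
    rintro _ ⟨b, rfl⟩
    exact Subgroup.commutator_mem_commutator hv b.2
  have hUV : ⁅V, R⁆ ≤ V := PLocal.commutator_le_self hn
  obtain ⟨U, hU⟩ : ∃ U : Subgroup G, U = ⁅V, R⁆ := ⟨_, rfl⟩
  rw [← hM, ← hU] at hMU0
  rw [← hU] at hUV
  have hMU : M ≤ U := hMU0
  have hUn : R ≤ normalizer (U : Set G) := by
    intro r hr
    refine Subgroup.mem_normalizer_iff_map_conj_eq.2 ?_
    rw [hU, Subgroup.map_commutator, Subgroup.mem_normalizer_iff_map_conj_eq.1 (hn hr),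
      Subgroup.mem_normalizer_iff_map_conj_eq.1 (Subgroup.le_normalizer hr)]
  have hUeq : U ≤ ⁅U, R⁆ := by
    rw [hU, Subgroup.commutator_le]
    intro y hy b hb
    have hy0 : y ∈ M' := hVM' hy
    have hM'U : M' ≤ U ⊔ C := by rw [hM']; exact sup_le_sup_right hMU C
    have hy' : y ∈ ((U ⊔ C : Subgroup G) : Set G) := SetLike.mem_coe.2 (hM'U hy0)
    have hn' : C ≤ normalizer (U : Set G) := fun z hz => Subgroup.centralizer_le_normalizer _
      (Subgroup.mem_centralizer_iff.2 fun w hw => PGroups.elemAb_comm hV (hUV hw) hz.1)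
    rw [Subgroup.coe_mul_of_right_le_normalizer_left _ _ hn'] at hy'
    obtain ⟨m, hm, z, hz, rfl⟩ := hy'
    rw [commutatorElement_mul_of_comm hV.1 (hn hb) (hUV hm) hz.1,
      commutatorElement_eq_one_iff_mul_comm.2 ((mem_fixOn.1 hz).2 b hb).symm, mul_one]
    exact Subgroup.commutator_mem_commutator (show m ∈ ⁅V, R⁆ from hU ▸ SetLike.mem_coe.1 hm) hb
  haveI : Fact (Nat.Prime 2) := ⟨Nat.prime_two⟩
  have hab : ⁅R, R⁆ ≤ Subgroup.centralizer (V : Set G) := by
    rw [Subgroup.commutator_le]; exact hR.1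
  have haux := eq_bot_of_commutator_eq_self_aux (p := 2) (A := R) (V := V) hV.1
    (PGroups.elemAb_isPGroup hV) hn hp hab (Nat.card U) U
  have hU1 : U = ⊥ := haux hUV le_rfl hUn (le_antisymm (PLocal.commutator_le_self hUn) hUeq)
  exact hne (Subgroup.commutator_eq_bot_iff_le_centralizer.1 (by
    rw [Subgroup.commutator_comm, ← hU]; exact hU1))

end Cfsg.Agent.Lib.Stellmacher55
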