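import Cfsg.Agent.Lib.Stellmacher55.Layer

/-!
# Descent: a central layer

`N ≤ [P, T]`, `[N, G] ≤ N₂` and `P⁻ = C (N ∩ P⁻) ≠ C (N₂ ∩ P⁻)`.  A pair for `R` moving `Y [P, T]` gives a
contradiction unless `R ≤ T`.

Owner: helper21.
-/

set_option autoImplicit false
set_option linter.style.haveILetI false
set_option linter.unusedSectionVars false

namespace Cfsg.Agent.Lib.Stellmacher55

open PLocal GlaubermanTwo54
open scoped commutatorElement

universe u

variable {G : Type u} [Group G]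

variable [Finite G]

/-- The central layer. -/
theorem central_layer (hpo : PropPairOut.{u}) {S : Sylow 2 G} {M : Subgroup G} (cfg : Cfg S M)
    {Y P Pm R N N₂ : Subgroup G} [P.Normal] [N₂.Normal] (hP : Cfsg.IsElementaryAbelian 2 P) (hYP : Y ≤ P)
    (hSY : (S : Subgroup G) ≤ Subgroup.normalizer (Y : Set G)) (hR : Cfsg.IsElementaryAbelian 2 R)
    (hRS : R ≤ (S : Subgroup G)) (hRY : R ≤ Subgroup.centralizer (Y : Set G)) (hcfg : Config P Pm R)
    (hNM : N ≤ ⁅P, Cfsg.pCore 2 G⁆) (hNG : ⁅N, (⊤ : Subgroup G)⁆ ≤ N₂)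
    (hYn : ¬ (Y ⊔ ⁅P, Cfsg.pCore 2 G⁆).Normal)
    (hin : Pm ≤ part Pm R N) (hout : ¬ Pm ≤ part Pm R N₂) : R ≤ Cfsg.pCore 2 G := by
  classical
  haveI : Fact (Nat.Prime 2) := ⟨Nat.prime_two⟩
  set T := Cfsg.pCore 2 G with hTdef
  by_contra hRT
  set M₁ := ⁅P, T⁆ with hM₁
  haveI : M₁.Normal := Subgroup.commutator_normal P T
  have hTS : T ≤ (S : Subgroup G) := Cores.pCore_le_sylow S
  have hnN : ∀ (U : Subgroup G) [U.Normal] (x : G), x ∈ Subgroup.normalizer (U : Set G) := fun U _ x => by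
    rw [Subgroup.normalizer_eq_top]; trivial
  have hPm : Pm ≤ P := hcfg.lt.le
  have hM₁P : M₁ ≤ P := Subgroup.commutator_le_left _ _
  set St := Subgroup.normalizer ((Y ⊔ M₁ : Subgroup G) : Set G) with hSt
  have hSSt : (S : Subgroup G) ≤ St := fun s hs => by
    refine Subgroup.mem_normalizer_iff_map_conj_eq.2 ?_
    rw [Subgroup.map_sup, Subgroup.mem_normalizer_iff_map_conj_eq.1 (hSY hs),
      Subgroup.mem_normalizer_iff_map_conj_eq.1 (hnN M₁ s)]
  have hSttop : St ≠ ⊤ := fun e => hYn (Subgroup.normalizer_eq_top_iff.1 e)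
  obtain ⟨RB, a, h₀, k, p, hpr, hkM⟩ := hpo G S M cfg R hRS
    (fun a ha b hb => by
      rw [commutatorElement_eq_one_iff_mul_comm.2 (PGroups.elemAb_comm hR ha hb)]; exact one_mem _)
    (fun a ha => by rw [← pow_two, hR.2 a ha]; exact one_mem _) hRT
  have hRBR := hpr.le
  have haR := hpr.mem
  have haRB := hpr.not_mem
  have hp := hpr.prime
  have hp2 := hpr.ne_two
  have hkp : IsPGroup p (Subgroup.zpowers k) := by
    obtain ⟨i, hi⟩ := hpr.pow
    exact IsPGroup.of_card (n := i) (by rw [Nat.card_zpowers, hi])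
  have hkB := hpr.comm
  have hsz := hpr.size
  have hkSt : k ∉ St := fun hk => hkM (cfg.max St hSSt hSttop hk)
  obtain ⟨ha2, hai⟩ := inv_of_elem hR haR
  have hinv : a * k * a⁻¹ = k⁻¹ := by
    have := inverts_mod (C := (⊥ : Subgroup G)) (by rw [ha2]; exact one_mem _) hpr.zpow
    rw [Subgroup.mem_bot] at this
    exact eq_inv_of_mul_eq_one_left this
  set f := RB.relIndex R with hf
  have hf2 : 2 ≤ f := by
    have h0 : f ≠ 0 := Subgroup.index_ne_zero_of_finite
    have h1 : f ≠ 1 := fun e => haRB (Subgroup.relIndex_eq_one.1 e haR)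
    omega
  have hkodd : Odd (orderOf k) := by
    haveI : Fact p.Prime := ⟨hp⟩
    obtain ⟨n, hn⟩ := hkp.exists_card_eq
    rw [Nat.card_zpowers] at hn
    rw [hn]
    exact (hp.eq_two_or_odd'.resolve_left hp2).pow
  -- `R` centralises `Y`, so `Y ≤ P⁻`
  have hYPm : Y ≤ Pm := by
    intro e he
    by_contra hne
    refine hcfg.moved fun r hr => hcfg.sep e (hYP he) hne r hr ?_
    rw [commutatorElement_eq_one_iff_mul_comm.2 (Subgroup.mem_centralizer_iff.1 (hRY hr) e he)]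
    exact one_mem _
  -- a hyperplane over `H`
  set C := Pm ⊓ Subgroup.centralizer (R : Set G) with hC
  set H := part Pm R N₂ with hH
  have hCH : C ≤ H := le_sup_left
  have hHPm : H ≤ Pm := part_le _ _ _
  obtain ⟨x, hx, hxH⟩ := SetLike.not_le_iff_exists.1 hout
  obtain ⟨Hy, hHHy, hHyPm, hxHy, hgen⟩ := exists_hyperplane (PGroups.elemAb_mono hP hPm) hHPm hx hxH
  have hidx : Hy.relIndex Pm ≤ 2 := by
    have h1 := card_sup_zpowers (PGroups.elemAb_mono hP hPm) hHyPm hx hxHy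
    rw [← hgen] at h1
    have h2 := Subgroup.relIndex_mul_relIndex (⊥ : Subgroup G) Hy Pm bot_le hHyPm
    rw [Subgroup.relIndex_bot_left, Subgroup.relIndex_bot_left, h1, mul_comm 2] at h2
    exact (Nat.eq_of_mul_eq_mul_left Nat.card_pos h2).le
  have hquad : ∀ v ∈ Pm, ∀ t ∈ R, ⁅v, t⁆ ∈ C := fun v hv t ht =>
    ⟨hcfg.comm (Subgroup.commutator_mem_commutator (hPm hv) ht), Subgroup.mem_centralizer_iff.2 fun s hs =>
      (commutatorElement_eq_one_iff_mul_comm.1 (Subgroup.mem_bot.1 (hcfg.quad ▸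
        Subgroup.commutator_mem_commutator (Subgroup.commutator_mem_commutator hv ht) hs))).symm⟩
  set π := QuotientGroup.mk' N₂ with hπ
  have hπ1 : ∀ z : G, π z = 1 ↔ z ∈ N₂ := fun z => QuotientGroup.eq_one_iff z
  set ρ := QuotientGroup.mk' M₁ with hρ
  have hρ1 : ∀ z : G, ρ z = 1 ↔ z ∈ M₁ := fun z => QuotientGroup.eq_one_iff z
  -- the pieces
  let piece : ℕ → Subgroup G := fun i => Y.map (MulAut.conj (k ^ i)).toMonoidHom
  have hpieceP : ∀ i, piece i ≤ P := fun i =>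
    (Subgroup.map_mono hYP).trans (Subgroup.Normal.map_conj_eq P _).le
  -- the key step
  have hkey : ∀ i, ∀ e ∈ piece i, ∀ t ∈ RB, ⁅e, t⁆ ∈ Hy := by
    rintro i _ ⟨y, hy, rfl⟩ t ht
    set γ := k ^ i with hγ
    show ⁅γ * y * γ⁻¹, t⁆ ∈ Hy
    have htR : t ∈ R := hRBR ht
    set m := ⁅γ * y * γ⁻¹, t⁆ with hm
    have hmPm : m ∈ Pm := hcfg.comm (Subgroup.commutator_mem_commutator (hpieceP i ⟨y, hy, rfl⟩) htR)
    -- `γ⁻¹ t γ ∈ t T`
    set τ := t⁻¹ * (γ⁻¹ * t * γ) with hτ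
    have hτT : τ ∈ T := by
      have h1 : (QuotientGroup.mk' T) t * (QuotientGroup.mk' T) k = (QuotientGroup.mk' T) k * (QuotientGroup.mk' T) t := by
        rw [← commutatorElement_eq_one_iff_mul_comm, ← map_commutatorElement]
        exact (QuotientGroup.eq_one_iff _).2 (hkB t ht)
      have h2 : Commute ((QuotientGroup.mk' T) t) ((QuotientGroup.mk' T) γ) := by
        rw [hγ, map_pow]; exact Commute.pow_right h1 i
      rw [hτ, ← QuotientGroup.eq_one_iff, ← QuotientGroup.mk'_apply, map_mul, map_mul, map_mul, map_inv,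
        map_inv, mul_assoc _ ((QuotientGroup.mk' T) t), h2.eq, inv_mul_cancel_left, inv_mul_cancel]
    have hγt : γ⁻¹ * t * γ = t * τ := by rw [hτ, mul_inv_cancel_left]
    set m' := ⁅y, t * τ⁆ with hm'
    have hmm' : m = γ * m' * γ⁻¹ := by
      rw [hm, hm', ← hγt]; simp only [commutatorElement_def]; group
    have hm'Y : m' ∈ Y := by
      rw [hm', commutatorElement_def, mul_assoc y, mul_assoc y]
      exact Y.mul_mem hy ((Subgroup.mem_normalizer_iff.1 (hSY (mul_mem (hRS htR) (hTS hτT))) _).1 (Y.inv_mem hy))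
    have hm'M : m' ∈ M₁ := by
      rw [hm', comm_mul_right, commutatorElement_eq_one_iff_mul_comm.2
        (Subgroup.mem_centralizer_iff.1 (hRY htR) y hy), one_mul]
      exact (inferInstance : M₁.Normal).conj_mem _ (Subgroup.commutator_mem_commutator (hYP hy) hτT) t
    -- the stabiliser of `m` modulo `N₂`
    set St' := (Subgroup.centralizer ({π m} : Set (G ⧸ N₂))).comap π with hSt'
    have hmem' : ∀ g : G, g ∈ St' ↔ π g * π m = π m * π g := fun g => Subgroup.mem_centralizer_singleton_iff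
    have haSt : a ∈ St' := by
      obtain ⟨c, hc, n, hn, e⟩ := mem_part (N := N) hP hPm (hin hmPm)
      rw [hmem', e, eq_comm, ← commutatorElement_eq_one_iff_mul_comm, ← map_commutatorElement, hπ1,
        comm_part hP hPm hc hn haR]
      exact hNG (Subgroup.commutator_mem_commutator hn.1 (Subgroup.mem_top a))
    have ha'St : γ * a * γ⁻¹ ∈ St' := by
      rw [hmem', ← map_mul, ← map_mul]
      refine congrArg π ?_
      have h1 := Subgroup.mem_centralizer_iff.1 (hRY haR) m' hm'Y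
      rw [hmm']
      calc γ * a * γ⁻¹ * (γ * m' * γ⁻¹) = γ * (a * m') * γ⁻¹ := by group
        _ = γ * (m' * a) * γ⁻¹ := by rw [h1]
        _ = _ := by group
    have hγSt : γ ∈ St' := by
      have h1 : a * (γ * a * γ⁻¹) = (γ * γ)⁻¹ := by
        have hinvγ : a * γ * a⁻¹ = γ⁻¹ := by rw [hγ, ← conj_pow, hinv, inv_pow]
        calc a * (γ * a * γ⁻¹) = (a * γ * a⁻¹) * (a * a) * γ⁻¹ := by group
          _ = _ := by rw [hinvγ, ha2]; group
      have h2 : γ * γ ∈ St' := by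
        have := mul_mem haSt ha'St
        rw [h1] at this
        simpa using inv_mem this
      obtain ⟨n, hn⟩ := hkodd.of_dvd_nat (orderOf_pow_dvd (x := k) i)
      have h3 := pow_mem h2 (n + 1)
      rwa [← pow_two, ← pow_mul, show 2 * (n + 1) = orderOf γ + 1 by rw [hγ] at *; omega, pow_succ,
        pow_orderOf_eq_one, one_mul] at h3
    have hπm' : π m' = π m := by
      have h1 := (hmem' γ).1 hγSt
      have : π m' = (π γ)⁻¹ * π m * π γ := by
        rw [← map_inv, ← map_mul, ← map_mul]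
        exact congrArg π (by rw [hmm']; group)
      rw [this, mul_assoc, ← h1, inv_mul_cancel_left]
    have hn₂ : m'⁻¹ * m ∈ N₂ ⊓ Pm := by
      refine ⟨(hπ1 _).1 (by rw [map_mul, map_inv, hπm', inv_mul_cancel]), ?_⟩
      exact Pm.mul_mem (Pm.inv_mem (hYPm hm'Y)) hmPm
    have hm'C : m' ∈ C := ⟨hYPm hm'Y, Subgroup.mem_centralizer_iff.2 fun r hr =>
      (Subgroup.mem_centralizer_iff.1 (hRY hr) m' hm'Y).symm⟩
    have : m = m' * (m'⁻¹ * m) := (mul_inv_cancel_left _ _).symm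
    rw [this]
    exact hHHy (mul_mem (hCH hm'C) (Subgroup.mem_sup_right hn₂))
  -- the span
  set E := ⨆ i : ℕ, piece i with hE
  have hEP : E ≤ P := iSup_le hpieceP
  let K : Subgroup G :=
    { carrier := {v | v ∈ P ∧ ∀ t ∈ RB, ⁅v, t⁆ ∈ Hy}
      one_mem' := ⟨one_mem _, fun t _ => by rw [commutatorElement_one_left]; exact one_mem _⟩
      mul_mem' := fun {x y} hx hy => ⟨mul_mem hx.1 hy.1, fun t ht => by
        rw [comm_mul_left hP.1 hx.1 hy.1 (hnN P t)]
        exact mul_mem (hx.2 t ht) (hy.2 t ht)⟩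
      inv_mem' := fun {x} hx => ⟨inv_mem hx.1, fun t ht => by
        have e : ⁅x⁻¹, t⁆ = (⁅x, t⁆)⁻¹ := by
          refine eq_inv_of_mul_eq_one_left ?_
          rw [← comm_mul_left hP.1 (inv_mem hx.1) hx.1 (hnN P t), inv_mul_cancel, commutatorElement_one_left]
        rw [e]; exact inv_mem (hx.2 t ht)⟩ }
  have hEK : E ≤ K := iSup_le fun i e he => ⟨hpieceP i he, hkey i e he⟩
  have hEidx : Pm.relIndex E ≤ f := by
    refine pairing_le hP hEP hHyPm hidx (fun t _ => hnN P t)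
      (fun v hv t ht => hcfg.comm (Subgroup.commutator_mem_commutator (hEP hv) ht))
      (fun d hd t ht => hHHy (hCH (hquad d hd t ht))) hRBR (fun v hv => (hEK hv).2) fun v hv hall => ?_
    by_contra hvPm
    obtain ⟨t, ht, htc⟩ := hcfg.fill v (hEP hv) hvPm x hx
    refine hxHy ?_
    have e : x = ⁅v, t⁆ * (x⁻¹ * ⁅v, t⁆)⁻¹ := by group
    rw [e]
    exact mul_mem (hall t ht) (inv_mem (hHHy (hCH ⟨Pm.mul_mem (Pm.inv_mem hx)
      (hcfg.comm (Subgroup.commutator_mem_commutator (hEP hv) ht)), htc⟩)))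
  -- in `G / [P, T]`
  set X := E.map ρ with hX
  have hXel : Cfsg.IsElementaryAbelian 2 X := PGroups.elemAb_map ρ (PGroups.elemAb_mono hP hEP)
  have hfix : (Subgroup.centralizer (Subgroup.zpowers (ρ a) : Set (G ⧸ M₁))).relIndex X ≤ f := by
    rw [hX, ← Subgroup.relIndex_comap]
    refine (Subgroup.relIndex_le_of_le_left ?_ Subgroup.index_ne_zero_of_finite).trans hEidx
    intro v hv
    rw [Subgroup.mem_comap]
    have hc : ρ v * ρ a = ρ a * ρ v := by
      obtain ⟨c, hc, n, hn, rfl⟩ := mem_part (N := N) hP hPm (hin hv)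
      rw [map_mul, show ρ n = 1 from (hρ1 n).2 (hNM hn.1), mul_one, ← map_mul, ← map_mul,
        Subgroup.mem_centralizer_iff.1 hc.2 a haR]
    refine Subgroup.mem_centralizer_iff.2 ?_
    rintro _ ⟨i, rfl⟩
    exact ((show Commute (ρ v) (ρ a) from hc).zpow_right i).symm.eq
  have hkE : ∀ i, ∀ e ∈ piece i, k * e * k⁻¹ ∈ piece (i + 1) := by
    rintro i _ ⟨y, hy, rfl⟩
    refine ⟨y, hy, ?_⟩
    show k ^ (i + 1) * y * (k ^ (i + 1))⁻¹ = k * (k ^ i * y * (k ^ i)⁻¹) * k⁻¹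
    rw [pow_succ']; group
  have haE : ∀ i, ∀ e ∈ piece i, a * e * a⁻¹ ∈ E := by
    rintro i _ ⟨y, hy, rfl⟩
    obtain ⟨j, hj⟩ : ∃ j : ℕ, (k ^ i)⁻¹ = k ^ j := by
      refine ⟨(orderOf k - 1) * i, ?_⟩
      have hpos := orderOf_pos k
      refine inv_eq_of_mul_eq_one_right ?_
      rw [← pow_add, show i + (orderOf k - 1) * i = orderOf k * i by
        obtain ⟨o, ho⟩ : ∃ o, orderOf k = o + 1 := ⟨orderOf k - 1, by omega⟩
        rw [ho, Nat.add_sub_cancel]; ring, pow_mul, pow_orderOf_eq_one, one_pow]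
    refine Subgroup.mem_iSup_of_mem j ⟨y, hy, ?_⟩
    show k ^ j * y * (k ^ j)⁻¹ = a * (k ^ i * y * (k ^ i)⁻¹) * a⁻¹
    have h1 : a * y * a⁻¹ = y := by
      rw [← Subgroup.mem_centralizer_iff.1 (hRY haR) y hy, mul_inv_cancel_right]
    calc k ^ j * y * (k ^ j)⁻¹ = (k ^ i)⁻¹ * y * (k ^ i)⁻¹⁻¹ := by rw [hj]
      _ = (a * k ^ i * a⁻¹) * (a * y * a⁻¹) * (a * k ^ i * a⁻¹)⁻¹ := by
          rw [h1, ← conj_pow, hinv, inv_pow]
      _ = _ := by group
  have hnorm : ∀ g : G, (∀ i, ∀ e ∈ piece i, g * e * g⁻¹ ∈ E) → ρ g ∈ Subgroup.normalizer (X : Set (G ⧸ M₁)) := by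
    intro g hg
    refine Subgroup.le_normalizer_map ρ ⟨g, ?_, rfl⟩
    refine Subgroup.mem_normalizer_iff_map_conj_eq.2 (Subgroup.eq_of_le_of_card_ge ?_
      (Subgroup.card_map_of_injective (MulAut.conj g).injective).ge)
    rw [Subgroup.map_iSup]
    refine iSup_le fun i => ?_
    rintro _ ⟨e, he, rfl⟩
    exact hg i e he
  have hkX := hnorm k fun i e he => Subgroup.mem_iSup_of_mem (i + 1) (hkE i e he)
  have haX := hnorm a haE
  have hkodd' : Odd (orderOf (ρ k)) := hkodd.of_dvd_nat (orderOf_map_dvd ρ k)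
  have hinv' : ρ a * ρ k * (ρ a)⁻¹ = (ρ k)⁻¹ := by rw [← map_inv, ← map_mul, ← map_mul, hinv, map_inv]
  set W := commRange (comm_of_elem hXel) (ρ k) hkX with hW
  have hWX : W ≤ X := Subgroup.map_subtype_le _
  have hWne : W ≠ ⊥ := by
    intro h0
    refine hkSt ?_
    refine Subgroup.mem_normalizer_iff_map_conj_eq.2 (Subgroup.eq_of_le_of_card_ge ?_
      (Subgroup.card_map_of_injective (MulAut.conj k).injective).ge)
    rw [Subgroup.map_sup, Subgroup.mem_normalizer_iff_map_conj_eq.1 (hnN M₁ k)]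
    refine sup_le ?_ le_sup_right
    rintro _ ⟨y, hy, rfl⟩
    show k * y * k⁻¹ ∈ Y ⊔ M₁
    have hyX : ρ y ∈ X := ⟨y, Subgroup.mem_iSup_of_mem 0 ⟨y, hy, by simp⟩, rfl⟩
    have h1 : ⁅ρ y, ρ k⁆ ∈ W := (mem_commRange _ _).2 ⟨_, hyX, rfl⟩
    rw [h0, Subgroup.mem_bot, ← map_commutatorElement, hρ1] at h1
    rw [conj_eq_commutator_inv_mul]
    exact mul_mem (inv_mem (Subgroup.mem_sup_right h1)) (Subgroup.mem_sup_left hy)
  have hkp' : IsPGroup p (Subgroup.zpowers (ρ k)) := by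
    have := hkp.map ρ
    rwa [MonoidHom.map_zpowers] at this
  have hsize := size_fpf (PGroups.elemAb_mono hXel hWX) (normalizes_commRange_of_commute hXel hkX hkX rfl)
    hinv' hp hp2 hkp' (fix_commRange_eq_bot hXel hkX hkodd') hWne hsz
  have h1 := (Subgroup.relIndex_le_of_le_right hWX Subgroup.index_ne_zero_of_finite).trans hfix
  omega

end Cfsg.Agent.Lib.Stellmacher55
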