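import Mathlib.Algebra.BigOperators.Intervals
import Mathlib.Algebra.Group.End
import Mathlib.GroupTheory.OrderOfElement

/-!
# Orbit products in an elementary abelian 2-group

Owner: helper55.
-/

set_option autoImplicit false

namespace Cfsg.Agent.Lib.Stellmacher55.Orbit

open Finset

variable {V : Type*} [CommGroup V]

/-- The product of the orbit of `v` under the powers of `σ`. -/
def avg (σ : MulAut V) (n : ℕ) : V →* V where
  toFun v := ∏ i ∈ range n, (σ ^ i) v
  map_one' := by simp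
  map_mul' x y := by simp [prod_mul_distrib]

theorem avg_apply (σ : MulAut V) (n : ℕ) (v : V) : avg σ n v = ∏ i ∈ range n, (σ ^ i) v := rfl

theorem avg_apply_map {σ : MulAut V} {n : ℕ} (hn : σ ^ n = 1) (v : V) : avg σ n (σ v) = avg σ n v := by
  rw [avg_apply, avg_apply]
  have h1 : ∏ i ∈ range n, (σ ^ i) (σ v) = ∏ i ∈ range n, (σ ^ (i + 1)) v := by
    refine prod_congr rfl fun i _ => ?_
    rw [pow_succ]; rfl
  rw [h1]
  have h2 := (prod_range_succ' (fun i => (σ ^ i) v) n).symm.trans (prod_range_succ (fun i => (σ ^ i) v) n)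
  rw [hn, pow_zero] at h2
  exact mul_right_cancel h2

theorem map_avg {σ : MulAut V} {n : ℕ} (hn : σ ^ n = 1) (v : V) : σ (avg σ n v) = avg σ n v := by
  conv_rhs => rw [← avg_apply_map hn v]
  rw [avg_apply, avg_apply, map_prod]
  refine prod_congr rfl fun i _ => ?_
  show (σ * σ ^ i) v = (σ ^ i * σ) v
  rw [← pow_succ, pow_succ']

theorem pow_odd {n : ℕ} (hodd : Odd n) (h2 : ∀ v : V, v * v = 1) (v : V) : v ^ n = v := by
  obtain ⟨h, rfl⟩ := hodd
  rw [pow_succ, pow_mul, pow_two, h2, one_pow, one_mul]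

theorem avg_of_fixed {σ : MulAut V} {n : ℕ} (hodd : Odd n) (h2 : ∀ v : V, v * v = 1) {x : V} (hx : σ x = x) :
    avg σ n x = x := by
  have h : ∀ i : ℕ, (σ ^ i) x = x := fun i => by
    induction i with
    | zero => rfl
    | succ i ih => rw [pow_succ]; show (σ ^ i) (σ x) = x; rw [hx, ih]
  rw [avg_apply]
  simp only [h, prod_const, card_range]
  exact pow_odd hodd h2 x

/-- A homomorphism invariant under `σ` and killing the fixed points is trivial. -/
theorem eq_one_of_invariant {σ : MulAut V} {n : ℕ} (hn : σ ^ n = 1) (hodd : Odd n)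
    (h2 : ∀ v : V, v * v = 1) {f : V →* V} {U : Subgroup V} (hU : ∀ v ∈ U, σ v ∈ U)
    (hinv : ∀ v ∈ U, f (σ v) = f v) (hfix : ∀ x ∈ U, σ x = x → f x = 1) {v : V} (hv : v ∈ U) : f v = 1 := by
  have hmem : ∀ i : ℕ, (σ ^ i) v ∈ U ∧ f ((σ ^ i) v) = f v := by
    intro i
    induction i with
    | zero => exact ⟨hv, rfl⟩
    | succ i ih =>
      rw [pow_succ']
      exact ⟨hU _ ih.1, (hinv _ ih.1).trans ih.2⟩
  have havg : avg σ n v ∈ U := by rw [avg_apply]; exact prod_mem fun i _ => (hmem i).1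
  have h1 := hfix _ havg (map_avg hn v)
  rw [avg_apply, map_prod, prod_congr rfl fun i _ => (hmem i).2] at h1
  simpa [pow_odd hodd h2] using h1

/-- `f` vanishes on the orbit product of `y` when an involution `α` reverses the orbit and fixes the values
of `f`. -/
theorem map_avg_eq_one {σ α : MulAut V} {n : ℕ} (hn : σ ^ n = 1) (hodd : Odd n) (h2 : ∀ v : V, v * v = 1)
    {f : V →* V} {y : V} (hy : f y = 1) (hαy : α y = y) (hαinv : α * σ * α⁻¹ = σ⁻¹)
    (hfα : ∀ i : ℕ, f (α ((σ ^ i) y)) = f ((σ ^ i) y)) : f (avg σ n y) = 1 := by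
  obtain ⟨h, rfl⟩ := hodd
  have hsym : ∀ j, j ≤ 2 * h + 1 → f ((σ ^ (2 * h + 1 - j)) y) = f ((σ ^ j) y) := by
    intro j hj
    rw [← hfα j]
    congr 1
    have e : α * σ ^ j * α⁻¹ = σ ^ (2 * h + 1 - j) := by
      rw [← conj_pow, hαinv, inv_pow, inv_eq_iff_mul_eq_one, ← pow_add, Nat.add_sub_cancel' hj, hn]
    rw [← e]
    show α ((σ ^ j) (α⁻¹ y)) = _
    rw [show α⁻¹ y = y by rw [← hαy, MulAut.inv_apply_self, hαy]]
  rw [avg_apply, map_prod, prod_range_succ', pow_zero]
  simp only [MulAut.one_apply, hy, mul_one]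
  rw [two_mul, prod_range_add]
  have h3 : ∏ i ∈ range h, f ((σ ^ (h + i + 1)) y) = ∏ i ∈ range h, f ((σ ^ (i + 1)) y) := by
    rw [← prod_range_reflect (fun i => f ((σ ^ (i + 1)) y)) h]
    refine prod_congr rfl fun i hi => ?_
    rw [mem_range] at hi
    rw [← hsym (h - 1 - i + 1) (by omega), show 2 * h + 1 - (h - 1 - i + 1) = h + i + 1 by omega]
  rw [h3, ← prod_mul_distrib]
  simp [h2]

end Cfsg.Agent.Lib.Stellmacher55.Orbit
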