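import Cfsg.Agent.Lib.Stellmacher55.Maximal
import Cfsg.Agent.Lib.Stellmacher55.Orbit
import Cfsg.Agent.Lib.GlaubermanTwo54.Bound

/-!
# `P2` passes to the normal closure

`p2_normalClosure`: see `notes/stellmacher_helper55.md`.  For a minimal counterexample `R` and a pair
`(B, a, k)` with `k ∉ N(Y)` let `V₁ = ⟨Y ^ ⟨k⟩⟩`, `C₀ = C_{V₁}(k)` and `N` the subgroup of `O₂(G) B` mapping
`V₁` into `C₀` and fixing `C₀`.  Then `[V₁, B] ≤ C₀`, `|N : C_N(V₁)| < |V₁ : C₀|` are both congruent to `1`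
modulo `p`, and `|V₁ : C_{V₁}(a)| ≤ |R : B| |B : C_B(V₁)|`; this contradicts the size of the pair.

Owner: helper55.
-/

set_option autoImplicit false
set_option linter.style.haveILetI false
set_option linter.unusedSectionVars false
set_option linter.unusedVariables false

namespace Cfsg.Agent.Lib.Stellmacher55

open Subgroup PLocal
open scoped commutatorElement

universe u

variable {G : Type u} [Group G] [Finite G]

/-- A power of `k` which is not a power of `k ^ p` generates `⟨k⟩`. -/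
theorem mem_zpowers_pow {k : G} {p m i : ℕ} (hp : p.Prime) (hk : orderOf k = p ^ m) (hi : ¬ p ∣ i) :
    k ∈ zpowers (k ^ i) := by
  obtain ⟨j, hj⟩ := exists_pow_eq_self_of_coprime (n := i) (x := k)
    (by rw [hk]; exact Nat.Coprime.pow_right m ((hp.coprime_iff_not_dvd.2 hi).symm))
  exact ⟨(j : ℤ), by simp only [zpow_natCast]; exact hj⟩

/-- The last power of `k` outside `N`. -/
theorem exists_last_power {k : G} {N : Subgroup G} {p m : ℕ} (hk : orderOf k = p ^ m) (hkN : k ∉ N) :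
    ∃ j : ℕ, k ^ p ^ j ∉ N ∧ (k ^ p ^ j) ^ p ∈ N := by
  by_contra hcon
  push Not at hcon
  have : ∀ j : ℕ, k ^ p ^ j ∉ N := by
    intro j
    induction j with
    | zero => simpa using hkN
    | succ j ih => rw [pow_succ, pow_mul]; exact hcon j ih
  exact this m (by rw [← hk, pow_orderOf_eq_one]; exact one_mem _)

/-- The fixed points of a `p`-element on an invariant subgroup are congruent to its order. -/
theorem modEq_card_fix {W : Subgroup G} {k : G} {p m : ℕ} (hp : p.Prime) (hk : orderOf k = p ^ m)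
    (hW : k ∈ normalizer (W : Set G)) :
    Nat.card W ≡ Nat.card ↥(W ⊓ centralizer ({k} : Set G)) [MOD p] := by
  haveI : Fact p.Prime := ⟨hp⟩
  have hP : IsPGroup p (zpowers k) := IsPGroup.of_card (n := m) (by rw [Nat.card_zpowers, hk])
  have hle : zpowers k ≤ normalizer (W : Set G) := zpowers_le.2 hW
  letI : MulAction (zpowers k) W :=
    { smul := fun g w => ⟨(g : G) * w * (g : G)⁻¹, (mem_normalizer_iff.1 (hle g.2) _).1 w.2⟩
      one_smul := fun w => Subtype.ext (by
        show ((1 : zpowers k) : G) * w * ((1 : zpowers k) : G)⁻¹ = w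
        simp)
      mul_smul := fun g g' w => Subtype.ext (by
        show ((g * g' : zpowers k) : G) * w * ((g * g' : zpowers k) : G)⁻¹ =
          (g : G) * ((g' : G) * w * (g' : G)⁻¹) * (g : G)⁻¹
        rw [Subgroup.coe_mul]; group) }
  refine (hP.card_modEq_card_fixedPoints W).trans (congrArg (· % p) ?_)
  refine Nat.card_congr
    { toFun := fun w => ⟨(w.1 : G), w.1.2, ?_⟩
      invFun := fun w => ⟨⟨(w : G), w.2.1⟩, fun g => Subtype.ext ?_⟩
      left_inv := fun w => rfl
      right_inv := fun w => rfl }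
  · have h := congrArg Subtype.val (w.2 ⟨k, mem_zpowers k⟩)
    exact mem_centralizer_singleton_iff.2 (mul_inv_eq_iff_eq_mul.1 h).symm
  · show (g : G) * w * (g : G)⁻¹ = w
    obtain ⟨i, hi⟩ := g.2
    rw [← hi]
    have : Commute k (w : G) := (mem_centralizer_singleton_iff.1 w.2.2).symm
    rw [(this.zpow_left i).eq, mul_inv_cancel_right]

/-- A power of 2 times a unit. -/
theorem modEq_one_of_mul {q c p : ℕ} {i : ℕ} (hp : p.Prime) (hp2 : p ≠ 2) (hc : c = 2 ^ i)
    (h : q * c ≡ c [MOD p]) : q ≡ 1 [MOD p] := by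
  refine Nat.ModEq.cancel_right_of_coprime (c := c) ?_ (by rwa [one_mul])
  rw [hc]
  exact Nat.Coprime.pow_right i ((Nat.coprime_primes hp Nat.prime_two).2 hp2)

/-- The contradiction from a pair moving `Y`. -/
theorem false_of_pair {S : Sylow 2 G} {V Y R B : Subgroup G} [V.Normal]
    (hV : Cfsg.IsElementaryAbelian 2 V) (hYV : Y ≤ V) (hY : (S : Subgroup G) ≤ normalizer (Y : Set G))
    (hp2 : P2 (S : Subgroup G) Y) (hRS : R ≤ (S : Subgroup G)) (hel : ElemOn R V)
    (hquad : ∀ v ∈ V, ∀ b ∈ R, ∀ c ∈ R, c * ⁅v, b⁆ = ⁅v, b⁆ * c)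
    (hRY : R ≤ centralizer (Y : Set G)) (hSC : (S : Subgroup G) ⊓ centralizer (V : Set G) ≤ Cfsg.pCore 2 G)
    (hmin : ∀ H : Subgroup G, H < R → Strict V H)
    (hbad : (centralizer (R : Set G)).relIndex V ≤ (centralizer (V : Set G)).relIndex R)
    (hBR : B ≤ R) (hRB : R ⊓ Cfsg.pCore 2 G ≤ B) {a k : G} (ha : a ∈ R) (haB : a ∉ B)
    (hinv : a * k * a⁻¹ * k ∈ centralizer (V : Set G)) {p m : ℕ} (hp : p.Prime) (hp2' : p ≠ 2)
    (hk : orderOf k = p ^ m) (hkY : k ∉ normalizer (Y : Set G)) (hkpY : k ^ p ∈ normalizer (Y : Set G))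
    (hcomm : ∀ b ∈ B, ⁅b, k⁆ ∈ Cfsg.pCore 2 G) (hsize : PairSize (B.relIndex R) p) : False := by
  classical
  haveI : Fact (Nat.Prime 2) := ⟨Nat.prime_two⟩
  set T := Cfsg.pCore 2 G with hT
  have hTS : T ≤ (S : Subgroup G) := pCore_le S
  have hodd : Odd (orderOf k) := by rw [hk]; exact (hp.odd_of_ne_two hp2').pow
  letI : CommGroup V := { (inferInstance : Group V) with
    mul_comm := fun x y => Subtype.ext (PGroups.elemAb_comm hV x.2 y.2) }
  have h2 : ∀ v : V, v * v = 1 := fun v => Subtype.ext (by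
    rw [Subgroup.coe_mul, ← pow_two]; exact hV.2 _ v.2)
  have hn : ∀ x : G, x ∈ normalizer (V : Set G) := fun x => by rw [normalizer_eq_top]; trivial
  let cj : G →* MulAut V := MulAut.conjNormal
  have cj_coe : ∀ (g : G) (v : V), ((cj g v : V) : G) = g * v * g⁻¹ := fun g v => MulAut.conjNormal_apply g v
  let f : G → (V →* V) := fun x => commHom hV.1 x (hn x)
  have f_coe : ∀ (x : G) (v : V), ((f x v : V) : G) = ⁅(v : G), x⁆ := fun x v => rfl
  have f_eq : ∀ (x : G) (v : V), f x v = v * (cj x v)⁻¹ := fun x v => Subtype.ext (by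
    rw [f_coe, Subgroup.coe_mul, Subgroup.coe_inv, cj_coe]
    simp only [commutatorElement_def]; group)
  have f_mul : ∀ (x y : G) (v : V), f (x * y) v = f x v * cj x (f y v) := fun x y v => by
    simp only [f_eq, map_mul, map_inv, MulAut.mul_apply]
    group
  have f_conj : ∀ (g x : G) (v : V), cj g (f x v) = f (g * x * g⁻¹) (cj g v) := fun g x v => by
    simp only [f_eq, map_mul, map_inv, MulAut.mul_apply, MulAut.inv_apply_self]
  have f_congr : ∀ {x y : G}, cj x = cj y → f x = f y := fun {x y} h => MonoidHom.ext fun v => by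
    rw [f_eq, f_eq, h]
  have cj_ker : ∀ {c : G}, c ∈ centralizer (V : Set G) → cj c = 1 := fun {c} hc => by
    refine MulEquiv.ext fun v => Subtype.ext ?_
    rw [cj_coe, MulAut.one_apply, ← mem_centralizer_iff.1 hc v v.2, mul_inv_cancel_right]
  have hαinv : cj a * cj k * (cj a)⁻¹ = (cj k)⁻¹ := by
    rw [eq_inv_iff_mul_eq_one, ← map_inv, ← map_mul, ← map_mul, ← map_mul]
    exact cj_ker hinv
  have hcommR : ∀ r ∈ R, ∀ s ∈ R, cj (r * s * r⁻¹) = cj s := fun r hr s hs => by
    have := cj_ker (hel.1 r hr s hs)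
    rw [show ⁅r, s⁆ = r * s * r⁻¹ * s⁻¹ from rfl, map_mul, map_inv, mul_inv_eq_one] at this
    exact this
  have hαfix : ∀ t ∈ R, ∀ s ∈ R, ∀ v : V, cj s (f t v) = f t v := fun t ht s hs v => Subtype.ext (by
    rw [cj_coe, f_coe, hquad v v.2 t ht s hs, mul_inv_cancel_right])
  have hσn : cj k ^ orderOf k = 1 := by rw [← map_pow, pow_orderOf_eq_one, map_one]
  -- the span of the orbit of `Y`
  set W : Fin (orderOf k) → Subgroup G := fun i => Y.map (MulAut.conj (k ^ (i : ℕ))).toMonoidHom with hW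
  obtain ⟨V₁, hV₁⟩ : ∃ V₁ : Subgroup G, V₁ = ⨆ i, W i := ⟨_, rfl⟩
  have hpiece : ∀ i : ℕ, Y.map (MulAut.conj (k ^ i)).toMonoidHom ≤ V₁ := fun i => by
    rw [hV₁, ← pow_mod_orderOf]
    exact le_iSup W ⟨i % orderOf k, Nat.mod_lt _ (orderOf_pos k)⟩
  have hYV₁ : Y ≤ V₁ := fun y hy => hpiece 0 ⟨y, hy, by simp⟩
  have hV₁V : V₁ ≤ V := by
    rw [hV₁]
    refine iSup_le fun i => ?_
    rintro _ ⟨y, hy, rfl⟩
    exact (inferInstance : V.Normal).conj_mem y (hYV hy) _
  obtain ⟨U, hU⟩ : ∃ U : Subgroup V, U = V₁.subgroupOf V := ⟨_, rfl⟩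
  have hmemU : ∀ {v : V}, v ∈ U ↔ (v : G) ∈ V₁ := fun {v} => by rw [hU]; exact Subgroup.mem_subgroupOf
  have hgen : ∀ (P : V → Prop), (∀ (i : ℕ) (y : V), (y : G) ∈ Y → P ((cj k ^ i) y)) →
      (∀ x y, P x → P y → P (x * y)) → P 1 → ∀ v ∈ U, P v := by
    intro P hg hmul hone v hv
    have key : ∀ x ∈ V₁, ∃ h : x ∈ V, P ⟨x, h⟩ := by
      intro x hx
      rw [hV₁] at hx
      refine Subgroup.iSup_induction (C := fun x => ∃ h : x ∈ V, P ⟨x, h⟩) W hx ?_ ⟨one_mem _, hone⟩ ?_
      · rintro i _ ⟨y, hy, rfl⟩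
        refine ⟨(inferInstance : V.Normal).conj_mem y (hYV hy) _, ?_⟩
        convert hg i ⟨y, hYV hy⟩ hy using 1
        refine Subtype.ext ?_
        rw [← map_pow, cj_coe]
        rfl
      · rintro x y ⟨hx, hx'⟩ ⟨hy, hy'⟩
        exact ⟨V.mul_mem hx hy, hmul _ _ hx' hy'⟩
    obtain ⟨h, h'⟩ := key v (hmemU.1 hv)
    exact h'
  have hσU : ∀ v ∈ U, cj k v ∈ U := by
    intro v hv
    refine hgen (fun v => cj k v ∈ U) (fun i y hy => ?_) (fun x y hx hy => ?_) ?_ v hv
    · show (cj k * cj k ^ i) y ∈ U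
      rw [← pow_succ', hmemU, ← map_pow, cj_coe]
      exact hpiece (i + 1) ⟨y, hy, rfl⟩
    · rw [map_mul]; exact U.mul_mem hx hy
    · rw [map_one]; exact U.one_mem
  have hσiU : ∀ (i : ℕ), ∀ v ∈ U, (cj k ^ i) v ∈ U := by
    intro i
    induction i with
    | zero => exact fun v hv => hv
    | succ i ih => intro v hv; rw [pow_succ']; exact hσU _ (ih v hv)
  have hYU : ∀ {v : V}, (v : G) ∈ Y → v ∈ U := fun {v} hv => hmemU.2 (hYV₁ hv)
  have hfixY : ∀ {r : G}, r ∈ R → ∀ y : V, (y : G) ∈ Y → cj r y = y := fun {r} hr y hy => Subtype.ext (by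
    rw [cj_coe, ← mem_centralizer_iff.1 (hRY hr) y hy, mul_inv_cancel_right])
  have hfY : ∀ {r : G}, r ∈ R → ∀ y : V, (y : G) ∈ Y → f r y = 1 := fun {r} hr y hy => by
    rw [f_eq, hfixY hr y hy, mul_inv_cancel]
  have hαpow : ∀ (i : ℕ) (v : V), cj a ((cj k ^ i) v) = ((cj k)⁻¹ ^ i) (cj a v) := by
    intro i v
    rw [← hαinv, conj_pow, MulAut.mul_apply, MulAut.mul_apply, MulAut.inv_apply_self]
  have hαU : ∀ v ∈ U, cj a v ∈ U := by
    intro v hv
    refine hgen (fun v => cj a v ∈ U) (fun i y hy => ?_) (fun x y hx hy => ?_) ?_ v hv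
    · show cj a ((cj k ^ i) y) ∈ U
      rw [hαpow, hfixY ha y hy]
      have e : (cj k)⁻¹ = cj k ^ (orderOf k - 1) := by
        rw [inv_eq_iff_mul_eq_one, ← pow_succ', Nat.sub_add_cancel (orderOf_pos k), hσn]
      rw [e, ← pow_mul]
      exact hσiU _ _ (hYU hy)
    · rw [map_mul]; exact U.mul_mem hx hy
    · rw [map_one]; exact U.one_mem
  -- `[V₁, t]` consists of fixed points of `k`
  have key1 : ∀ t ∈ B, ∀ v ∈ U, f t v ∈ U ∧ cj k (f t v) = f t v := by
    intro t ht v hv
    have htR := hBR ht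
    refine hgen (fun v => f t v ∈ U ∧ cj k (f t v) = f t v) (fun i y hy => ?_)
      (fun x y hx hy => ?_) ?_ v hv
    · by_cases hpi : p ∣ i
      · have hki : k ^ i ∈ normalizer (Y : Set G) := by
          obtain ⟨c, rfl⟩ := hpi
          rw [pow_mul]; exact pow_mem hkpY c
        have hmemY : (((cj k ^ i) y : V) : G) ∈ Y := by
          rw [← map_pow, cj_coe]; exact (mem_normalizer_iff.1 hki _).1 hy
        rw [hfY htR _ hmemY]
        exact ⟨U.one_mem, map_one _⟩
      · obtain ⟨τ, hτ, hgt⟩ : ∃ τ ∈ T, (k ^ i)⁻¹ * t * k ^ i = t * τ := by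
          refine ⟨t⁻¹ * ((k ^ i)⁻¹ * t * k ^ i), ?_, by group⟩
          haveI : T.Normal := hT ▸ inferInstance
          have hc : Commute (QuotientGroup.mk t : G ⧸ T) (QuotientGroup.mk (k ^ i)) := by
            rw [QuotientGroup.mk_pow]
            refine Commute.pow_right ?_ i
            refine commutatorElement_eq_one_iff_mul_comm.1 ?_
            rw [← QuotientGroup.mk'_apply, ← QuotientGroup.mk'_apply, ← map_commutatorElement,
              QuotientGroup.mk'_apply, QuotientGroup.eq_one_iff]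
            exact hcomm t ht
          rw [← QuotientGroup.eq_one_iff]
          simp only [QuotientGroup.mk_mul, QuotientGroup.mk_inv] at hc ⊢
          rw [mul_assoc ((QuotientGroup.mk (k ^ i) : G ⧸ T))⁻¹, hc.eq, inv_mul_cancel_left, inv_mul_cancel]
        have hz : ((f τ y : V) : G) ∈ Y := by
          rw [f_coe]; exact commutatorElement_mem (hY (hTS hτ)) hy
        have hc : f t ((cj k ^ i) y) = (cj k ^ i) (f τ y) := by
          have h1 := f_conj (k ^ i) ((k ^ i)⁻¹ * t * k ^ i) y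
          rw [show k ^ i * ((k ^ i)⁻¹ * t * k ^ i) * (k ^ i)⁻¹ = t by group, hgt, f_mul, hfY htR y hy,
            hfixY htR _ hz, one_mul, map_pow] at h1
          exact h1.symm
        have hzfix : cj k (f τ y) = f τ y := by
          have h1 : cj a (f t ((cj k ^ i) y)) = f t ((cj k ^ i) y) := hαfix t htR a ha _
          rw [hc, hαpow, hfixY ha _ hz, inv_pow] at h1
          have h2' : (cj k ^ (i + i)) (f τ y) = f τ y := by
            rw [pow_add, MulAut.mul_apply]
            conv_lhs => rw [← h1]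
            rw [MulAut.apply_inv_self]
          have h3 : k ^ (i + i) ∈ centralizer ({((f τ y : V) : G)} : Set G) := by
            rw [mem_centralizer_singleton_iff, ← mul_inv_eq_iff_eq_mul, ← cj_coe, map_pow, h2']
          have h4 : k ∈ centralizer ({((f τ y : V) : G)} : Set G) := by
            refine (zpowers_le.2 h3) (mem_zpowers_pow hp hk fun hd => ?_)
            rw [← two_mul] at hd
            rcases hp.dvd_mul.1 hd with hd | hd
            · exact hp2' ((Nat.prime_dvd_prime_iff_eq hp Nat.prime_two).1 hd)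
            · exact hpi hd
          refine Subtype.ext ?_
          rw [cj_coe, mul_inv_eq_iff_eq_mul]
          exact mem_centralizer_singleton_iff.1 h4
        have hz' : ∀ j : ℕ, (cj k ^ j) (f τ y) = f τ y := fun j => by
          induction j with
          | zero => rfl
          | succ j ih => rw [pow_succ, MulAut.mul_apply, hzfix, ih]
        rw [hc, hz']
        exact ⟨hYU hz, hzfix⟩
    · rw [map_mul, map_mul, hx.2, hy.2]; exact ⟨U.mul_mem hx.1 hy.1, rfl⟩
    · rw [map_one, map_one]; exact ⟨U.one_mem, rfl⟩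
  -- `R` centralises the fixed points of `k`
  have key2 : ∀ r ∈ R, ∀ v ∈ U, cj k v = v → f r v = 1 := by
    intro r hr v hv hfix
    have h1 : f r (Orbit.avg (cj k) (orderOf k) v) = 1 := by
      refine hgen (fun v => f r (Orbit.avg (cj k) (orderOf k) v) = 1) (fun i y hy => ?_)
        (fun x y hx hy => by rw [map_mul, map_mul, hx, hy, one_mul]) (by rw [map_one, map_one]) v hv
      have e : Orbit.avg (cj k) (orderOf k) ((cj k ^ i) y) = Orbit.avg (cj k) (orderOf k) y := by
        induction i with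
        | zero => rfl
        | succ i ih => rw [pow_succ', MulAut.mul_apply, Orbit.avg_apply_map hσn, ih]
      rw [e]
      refine Orbit.map_avg_eq_one hσn hodd h2 (hfY hr y hy) (hfixY ha y hy) hαinv fun j => ?_
      have h3 := f_conj a r ((cj k ^ j) y)
      rw [hαfix r hr a ha, f_congr (hcommR a ha r hr)] at h3
      exact h3.symm
    rwa [Orbit.avg_of_fixed hodd h2 hfix] at h1
  -- the subgroup `N`
  haveI : T.Normal := hT ▸ inferInstance
  have hTBS : T ⊔ B ≤ (S : Subgroup G) := sup_le hTS (hBR.trans hRS)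
  have f_add : ∀ {x y : G}, (∀ v ∈ U, f y v ∈ U ∧ cj k (f y v) = f y v) →
      (∀ v ∈ U, cj k v = v → f x v = 1) → ∀ v ∈ U, f (x * y) v = f x v * f y v := by
    intro x y hy hx v hv
    have h1 := hx _ (hy v hv).1 (hy v hv).2
    rw [f_eq, mul_inv_eq_one] at h1
    rw [f_mul, ← h1]
  let N : Subgroup G :=
    { carrier := {x | x ∈ T ⊔ B ∧ (∀ v ∈ U, f x v ∈ U ∧ cj k (f x v) = f x v) ∧
        ∀ v ∈ U, cj k v = v → f x v = 1}
      one_mem' := by
        have h1 : ∀ v, f 1 v = 1 := fun v => by rw [f_eq, map_one, MulAut.one_apply, mul_inv_cancel]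
        exact ⟨one_mem _, fun v _ => by rw [h1, map_one]; exact ⟨U.one_mem, rfl⟩, fun v _ _ => h1 v⟩
      mul_mem' := by
        rintro x y ⟨hx0, hx1, hx2⟩ ⟨hy0, hy1, hy2⟩
        refine ⟨mul_mem hx0 hy0, fun v hv => ?_, fun v hv hfix => ?_⟩
        · rw [f_add hy1 hx2 v hv, map_mul, (hx1 v hv).2, (hy1 v hv).2]
          exact ⟨U.mul_mem (hx1 v hv).1 (hy1 v hv).1, rfl⟩
        · rw [f_add hy1 hx2 v hv, hx2 v hv hfix, hy2 v hv hfix, one_mul]
      inv_mem' := by
        rintro x ⟨hx0, hx1, hx2⟩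
        have h1 : ∀ v ∈ U, f x⁻¹ v = (f x v)⁻¹ := by
          intro v hv
          have h2 := f_mul x x⁻¹ v
          rw [mul_inv_cancel, f_eq, map_one, MulAut.one_apply, mul_inv_cancel] at h2
          apply (cj x).injective
          have h3 := hx2 _ (hx1 v hv).1 (hx1 v hv).2
          rw [f_eq, mul_inv_eq_one] at h3
          rw [map_inv, ← h3]
          exact (eq_inv_of_mul_eq_one_right h2.symm)
        refine ⟨inv_mem hx0, fun v hv => ?_, fun v hv hfix => ?_⟩
        · rw [h1 v hv, map_inv, (hx1 v hv).2]; exact ⟨U.inv_mem (hx1 v hv).1, rfl⟩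
        · rw [h1 v hv, hx2 v hv hfix, inv_one] }
  have hBN : B ≤ N := fun t ht => ⟨mem_sup_right ht, key1 t ht, key2 t (hBR ht)⟩
  have hNS : N ≤ (S : Subgroup G) := fun x hx => hTBS hx.1
  have hfN : ∀ {x y : G}, x ∈ N → y ∈ N → ∀ v ∈ U, f (x * y) v = f x v * f y v :=
    fun {x y} hx hy => f_add hy.2.1 hx.2.2
  have hfNinv : ∀ {x : G}, x ∈ N → ∀ v ∈ U, f x⁻¹ v = (f x v)⁻¹ := fun {x} hx v hv => by
    refine eq_inv_of_mul_eq_one_right ?_
    rw [← hfN hx (N.inv_mem hx) v hv, mul_inv_cancel, f_eq, map_one, MulAut.one_apply, mul_inv_cancel]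
  have hC1 : ∀ {x : G}, (∀ v ∈ U, f x v = 1) → x ∈ centralizer (V₁ : Set G) := by
    intro x hx
    refine mem_centralizer_iff.2 fun v hv => ?_
    have h1 := congrArg Subtype.val (hx ⟨v, hV₁V hv⟩ (hmemU.2 hv))
    rw [f_coe, OneMemClass.coe_one, commutatorElement_eq_one_iff_mul_comm] at h1
    exact h1
  have hC1' : ∀ {x : G}, x ∈ centralizer (V₁ : Set G) → ∀ v ∈ U, f x v = 1 := by
    intro x hx v hv
    refine Subtype.ext ?_
    rw [f_coe, OneMemClass.coe_one, commutatorElement_eq_one_iff_mul_comm]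
    exact mem_centralizer_iff.1 hx v (hmemU.1 hv)
  have hNel : ElemOn N V₁ := by
    refine ⟨fun x hx y hy => hC1 fun v hv => ?_, fun x hx => hC1 fun v hv => ?_⟩
    · rw [show ⁅x, y⁆ = x * y * (x⁻¹ * y⁻¹) by simp only [commutatorElement_def]; group,
        hfN (N.mul_mem hx hy) (N.mul_mem (N.inv_mem hx) (N.inv_mem hy)) v hv, hfN hx hy v hv,
        hfN (N.inv_mem hx) (N.inv_mem hy) v hv, hfNinv hx v hv, hfNinv hy v hv, mul_mul_mul_comm,
        mul_inv_cancel, mul_inv_cancel, one_mul]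
    · rw [hfN hx hx v hv, h2]
  -- `k` normalises `V₁` and `N`
  have hkV₁ : k ∈ normalizer (V₁ : Set G) := by
    refine PGroups.mem_normalizer_of_map_conj_eq (Subgroup.eq_of_le_of_card_ge ?_
      (Subgroup.card_map_of_injective (MulAut.conj k).injective).ge)
    rintro _ ⟨v, hv, rfl⟩
    have h1 := hmemU.1 (hσU ⟨v, hV₁V hv⟩ (hmemU.2 hv))
    rwa [cj_coe] at h1
  have hpre : ∀ {v : V}, v ∈ U → (cj k)⁻¹ v ∈ U := by
    intro v hv
    rw [show (cj k)⁻¹ = cj k ^ (orderOf k - 1) by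
      rw [inv_eq_iff_mul_eq_one, ← pow_succ', Nat.sub_add_cancel (orderOf_pos k), hσn]]
    exact hσiU _ v hv
  have hkTB : ∀ x ∈ T ⊔ B, k * x * k⁻¹ ∈ T ⊔ B := by
    have : T ⊔ B ≤ (T ⊔ B).comap (MulAut.conj k).toMonoidHom := by
      refine sup_le (fun x hx => ?_) fun x hx => ?_
      · exact mem_sup_left ((inferInstance : T.Normal).conj_mem x hx k)
      · show k * x * k⁻¹ ∈ T ⊔ B
        rw [show k * x * k⁻¹ = ⁅k, x⁆ * x by simp only [commutatorElement_def]; group]
        exact mul_mem (mem_sup_left (by rw [← commutatorElement_inv]; exact T.inv_mem (hcomm x hx)))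
          (mem_sup_right hx)
    exact fun x hx => this hx
  have hkN : k ∈ normalizer (N : Set G) := by
    refine PGroups.mem_normalizer_of_map_conj_eq (Subgroup.eq_of_le_of_card_ge ?_
      (Subgroup.card_map_of_injective (MulAut.conj k).injective).ge)
    rintro _ ⟨x, hx, rfl⟩
    have h1 : ∀ v : V, f (k * x * k⁻¹) v = cj k (f x ((cj k)⁻¹ v)) := fun v => by
      rw [f_conj, MulAut.apply_inv_self]
    refine ⟨hkTB x hx.1, fun v hv => ?_, fun v hv hfix => ?_⟩
    · show f (k * x * k⁻¹) v ∈ U ∧ cj k (f (k * x * k⁻¹) v) = f (k * x * k⁻¹) v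
      rw [h1, (hx.2.1 _ (hpre hv)).2]
      exact ⟨(hx.2.1 _ (hpre hv)).1, (hx.2.1 _ (hpre hv)).2⟩
    · show f (k * x * k⁻¹) v = 1
      rw [h1, hx.2.2 _ (hpre hv) (by rw [MulAut.apply_inv_self]; exact (eq_comm.1 (by
        rw [← hfix, MulAut.inv_apply_self, hfix]))), map_one]
  -- a homomorphism `[·, x]` invariant under `k`, or under `a` and `k a k⁻¹`, is trivial
  have hvanish : ∀ {x : G}, x ∈ N → (∀ v ∈ U, f x (cj k v) = f x v) → x ∈ centralizer (V₁ : Set G) :=
    fun {x} hx h => hC1 fun v hv => Orbit.eq_one_of_invariant hσn hodd h2 hσU h hx.2.2 hv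
  -- the measures
  obtain ⟨C₀, hC₀⟩ : ∃ C₀ : Subgroup G, C₀ = V₁ ⊓ centralizer ({k} : Set G) := ⟨_, rfl⟩
  have hmemC₀ : ∀ {v : V}, (v : G) ∈ C₀ ↔ v ∈ U ∧ cj k v = v := by
    intro v
    rw [hC₀, Subgroup.mem_inf, hmemU, Subtype.ext_iff, cj_coe, mul_inv_eq_iff_eq_mul]
    refine and_congr_right fun _ => ?_
    rw [mem_centralizer_singleton_iff]
    exact eq_comm
  have hC₀N : V₁ ⊓ centralizer ({k} : Set G) ≤ centralizer (N : Set G) := by
    rintro v hv
    refine mem_centralizer_iff.2 fun x hx => ?_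
    have hv' := hmemC₀.1 (show ((⟨v, hV₁V hv.1⟩ : V) : G) ∈ C₀ by rw [hC₀]; exact hv)
    have h1 := congrArg Subtype.val (hx.2.2 _ hv'.1 hv'.2)
    rw [f_coe, OneMemClass.coe_one, commutatorElement_eq_one_iff_mul_comm] at h1
    exact h1.symm
  -- `P2` on `V₁`
  have hp2V₁ : Strict V₁ N := by
    refine strict_of_generated W hV₁ fun i B' hB' => ?_
    have hWi : W i ≤ V₁ := by rw [hV₁]; exact le_iSup W i
    refine hp2.conj (k ^ (i : ℕ)) ?_ ((hNel.mono hB').anti hWi)
    rintro _ ⟨x, hx, rfl⟩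
    have : ∀ j : ℕ, ∀ z ∈ T ⊔ B, k ^ j * z * (k ^ j)⁻¹ ∈ T ⊔ B := by
      intro j
      induction j with
      | zero => simp
      | succ j ih =>
        intro z hz
        have := hkTB _ (ih z hz)
        rwa [show k * (k ^ j * z * (k ^ j)⁻¹) * k⁻¹ = k ^ (j + 1) * z * (k ^ (j + 1))⁻¹ by
          rw [pow_succ']; group] at this
    obtain ⟨j, hj⟩ := (isOfFinOrder_of_finite k).mem_powers_iff_mem_zpowers.2
      (inv_mem (pow_mem (mem_zpowers k) (i : ℕ)))
    show (k ^ (i : ℕ))⁻¹ * x * ((k ^ (i : ℕ))⁻¹)⁻¹ ∈ (S : Subgroup G)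
    rw [← hj]
    exact hTBS (this j x (hB' hx).1)
  set e := (centralizer (V₁ : Set G)).relIndex N with he
  set q := C₀.relIndex V₁ with hq
  have hC₀V₁ : C₀ ≤ V₁ := by rw [hC₀]; exact inf_le_left
  have hkC : k ∉ centralizer (V₁ : Set G) := by
    intro hc
    refine hkY (Subgroup.centralizer_le_normalizer _ (Subgroup.centralizer_le hYV₁ hc))
  have hq1 : 1 < q := by
    refine lt_of_le_of_ne (relIndex_pos _ _) fun h1 => hkC ?_
    refine mem_centralizer_iff.2 fun v hv => ?_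
    have h2 := Subgroup.relIndex_eq_one.1 h1.symm hv
    rw [hC₀] at h2
    exact mem_centralizer_singleton_iff.1 h2.2
  have heq : e = 1 ∨ e < q := by
    refine hp2V₁.imp id fun h => h.trans_le ?_
    refine Subgroup.relIndex_le_of_le_left ?_ Subgroup.index_ne_zero_of_finite
    rw [hC₀]; exact hC₀N
  have heq' : e < q := heq.elim (fun h => h ▸ hq1) id
  have hV₁el := PGroups.elemAb_mono hV hV₁V
  have hqmod : q ≡ 1 [MOD p] := by
    obtain ⟨i, hi⟩ := PGroups.elemAb_card_eq_pow (p := 2) (PGroups.elemAb_mono hV₁el hC₀V₁)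
    refine modEq_one_of_mul hp hp2' hi ?_
    have hcard : q * Nat.card C₀ = Nat.card V₁ := by
      rw [hq, Subgroup.relIndex, ← (C₀.subgroupOf V₁).index_mul_card,
        Nat.card_congr (Subgroup.subgroupOfEquivOfLe hC₀V₁).toEquiv]
    rw [hcard]
    have h := modEq_card_fix hp hk hkV₁
    rwa [← hC₀] at h
  have hNp : IsPGroup 2 N := S.2.to_le hNS
  obtain ⟨K₀, hK₀⟩ : ∃ K₀ : Subgroup G, K₀ = N ⊓ centralizer (V₁ : Set G) := ⟨_, rfl⟩
  have hK₀N : K₀ ≤ N := by rw [hK₀]; exact inf_le_left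
  have hemod : e ≡ 1 [MOD p] := by
    obtain ⟨i, hi⟩ := (hNp.to_le hK₀N).exists_card_eq
    refine modEq_one_of_mul hp hp2' hi ?_
    have hcard : e * Nat.card K₀ = Nat.card N := by
      rw [he, ← Subgroup.inf_relIndex_left N, ← hK₀, Subgroup.relIndex, ← (K₀.subgroupOf N).index_mul_card,
        Nat.card_congr (Subgroup.subgroupOfEquivOfLe hK₀N).toEquiv]
    have hkK₀ : k ∈ normalizer (K₀ : Set G) := by
      rw [hK₀]
      refine PGroups.mem_normalizer_of_map_conj_eq (Subgroup.eq_of_le_of_card_ge ?_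
        (Subgroup.card_map_of_injective (MulAut.conj k).injective).ge)
      rintro _ ⟨z, hz, rfl⟩
      refine ⟨(mem_normalizer_iff.1 hkN z).1 hz.1, mem_centralizer_iff.2 fun v hv => ?_⟩
      have h1 := mem_centralizer_iff.1 hz.2 (k⁻¹ * v * k) ((mem_normalizer_iff''.1 hkV₁ v).1 hv)
      show v * (k * z * k⁻¹) = k * z * k⁻¹ * v
      calc v * (k * z * k⁻¹) = k * (k⁻¹ * v * k * z) * k⁻¹ := by group
        _ = k * (z * (k⁻¹ * v * k)) * k⁻¹ := by rw [h1]
        _ = k * z * k⁻¹ * v := by group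
    have hfix : N ⊓ centralizer ({k} : Set G) = K₀ ⊓ centralizer ({k} : Set G) := by
      refine le_antisymm (fun x hx => ⟨?_, hx.2⟩) (inf_le_inf_right _ hK₀N)
      rw [hK₀]
      refine ⟨hx.1, hvanish hx.1 fun v hv => ?_⟩
      have h1 := f_conj k x v
      rw [show k * x * k⁻¹ = x by rw [← (mem_centralizer_singleton_iff.1 hx.2), mul_inv_cancel_right],
        (hx.1.2.1 v hv).2] at h1
      exact h1.symm
    rw [hcard]
    have h1 := modEq_card_fix hp hk hkN
    rw [hfix] at h1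
    exact h1.trans (modEq_card_fix hp hk hkK₀).symm
  -- `|V₁ : C₀| ≤ |V₁ : C(a)|²`
  set x := (centralizer ({a} : Set G)).relIndex V₁ with hx
  have hconjC : (centralizer ({k * a * k⁻¹} : Set G)).relIndex V₁ = x := by
    rw [hx]
    conv_lhs => rw [← PGroups.map_conj_eq_of_mem_normalizer hkV₁]
    rw [← Subgroup.relIndex_comap]
    congr 1
    ext z
    simp only [Subgroup.mem_comap, mem_centralizer_singleton_iff, MulEquiv.coe_toMonoidHom, MulAut.conj_apply]
    constructor
    · intro h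
      calc z * a = k⁻¹ * (k * z * k⁻¹ * (k * a * k⁻¹)) * k := by group
        _ = k⁻¹ * (k * a * k⁻¹ * (k * z * k⁻¹)) * k := by rw [h]
        _ = a * z := by group
    · intro h
      calc k * z * k⁻¹ * (k * a * k⁻¹) = k * (z * a) * k⁻¹ := by group
        _ = k * (a * z) * k⁻¹ := by rw [h]
        _ = k * a * k⁻¹ * (k * z * k⁻¹) := by group
  have hσ2 : cj (k * a * k⁻¹) * cj a = cj k ^ 2 := by
    rw [map_mul, map_mul, map_inv, pow_two]
    have ha2 : cj a * cj a = 1 := by rw [← map_mul]; exact cj_ker (hel.2 a ha)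
    have h1 : cj a * cj k * (cj a)⁻¹ = (cj k)⁻¹ := hαinv
    calc cj k * cj a * (cj k)⁻¹ * cj a = cj k * cj a * (cj a * cj k * (cj a)⁻¹) * cj a := by rw [h1]
      _ = cj k * (cj a * cj a) * cj k := by group
      _ = cj k * cj k := by rw [ha2, mul_one]
  have hqx : q ≤ x * x := by
    refine le_trans ?_ (le_trans (Subgroup.relIndex_inf_le (H := centralizer ({a} : Set G))
      (K := centralizer ({k * a * k⁻¹} : Set G)) (L := V₁)) (le_of_eq (by rw [hconjC, hx])))
    refine le_trans ?_ (le_of_eq (Subgroup.inf_relIndex_right _ _))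
    refine Subgroup.relIndex_le_of_le_left ?_ Subgroup.index_ne_zero_of_finite
    rintro v ⟨⟨hva, hvk⟩, hv⟩
    rw [hC₀]
    refine ⟨hv, ?_⟩
    have hfix : ∀ g : G, v ∈ centralizer ({g} : Set G) → cj g ⟨v, hV₁V hv⟩ = ⟨v, hV₁V hv⟩ := fun g hg => by
      refine Subtype.ext ?_
      rw [cj_coe, ← (mem_centralizer_singleton_iff.1 hg), mul_inv_cancel_right]
    have h1 : (cj k ^ 2) ⟨v, hV₁V hv⟩ = ⟨v, hV₁V hv⟩ := by
      rw [← hσ2, MulAut.mul_apply, hfix a hva, hfix _ hvk]
    have h3 : k ^ 2 ∈ centralizer ({v} : Set G) := by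
      have h4 := congrArg Subtype.val h1
      rw [← map_pow, cj_coe] at h4
      exact mem_centralizer_singleton_iff.2 (mul_inv_eq_iff_eq_mul.1 h4)
    exact mem_centralizer_singleton_iff.2 (mem_centralizer_singleton_iff.1 ((zpowers_le.2 h3)
      (mem_zpowers_pow hp hk fun hd => hp2' ((Nat.prime_dvd_prime_iff_eq hp Nat.prime_two).1 hd)))).symm
  -- `|B : C_B(V₁)|² ≤ e`
  set e₁ := (centralizer (V₁ : Set G)).relIndex B with he₁
  have hee : e₁ * e₁ ≤ e := by
    let Inv : G → Prop := fun g => ∀ v ∈ U, cj g v ∈ U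
    have hI : ∀ g, Inv g → ∃ H : Subgroup G, ∀ x, x ∈ H ↔ x ∈ N ∧ ∀ v ∈ U, f x (cj g v) = f x v := by
      intro g hg
      refine ⟨{ carrier := {x | x ∈ N ∧ ∀ v ∈ U, f x (cj g v) = f x v}
                one_mem' := ⟨N.one_mem, fun v _ => by simp only [f_eq, map_one, MulAut.one_apply, mul_inv_cancel]⟩
                mul_mem' := ?_
                inv_mem' := ?_ }, fun x => Iff.rfl⟩
      · rintro x y ⟨hx, hx'⟩ ⟨hy, hy'⟩
        refine ⟨N.mul_mem hx hy, fun v hv => ?_⟩
        rw [hfN hx hy v hv, hfN hx hy _ (hg v hv), hx' v hv, hy' v hv]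
      · rintro x ⟨hx, hx'⟩
        refine ⟨N.inv_mem hx, fun v hv => ?_⟩
        rw [hfNinv hx v hv, hfNinv hx _ (hg v hv), hx' v hv]
    have hIk : Inv (k * a * k⁻¹) := fun v hv => by
      rw [map_mul, map_mul, map_inv, MulAut.mul_apply, MulAut.mul_apply]
      exact hσU _ (hαU _ (hpre hv))
    obtain ⟨H₁, hH₁⟩ := hI a hαU
    obtain ⟨H₂, hH₂⟩ := hI _ hIk
    have hK₁ : K₀ ≤ H₁ ∧ K₀ ≤ H₂ := by
      rw [hK₀]
      constructor <;> rintro z ⟨hz, hzc⟩
      · exact (hH₁ z).2 ⟨hz, fun v hv => by rw [hC1' hzc v hv, hC1' hzc _ (hαU v hv)]⟩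
      · exact (hH₂ z).2 ⟨hz, fun v hv => by rw [hC1' hzc v hv, hC1' hzc _ (hIk v hv)]⟩
    have hB₁ : B ≤ H₁ := fun t ht => (hH₁ t).2 ⟨hBN ht, fun v hv => by
      have h1 := f_conj a t v
      rw [hαfix t (hBR ht) a ha, f_congr (hcommR a ha t (hBR ht))] at h1
      exact h1.symm⟩
    set B' := B.map (MulAut.conj k).toMonoidHom with hB'
    have hB₂ : B' ≤ H₂ := by
      rintro _ ⟨t, ht, rfl⟩
      have htN : k * t * k⁻¹ ∈ N := (mem_normalizer_iff.1 hkN t).1 (hBN ht)
      refine (hH₂ _).2 ⟨htN, fun v hv => ?_⟩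
      have e1 : ∀ w : V, f (k * t * k⁻¹) w = cj k (f t ((cj k)⁻¹ w)) := fun w => by
        rw [f_conj, MulAut.apply_inv_self]
      show f (k * t * k⁻¹) (cj (k * a * k⁻¹) v) = f (k * t * k⁻¹) v
      rw [e1, e1, map_mul, map_mul, map_inv, MulAut.mul_apply, MulAut.mul_apply, MulAut.inv_apply_self]
      congr 1
      exact ((hH₁ t).1 (hB₁ ht)).2 _ (hpre hv)
    have hmeet : H₂ ⊓ H₁ ≤ K₀ := by
      rintro z ⟨hz2, hz1⟩
      obtain ⟨hzN, hz1⟩ := (hH₁ z).1 hz1
      obtain ⟨-, hz2⟩ := (hH₂ z).1 hz2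
      rw [hK₀]
      refine ⟨hzN, hC1 fun v hv => ?_⟩
      refine Orbit.eq_one_of_invariant (σ := cj k ^ 2) (n := orderOf k) ?_ hodd h2
        (fun w hw => hσiU 2 w hw) (fun w hw => ?_) (fun w hw hfix => hzN.2.2 w hw ?_) hv
      · rw [← pow_mul, mul_comm, pow_mul, hσn, one_pow]
      · rw [← hσ2, MulAut.mul_apply, hz2 _ (hαU w hw), hz1 w hw]
      · have h3 : k ^ 2 ∈ centralizer ({(w : G)} : Set G) := by
          have h4 := congrArg Subtype.val hfix
          rw [← map_pow, cj_coe] at h4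
          exact mem_centralizer_singleton_iff.2 (mul_inv_eq_iff_eq_mul.1 h4)
        refine Subtype.ext ?_
        rw [cj_coe, mul_inv_eq_iff_eq_mul]
        exact mem_centralizer_singleton_iff.1 ((zpowers_le.2 h3)
          (mem_zpowers_pow hp hk fun hd => hp2' ((Nat.prime_dvd_prime_iff_eq hp Nat.prime_two).1 hd)))
    have hH₁N : H₁ ≤ N := fun z hz => ((hH₁ z).1 hz).1
    have hH₂N : H₂ ≤ N := fun z hz => ((hH₂ z).1 hz).1
    have hCe : ∀ H : Subgroup G, H ≤ N → K₀.relIndex H = (centralizer (V₁ : Set G)).relIndex H := by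
      intro H hH
      rw [← Subgroup.inf_relIndex_left H K₀, ← Subgroup.inf_relIndex_left H (centralizer (V₁ : Set G)), hK₀,
        ← inf_assoc, inf_eq_left.2 hH]
    have h1 : e₁ ≤ K₀.relIndex H₁ := by
      rw [hCe H₁ hH₁N]
      exact Subgroup.relIndex_le_of_le_right hB₁ Subgroup.index_ne_zero_of_finite
    have h2' : e₁ ≤ H₁.relIndex N := by
      have h3 : e₁ = (centralizer (V₁ : Set G)).relIndex B' := by
        rw [hB', ← Subgroup.relIndex_comap]
        conv_rhs => rw [← PGroups.map_conj_eq_of_mem_normalizer hkV₁]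
        rw [comap_centralizer_map' _ (MulAut.conj k).injective]
      rw [h3]
      calc (centralizer (V₁ : Set G)).relIndex B' ≤ (centralizer (V₁ : Set G)).relIndex H₂ :=
            Subgroup.relIndex_le_of_le_right hB₂ Subgroup.index_ne_zero_of_finite
        _ = K₀.relIndex H₂ := (hCe H₂ hH₂N).symm
        _ ≤ H₁.relIndex H₂ := by
            rw [← Subgroup.inf_relIndex_left H₂ H₁]
            exact Subgroup.relIndex_le_of_le_left hmeet Subgroup.index_ne_zero_of_finite
        _ ≤ _ := Subgroup.relIndex_le_of_le_right hH₂N Subgroup.index_ne_zero_of_finite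
    calc e₁ * e₁ ≤ K₀.relIndex H₁ * H₁.relIndex N := Nat.mul_le_mul h1 h2'
      _ = K₀.relIndex N := Subgroup.relIndex_mul_relIndex _ _ _ hK₁.1 hH₁N
      _ = e := by rw [hCe N le_rfl]
  -- `|V₁ : C(a)| ≤ |R : B| |B : C_B(V₁)|`
  have hxle : x ≤ B.relIndex R * e₁ := by
    set H := B ⊓ centralizer (V₁ : Set G) with hH
    have hHR : H < R := lt_of_le_of_ne (inf_le_left.trans hBR) fun h => haB (h.ge ha).1
    have hCH : R ⊓ centralizer (V : Set G) ≤ H := by
      intro r hr
      have hrB : r ∈ B := hRB ⟨hr.1, hSC ⟨hRS hr.1, hr.2⟩⟩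
      exact ⟨hrB, Subgroup.centralizer_le hV₁V hr.2⟩
    have hsplit : (centralizer (V : Set G)).relIndex R =
        (centralizer (V : Set G)).relIndex H * (e₁ * B.relIndex R) := by
      rw [← Subgroup.inf_relIndex_left R (centralizer (V : Set G)),
        ← Subgroup.relIndex_mul_relIndex (R ⊓ centralizer (V : Set G)) H R hCH hHR.le,
        ← Subgroup.relIndex_mul_relIndex H B R inf_le_left hBR, he₁, hH, Subgroup.inf_relIndex_left]
      congr 1
      have e3 : R ⊓ centralizer (V : Set G) = H ⊓ centralizer (V : Set G) :=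
        le_antisymm (le_inf hCH inf_le_right) (inf_le_inf_right _ hHR.le)
      rw [e3, Subgroup.inf_relIndex_left]
    have hfs := relIndex_fix_split (R := R) (R₀ := H) hV₁V hHR.le inf_le_right
    have hxR : x ≤ (centralizer (R : Set G)).relIndex V₁ := by
      refine Subgroup.relIndex_le_of_le_left (fun z hz => mem_centralizer_singleton_iff.2 ?_)
        Subgroup.index_ne_zero_of_finite
      exact (mem_centralizer_iff.1 hz a ha).symm
    have h4 : x * (centralizer (H : Set G)).relIndex V ≤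
        B.relIndex R * e₁ * (centralizer (H : Set G)).relIndex V := by
      calc x * (centralizer (H : Set G)).relIndex V
          ≤ (centralizer (V : Set G)).relIndex H * (e₁ * B.relIndex R) := by
            rw [← hsplit]
            exact (Nat.mul_le_mul_right _ hxR).trans (hfs.trans hbad)
        _ ≤ (centralizer (H : Set G)).relIndex V * (e₁ * B.relIndex R) :=
            Nat.mul_le_mul_right _ (hmin H hHR).le
        _ = _ := by ring
    exact Nat.le_of_mul_le_mul_right h4 (relIndex_pos _ _)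
  -- the size of the pair
  obtain ⟨i, hi⟩ := PGroups.elemAb_card_eq_pow (p := 2) hV₁el
  obtain ⟨iq, -, hiq⟩ := (Nat.dvd_prime_pow Nat.prime_two).1
    (hi ▸ Subgroup.relIndex_dvd_card C₀ V₁ : q ∣ 2 ^ i)
  obtain ⟨j, hj⟩ := hNp.exists_card_eq
  obtain ⟨ie, -, hie⟩ := (Nat.dvd_prime_pow Nat.prime_two).1
    (hj ▸ Subgroup.relIndex_dvd_card (centralizer (V₁ : Set G)) N : e ∣ 2 ^ j)
  rw [hiq, hie] at heq'
  have hlt : ie < iq := (Nat.pow_lt_pow_iff_right (by norm_num)).1 heq'
  have hmod : 2 ^ (iq - ie) ≡ 1 [MOD p] := by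
    refine modEq_one_of_mul hp hp2' (c := 2 ^ ie) rfl ?_
    rw [← pow_add, Nat.sub_add_cancel hlt.le, ← hiq, ← hie]
    exact hqmod.trans hemod.symm
  have hs := hsize (iq - ie) (by omega) hmod
  have hle : B.relIndex R ^ 2 * 2 ^ ie < 2 ^ iq := by
    calc B.relIndex R ^ 2 * 2 ^ ie < 2 ^ (iq - ie) * 2 ^ ie := Nat.mul_lt_mul_of_pos_right hs (by positivity)
      _ = 2 ^ iq := by rw [← pow_add, Nat.sub_add_cancel hlt.le]
  have hge : 2 ^ iq ≤ B.relIndex R ^ 2 * 2 ^ ie := by
    rw [← hiq, ← hie]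
    calc q ≤ x * x := hqx
      _ ≤ (B.relIndex R * e₁) * (B.relIndex R * e₁) := Nat.mul_le_mul hxle hxle
      _ = B.relIndex R ^ 2 * (e₁ * e₁) := by ring
      _ ≤ _ := Nat.mul_le_mul_left _ hee
  omega

/-- `P2` passes to the normal closure. -/
theorem p2_normalClosure (hP : PropPairOut.{u}) {S : Sylow 2 G} {M : Subgroup G} (c : Cfg S M)
    {Y : Subgroup G} (hY : (S : Subgroup G) ≤ normalizer (Y : Set G)) (hYT : Y ≤ Cfsg.pCore 2 G)
    (hel : Cfsg.IsElementaryAbelian 2 (normalClosure (Y : Set G))) (hp2 : P2 (S : Subgroup G) Y) :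
    P2 (S : Subgroup G) (normalClosure (Y : Set G)) := by
  haveI : Fact (Nat.Prime 2) := ⟨Nat.prime_two⟩
  haveI : (Cfsg.pCore 2 G).Normal := inferInstance
  set T := Cfsg.pCore 2 G with hT
  set V := normalClosure (Y : Set G) with hV
  have hYV : Y ≤ V := fun y hy => subset_normalClosure hy
  by_cases hn : normalizer (Y : Set G) = ⊤
  · haveI : Y.Normal := normalizer_eq_top_iff.1 hn
    rwa [hV, normalClosure_eq_self]
  have hCM : centralizer (V : Set G) ≤ M := c.centralizer_le hY hn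
  have hSC : (S : Subgroup G) ⊓ centralizer (V : Set G) ≤ T := c.inf_le_pCore hCM
  intro R
  induction R using WellFoundedLT.induction with
  | _ R ih =>
    intro hRS he
    by_contra hns
    have hne : ¬ R ≤ centralizer (V : Set G) := fun h => hns (strict_of_le h)
    have hmin : ∀ H : Subgroup G, H < R → Strict V H := fun H hH =>
      ih H hH (hH.le.trans hRS) (he.mono hH.le)
    -- `R` centralises `Y`
    have hRY : R ≤ centralizer (Y : Set G) := by
      by_contra h
      refine hns (strict_of_split hYV (hp2 R hRS (he.anti hYV)) (hmin _ ?_))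
      exact lt_of_le_of_ne inf_le_left fun e => h (e.ge.trans inf_le_right)
    -- `R` is not in `T`
    have hVsup : V = ⨆ g : G, Y.map (MulAut.conj g).toMonoidHom := by
      refine le_antisymm ?_ (iSup_le fun g => ?_)
      · refine (Subgroup.closure_le _).2 fun z hz => ?_
        obtain ⟨y, hy, hyz⟩ := Group.mem_conjugatesOfSet_iff.1 hz
        obtain ⟨g, rfl⟩ := isConj_iff.1 hyz
        exact (le_iSup (fun g => Y.map (MulAut.conj g).toMonoidHom) g) ⟨y, hy, rfl⟩
      · rintro _ ⟨y, hy, rfl⟩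
        exact normalClosure_normal.conj_mem y (hYV hy) g
    have hRT : ¬ R ≤ T := by
      intro hRT
      refine hns (strict_of_generated _ hVsup fun g B hB => hp2.conj g ?_
        ((he.mono hB).anti (hVsup.ge.trans' (le_iSup (fun g : G => Y.map (MulAut.conj g).toMonoidHom) g))))
      rintro _ ⟨z, hz, rfl⟩
      exact pCore_le S ((inferInstance : T.Normal).conj_mem z (hRT (hB hz)) _)
    have hRn : R ≤ normalizer (V : Set G) := by rw [normalizer_eq_top]; exact le_top
    have hbad : (centralizer (R : Set G)).relIndex V ≤ (centralizer (V : Set G)).relIndex R :=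
      not_lt.1 fun h => hns (Or.inr h)
    have hquad := quadratic_of_minimal hel hRn he hne hbad
      (pActsOn_of_isPGroup (S.2.to_le hRS)) hmin
    obtain ⟨B, a, h, k, p, hpair, hkM⟩ := hP G S M c R hRS
      (fun a ha b hb => hSC ⟨(S : Subgroup G).mul_mem ((S : Subgroup G).mul_mem ((S : Subgroup G).mul_mem
        (hRS ha) (hRS hb)) ((S : Subgroup G).inv_mem (hRS ha))) ((S : Subgroup G).inv_mem (hRS hb)),
        he.1 a ha b hb⟩)
      (fun a ha => hSC ⟨(S : Subgroup G).mul_mem (hRS ha) (hRS ha), he.2 a ha⟩) hRT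
    obtain ⟨m, hm⟩ := hpair.pow
    have hkY : k ∉ normalizer (Y : Set G) := fun h => hkM (c.max _ hY hn h)
    obtain ⟨j, hj, hjp⟩ := exists_last_power hm hkY
    have hinv : a * k ^ p ^ j * a⁻¹ * k ^ p ^ j ∈ centralizer (V : Set G) :=
      inverts_mod (he.2 a hpair.mem) (pow_mem hpair.zpow _)
    obtain ⟨m', -, hm'⟩ := (Nat.dvd_prime_pow hpair.prime).1
      (hm ▸ orderOf_pow_dvd (x := k) (p ^ j) : orderOf (k ^ p ^ j) ∣ p ^ m)
    refine false_of_pair hel hYV hY hp2 hRS he hquad hRY hSC hmin hbad hpair.le hpair.inf_le hpair.mem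
      hpair.not_mem hinv hpair.prime hpair.ne_two hm' hj hjp (fun b hb => ?_) hpair.size
    rw [← QuotientGroup.eq_one_iff, ← QuotientGroup.mk'_apply, map_commutatorElement, map_pow,
      commutatorElement_eq_one_iff_commute]
    refine Commute.pow_right ?_ _
    rw [← commutatorElement_eq_one_iff_commute, ← map_commutatorElement, QuotientGroup.mk'_apply,
      QuotientGroup.eq_one_iff]
    exact hpair.comm b hb

end Cfsg.Agent.Lib.Stellmacher55
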