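import Cfsg.Agent.Lib.Stellmacher55.SzFacts
import Cfsg.Agent.Lib.SThreeFree21.Statement
import Cfsg.Agent.Lib.BenderConsumers23.Simple
import Cfsg.Agent.Lib.BenderOne.Final
import Cfsg.Agent.Lib.BenderSuzuki.Main
import Cfsg.Agent.Lib.Linear.Order
import Cfsg.Agent.Lib.LieTwisted.SuzukiBruhat

/-!
# A component without a section `Sym(3)` is a Suzuki group

`PSL₂(3^odd)` has no proper subgroup containing the normaliser of a Sylow 2-subgroup and the centraliser of
an involution.

Owner: helper55.
-/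

set_option autoImplicit false
set_option linter.style.haveILetI false
set_option linter.unusedSectionVars false

namespace Cfsg.Agent.Lib.Stellmacher55

open Subgroup

universe u v

theorem szLike_congr {L : Type u} {L' : Type v} [Group L] [Group L'] [Finite L] {q p : ℕ} (e : L ≃* L') (h : SzLike L' q p) :
    SzLike L q p := by
  have hsurj : Function.Surjective e.toMonoidHom := e.surjective
  have hinj : Function.Injective e.toMonoidHom := e.injective
  have hmem : ∀ (P : Sylow 2 L) (x : L), x ∈ (P : Subgroup L) ↔ e x ∈ (P.mapSurjective hsurj : Subgroup L') :=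
    fun P x => (Subgroup.mem_map_iff_mem hinj).symm
  have hnorm : ∀ P : Sylow 2 L, (normalizer ((P : Subgroup L) : Set L)).map e.toMonoidHom =
      normalizer ((P.mapSurjective hsurj : Subgroup L') : Set L') :=
    fun P => Subgroup.map_equiv_normalizer_eq _ e
  have hnmem : ∀ (P : Sylow 2 L) (x : L), x ∈ normalizer ((P : Subgroup L) : Set L) ↔
      e x ∈ normalizer ((P.mapSurjective hsurj : Subgroup L') : Set L') := fun P x => by
    rw [← hnorm P]; exact (Subgroup.mem_map_iff_mem hinj).symm
  refine ⟨fun P hP => h.sylow_ne (P.mapSurjective hsurj) ?_, fun P hP => ?_, fun P H hPH hH x hx => ?_,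
    fun P x hx hx2 => ?_, fun P x hx y hy hx2 hy2 hx1 hy1 => ?_, fun P => ?_, fun D hD => ?_, h.two_le,
    h.prime, h.ne_two, fun P hP => ?_, h.size, fun d hd => ?_, fun θ hθ => ?_,
    fun P P' hne d hd hd2 hd1 H hdH hH => ?_⟩
  · rw [Sylow.coe_mapSurjective, hP, Subgroup.map_bot]
  · exact h.normalizer_ne (P.mapSurjective hsurj)
      (by rw [← hnorm P, hP, Subgroup.map_top_of_surjective _ hsurj])
  · refine (hnmem P x).2 (h.overgroup (P.mapSurjective hsurj) (H.map e.toMonoidHom) ?_ ?_ ⟨x, hx, rfl⟩)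
    · exact Subgroup.map_mono hPH
    · intro ht
      refine hH (Subgroup.map_injective hinj ?_)
      rw [ht, Subgroup.map_top_of_surjective _ hsurj]
  · refine mem_centralizer_iff.2 fun y hy => e.injective ?_
    rw [map_mul, map_mul]
    exact mem_centralizer_iff.1 (h.inv_central _ _ ((hmem P x).1 hx) (by rw [← map_mul, hx2, map_one])) _
      ((hmem P y).1 hy)
  · obtain ⟨g, hg, hgx⟩ := h.inv_conj _ _ ((hmem P x).1 hx) _ ((hmem P y).1 hy)
      (by rw [← map_mul, hx2, map_one]) (by rw [← map_mul, hy2, map_one]) (by simpa using hx1)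
      (by simpa using hy1)
    refine ⟨e.symm g, (hnmem P _).2 (by rwa [MulEquiv.apply_symm_apply]), e.injective ?_⟩
    rw [map_mul, map_mul, map_inv, MulEquiv.apply_symm_apply, hgx]
  · obtain ⟨u, hu, hu2⟩ := h.not_elem (P.mapSurjective hsurj)
    refine ⟨e.symm u, (hmem P _).2 (by rwa [MulEquiv.apply_symm_apply]), fun h1 => hu2 ?_⟩
    have := congrArg e h1
    rwa [map_mul, map_one, MulEquiv.apply_symm_apply] at this
  · rw [← Subgroup.card_map_of_injective (K := D) hinj]
    exact h.card_le _ (PGroups.elemAb_map e.toMonoidHom hD)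
  · refine h.not_dvd (P.mapSurjective hsurj) ?_
    rwa [← hnorm P, Subgroup.card_map_of_injective hinj]
  · obtain ⟨g, hg⟩ := h.pair (e d) (by rw [e.orderOf_eq, hd])
    refine ⟨e.symm g, ?_⟩
    rwa [← e.orderOf_eq, map_mul, map_mul, map_mul, map_inv, MulEquiv.apply_symm_apply]
  · obtain ⟨j, hj⟩ := hθ
    obtain ⟨c, hc⟩ := h.inner (MulAut.congr e θ) ⟨j, by rw [← map_pow, hj, map_one]⟩
    refine ⟨e.symm c, MulEquiv.ext fun x => e.injective ?_⟩
    have h1 := DFunLike.congr_fun hc (e x)
    simp only [MulAut.conj_apply, MulAut.congr, MulEquiv.coe_mk, Equiv.coe_fn_mk, MulEquiv.trans_apply,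
      MulEquiv.symm_apply_apply] at h1
    rw [MulAut.conj_apply, map_mul, map_mul, map_inv, MulEquiv.apply_symm_apply, h1]
  · refine Subgroup.map_injective hinj ?_
    rw [Subgroup.map_top_of_surjective _ hsurj]
    refine h.gen (P.mapSurjective hsurj) (P'.mapSurjective hsurj) (fun he => hne (Sylow.ext ?_)) (e d)
      ((hmem P d).1 hd) (by rw [← map_mul, hd2, map_one]) (by simpa using hd1) _ ⟨d, hdH, rfl⟩ ?_
    · exact Subgroup.map_injective hinj (congrArg Sylow.toSubgroup he)
    · intro x hx hx2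
      obtain ⟨y, rfl⟩ := hsurj x
      exact ⟨y, hH y ((hmem P' y).2 hx) (e.injective (by rw [map_mul, map_one]; exact hx2)), rfl⟩

section Psl

variable {L : Type u} [Group L] [Finite L]

/-- In a simple group with a Sylow 2-subgroup of order four, all its involutions are conjugate to one in the
normaliser. -/
theorem conj_of_card_four [IsSimpleGroup L] (U : Sylow 2 L) (h4 : Nat.card (U : Subgroup L) = 4)
    (hna : ∃ a b : L, a * b ≠ b * a) {u v : L} (hu : u ∈ (U : Subgroup L)) (hv : v ∈ (U : Subgroup L))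
    (hu2 : orderOf u = 2) (hv2 : orderOf v = 2) :
    ∃ g ∈ normalizer ((U : Subgroup L) : Set L), g * u * g⁻¹ = v := by
  classical
  haveI : Fact (Nat.Prime 2) := ⟨Nat.prime_two⟩
  set N := normalizer ((U : Subgroup L) : Set L)
  have hab : IsMulCommutative (U : Subgroup L) :=
    IsPGroup.isMulCommutative_of_card_eq_prime_sq (p := 2) (by rw [h4]; norm_num)
  have hmem : ∀ g ∈ N, ∀ x ∈ (U : Subgroup L), g * x * g⁻¹ ∈ (U : Subgroup L) :=
    fun g hg x hx => (mem_normalizer_iff.1 hg x).1 hx
  -- any five elements repeat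
  have hfive : ∀ a b c d f : L, a ∈ (U : Subgroup L) → b ∈ (U : Subgroup L) → c ∈ (U : Subgroup L) →
      d ∈ (U : Subgroup L) → f ∈ (U : Subgroup L) → a ≠ b → a ≠ c → a ≠ d → b ≠ c → b ≠ d → c ≠ d →
      f = a ∨ f = b ∨ f = c ∨ f = d := by
    intro a b c d f ha hb hc hd hf h1 h2 h3 h4' h5 h6
    by_contra hcon
    push Not at hcon
    obtain ⟨g1, g2, g3, g4⟩ := hcon
    have hle : ({a, b, c, d, f} : Finset L).card ≤ Nat.card (U : Subgroup L) := by
      rw [← Nat.card_eq_finsetCard]
      exact Nat.card_le_card_of_injective (fun x => (⟨x.1, by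
        have := x.2
        simp only [Finset.mem_insert, Finset.mem_singleton] at this
        rcases this with h | h | h | h | h <;> rw [h] <;> assumption⟩ : (U : Subgroup L)))
        fun x y h => Subtype.ext (congrArg (fun z : (U : Subgroup L) => (z : L)) h)
    rw [h4] at hle
    simp [Finset.card_insert_of_notMem, Finset.mem_insert, Finset.mem_singleton, *, Ne.symm g1, Ne.symm g2,
      Ne.symm g3, Ne.symm g4] at hle
  -- no involution of `U` is fixed by the normaliser
  have hmove : ∀ w ∈ (U : Subgroup L), orderOf w = 2 → ∃ g ∈ N, g * w * g⁻¹ ≠ w := by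
    intro w hw hw2
    by_contra hcon
    push Not at hcon
    have hNC : N ≤ centralizer ((U : Subgroup L) : Set L) := by
      intro g hg
      by_contra hgc
      simp only [mem_centralizer_iff, SetLike.mem_coe, not_forall] at hgc
      obtain ⟨x, hx, hne⟩ := hgc
      have hgx : g * x * g⁻¹ ≠ x := fun h => hne (mul_inv_eq_iff_eq_mul.1 h).symm
      -- `g` moves `x`, so its order modulo the centraliser is two
      set y := g * x * g⁻¹ with hy
      have hyU := hmem g hg x hx
      have h1w : (1 : L) ≠ w := fun h => by rw [← h, orderOf_one] at hw2; exact absurd hw2 (by norm_num)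
      have hx1 : (1 : L) ≠ x := fun h => hgx (by rw [hy, ← h, mul_one, mul_inv_cancel])
      have hxw : x ≠ w := fun h => hgx (by rw [hy, h, hcon g hg])
      have hy1 : (1 : L) ≠ y := fun h => hx1 (conj_eq_one_iff.1 h.symm).symm
      have hyw : y ≠ w := fun h => hxw (mul_left_cancel (mul_right_cancel (h.trans (hcon g hg).symm)))
      have hsq : g ^ 2 ∈ centralizer ((U : Subgroup L) : Set L) := by
        refine mem_centralizer_iff.2 fun z hz => ?_
        have hzy : g * y * g⁻¹ = x := by
          rcases hfive 1 w x y (g * y * g⁻¹) (one_mem _) hw hx hyU (hmem g hg y hyU) h1w hx1 hy1 hxw.symm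
              hyw.symm (Ne.symm hgx) with h | h | h | h
          · exact absurd (conj_eq_one_iff.1 h).symm hy1
          · rw [← hcon g hg] at h
            exact absurd (mul_left_cancel (mul_right_cancel h)) hyw
          · exact h
          · rw [hy] at h
            exact absurd (mul_left_cancel (mul_right_cancel h)) hgx
        have hfix : ∀ t, g * t * g⁻¹ = t → g ^ 2 * t = t * g ^ 2 := fun t ht => by
          have h1 : g * t = t * g := mul_inv_eq_iff_eq_mul.1 ht
          rw [pow_two, mul_assoc, h1, ← mul_assoc, h1, mul_assoc]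
        rcases hfive 1 w x y z (one_mem _) hw hx hyU hz h1w hx1 hy1 hxw.symm hyw.symm (Ne.symm hgx) with
          rfl | rfl | rfl | rfl
        · simp
        · exact (hfix _ (hcon g hg)).symm
        · calc z * g ^ 2 = g * (g * z * g⁻¹) * g⁻¹ * g ^ 2 := by rw [← hy, hzy]
            _ = g ^ 2 * z := by rw [pow_two]; group
        · calc y * g ^ 2 = g * (g * y * g⁻¹) * g⁻¹ * g ^ 2 := by rw [hzy, ← hy]
            _ = g ^ 2 * y := by rw [pow_two]; group
      -- but the centraliser has odd index in the normaliser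
      have hUC : (U : Subgroup L) ≤ centralizer ((U : Subgroup L) : Set L) :=
        Subgroup.le_centralizer (U : Subgroup L)
      haveI : ((centralizer ((U : Subgroup L) : Set L)).subgroupOf N).Normal := by
        refine ⟨fun c hc n => mem_subgroupOf.2 (mem_centralizer_iff.2 fun z hz => ?_)⟩
        have h1 := mem_centralizer_iff.1 (mem_subgroupOf.1 hc) _
          (hmem _ (N.inv_mem n.2) z hz)
        rw [inv_inv] at h1
        show z * ((n : L) * c * (n : L)⁻¹) = (n : L) * c * (n : L)⁻¹ * z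
        calc z * ((n : L) * c * (n : L)⁻¹) = (n : L) * ((n : L)⁻¹ * z * n * c) * (n : L)⁻¹ := by group
          _ = (n : L) * (c * ((n : L)⁻¹ * z * n)) * (n : L)⁻¹ := by rw [h1]
          _ = _ := by group
      set Q := ↥N ⧸ (centralizer ((U : Subgroup L) : Set L)).subgroupOf N
      set gg : Q := QuotientGroup.mk ⟨g, hg⟩
      have hg2 : orderOf gg ∣ 2 := orderOf_dvd_of_pow_eq_one (by
        rw [← QuotientGroup.mk_pow]; exact (QuotientGroup.eq_one_iff _).2 (mem_subgroupOf.2 hsq))
      have hodd : ¬ 2 ∣ Nat.card Q := by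
        intro h2
        refine U.not_dvd_index ?_
        have h3 : (centralizer ((U : Subgroup L) : Set L)).relIndex N ∣ (U : Subgroup L).relIndex N :=
          Subgroup.relIndex_dvd_of_le_left N hUC
        exact (h2.trans h3).trans
          (Dvd.intro _ (Subgroup.relIndex_mul_index (le_normalizer : (U : Subgroup L) ≤ N)))
      have hgg : gg = 1 := orderOf_eq_one_iff.1
        (((Nat.dvd_prime Nat.prime_two).1 hg2).resolve_right fun h => hodd (h ▸ orderOf_dvd_natCard gg))
      exact hne (mem_centralizer_iff.1 (mem_subgroupOf.1 ((QuotientGroup.eq_one_iff _).1 hgg)) x hx)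
    have hcompl := MonoidHom.ker_transferSylow_isComplement' U hNC
    rcases Subgroup.Normal.eq_bot_or_eq_top
        (inferInstance : (MonoidHom.transferSylow U hNC).ker.Normal) with hb | ht
    · rw [hb, Subgroup.isComplement'_bot_left] at hcompl
      obtain ⟨a, b, hne⟩ := hna
      exact hne (congrArg Subtype.val (hab.is_comm.comm (⟨a, hcompl ▸ mem_top a⟩ : (U : Subgroup L))
        ⟨b, hcompl ▸ mem_top b⟩))
    · rw [ht, Subgroup.isComplement'_top_left] at hcompl
      rw [hcompl, Subgroup.card_bot] at h4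
      norm_num at h4
  by_cases huv : u = v
  · exact ⟨1, one_mem _, by simp [huv]⟩
  obtain ⟨g, hg, hgu⟩ := hmove u hu hu2
  by_cases hgv : g * u * g⁻¹ = v
  · exact ⟨g, hg, hgv⟩
  obtain ⟨k, hk, hkv⟩ := hmove v hv hv2
  have h1 : ∀ t : L, orderOf t = 2 → (1 : L) ≠ t := fun t ht h => by
    rw [← h, orderOf_one] at ht; exact absurd ht (by norm_num)
  have hgu2 : orderOf (g * u * g⁻¹) = 2 := ((MulAut.conj g).orderOf_eq u).trans hu2
  rcases hfive 1 v u (g * u * g⁻¹) (k * v * k⁻¹) (one_mem _) hv hu (hmem g hg u hu) (hmem k hk v hv)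
      (h1 v hv2) (h1 u hu2) (h1 _ hgu2) (Ne.symm huv) (Ne.symm hgv) (Ne.symm hgu) with h | h | h | h
  · exact absurd (conj_eq_one_iff.1 h).symm (h1 v hv2)
  · exact absurd h hkv
  · exact ⟨k⁻¹, N.inv_mem hk, by rw [← h]; group⟩
  · refine ⟨k⁻¹ * g, N.mul_mem (N.inv_mem hk) hg, ?_⟩
    calc k⁻¹ * g * u * (k⁻¹ * g)⁻¹ = k⁻¹ * (g * u * g⁻¹) * k := by group
      _ = v := by rw [← h]; group

/-- `PSL₂(3 ^ (2 n + 1))` has no proper subgroup containing the normaliser of a Sylow 2-subgroup and the
centraliser of one of its involutions. -/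
theorem not_psl [IsSimpleGroup L] (hna : ∃ a b : L, a * b ≠ b * a) {F : Type} [Field F] [Fintype F] {n : ℕ}
    (hF : Fintype.card F = 3 ^ (2 * n + 1))
    (e : L ≃* Matrix.ProjectiveSpecialLinearGroup (Fin 2) F) (U : Sylow 2 L) {H : Subgroup L}
    (hne : H ≠ ⊤) (hN : normalizer ((U : Subgroup L) : Set L) ≤ H) {u : L} (hu : u ∈ (U : Subgroup L))
    (hu2 : orderOf u = 2) (hC : centralizer ({u} : Set L) ≤ H) : False := by
  haveI : Fact (Nat.Prime 2) := ⟨Nat.prime_two⟩
  -- the order
  have hcard : 2 * Nat.card L = 3 ^ (2 * n + 1) * (3 ^ (2 * n + 1) - 1) * (3 ^ (2 * n + 1) + 1) := by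
    rw [Nat.card_congr e.toEquiv, ← hF]
    exact Linear.two_mul_card_PSL_two_of_odd (by rw [hF]; exact Odd.pow (by decide))
  set q := 3 ^ (2 * n + 1) with hq
  have hq8 : q % 8 = 3 := by
    rw [hq, pow_succ, pow_mul, Nat.mul_mod, Nat.pow_mod]; norm_num
  obtain ⟨r, hr⟩ : ∃ r, q = 8 * r + 3 := ⟨q / 8, by omega⟩
  have hL : Nat.card L = 4 * ((8 * r + 3) * (4 * r + 1) * (2 * r + 1)) := by
    rw [hr, show 8 * r + 3 - 1 = 2 * (4 * r + 1) by omega, show 8 * r + 3 + 1 = 4 * (2 * r + 1) by omega]
      at hcard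
    nlinarith
  have hodd : ¬ 2 ∣ (8 * r + 3) * (4 * r + 1) * (2 * r + 1) := by
    intro h
    rcases (Nat.Prime.dvd_mul Nat.prime_two).1 h with h | h
    · rcases (Nat.Prime.dvd_mul Nat.prime_two).1 h with h | h <;> omega
    · omega
  have h4 : Nat.card (U : Subgroup L) = 4 := by
    rw [U.card_eq_multiplicity, hL, Nat.factorization_mul (by norm_num) (by positivity), Finsupp.add_apply,
      Nat.factorization_eq_zero_of_not_dvd hodd, show (4 : ℕ) = 2 ^ 2 by norm_num,
      Nat.Prime.factorization_pow Nat.prime_two, Finsupp.single_eq_same]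
  -- `H` is strongly embedded
  have hconj : ∀ t ∈ H, orderOf t = 2 → ∃ g ∈ H, g * u * g⁻¹ = t := by
    intro t htH ht
    have hUH : (U : Subgroup L) ≤ H := le_normalizer.trans hN
    obtain ⟨k, hk, hle⟩ := Involutions.StronglyEmbedded.exists_conj_le_sylow (U.subtype hUH)
      (W := zpowers t) (IsPGroup.of_card (n := 1) (by rw [Nat.card_zpowers, ht, pow_one]))
      (zpowers_le.2 htH)
    have hkt : k * t * k⁻¹ ∈ (U : Subgroup L) := by
      have := hle ⟨t, mem_zpowers t, rfl⟩
      rw [Sylow.coe_subtype, Subgroup.subgroupOf_map_subtype] at this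
      exact this.1
    obtain ⟨g, hg, hgu⟩ := conj_of_card_four U h4 hna hu hkt hu2
      (((MulAut.conj k).orderOf_eq t).trans ht)
    refine ⟨k⁻¹ * g, H.mul_mem (H.inv_mem hk) (hN hg), ?_⟩
    calc k⁻¹ * g * u * (k⁻¹ * g)⁻¹ = k⁻¹ * (g * u * g⁻¹) * k := by group
      _ = t := by rw [hgu]; group
  have heven : Even (Nat.card H) := even_iff_two_dvd.2 (by
    rw [← hu2, ← Subgroup.orderOf_mk u ((le_normalizer.trans hN) hu)]
    exact orderOf_dvd_natCard _)
  have hSE : Cfsg.IsStronglyEmbedded H := by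
    refine Involutions.StronglyEmbedded.of_forall_conj hne heven fun t htH ht g hg => ?_
    obtain ⟨a, ha, rfl⟩ := hconj t htH ht
    obtain ⟨b, hb, hbu⟩ := hconj _ hg ((((MulAut.conj g).orderOf_eq _)).trans ht)
    have h1 : b⁻¹ * g * a ∈ centralizer ({u} : Set L) := mem_centralizer_singleton_iff.2 (by
      calc b⁻¹ * g * a * u = b⁻¹ * (g * (a * u * a⁻¹) * g⁻¹) * g * a := by group
        _ = u * (b⁻¹ * g * a) := by rw [← hbu]; group)
    have h2 := H.mul_mem (H.mul_mem hb (hC h1)) (H.inv_mem ha)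
    simpa [mul_assoc] using h2
  -- so `L` has a faithful action on five points
  obtain ⟨-, t, Q, hS, P, hPQ⟩ := BenderConsumers23.simple_case (G := L) BenderOne.propPartOneFinal
    BenderSuzuki.propMain hna hSE
  have h5 : Nat.card (L ⧸ H) = 5 := by
    rw [RankOne.Basic.card_omega hS, ← hPQ, P.card_eq_multiplicity, ← U.card_eq_multiplicity, h4]
  have hdvd : Nat.card L ∣ 120 := by
    have hinj : Function.Injective (MulAction.toPermHom L (L ⧸ H)) := by
      rw [← MonoidHom.ker_eq_bot_iff, ← Subgroup.normalCore_eq_ker]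
      exact BenderConsumers23.normalCore_eq_bot hSE
    have h1 := Subgroup.card_subgroup_dvd_card (MulAction.toPermHom L (L ⧸ H)).range
    rw [← Nat.card_congr (MonoidHom.ofInjective hinj).toEquiv, Nat.card_perm, h5] at h1
    simpa [Nat.factorial] using h1
  have h5dvd : 5 ∣ Nat.card L := h5 ▸ Subgroup.card_quotient_dvd_card H
  have hle := Nat.le_of_dvd (by norm_num) hdvd
  rcases Nat.eq_zero_or_pos r with rfl | hr0
  · rw [hL] at h5dvd; norm_num at h5dvd
  · rw [hL] at hle
    nlinarith [Nat.mul_le_mul (Nat.mul_le_mul (show 11 ≤ 8 * r + 3 by omega) (show 5 ≤ 4 * r + 1 by omega))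
      (show 3 ≤ 2 * r + 1 by omega)]

end Psl

/-- A non-abelian simple group without a section `Sym(3)` having a proper subgroup over the normaliser of a
Sylow 2-subgroup and the centraliser of one of its involutions is a Suzuki group. -/
theorem szLike_of_free (hK : SThreeFree21.SThreeFreeSimple.{u}) {L : Type u} [Group L] [Finite L]
    [IsSimpleGroup L] (hna : ∃ a b : L, a * b ≠ b * a)
    (hfree : ¬ Cfsg.Involves (Equiv.Perm (Fin 3)) L) (U : Sylow 2 L) {H : Subgroup L} (hne : H ≠ ⊤)
    (hN : normalizer ((U : Subgroup L) : Set L) ≤ H) {u : L} (hu : u ∈ (U : Subgroup L))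
    (hu2 : orderOf u = 2) (hC : centralizer ({u} : Set L) ≤ H) : ∃ q p, SzLike L q p := by
  rcases hK L inferInstance hna hfree with ⟨F, i, j, m, hm, hF, ⟨e⟩⟩ | ⟨F, i, j, n, hF, ⟨e⟩⟩
  · obtain ⟨p, hp⟩ := szLike_sz (m := m) ⟨hF⟩ hm
    exact ⟨_, p, szLike_congr (e.trans (LieTwisted.Suzuki.szEquiv ⟨hF⟩ hm).symm) hp⟩
  · exact (not_psl hna hF e U hne hN hu hu2 hC).elim

end Cfsg.Agent.Lib.Stellmacher55
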