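import Cfsg.Agent.Lib.Stellmacher55.PairsBasic
import Cfsg.Agent.Lib.Stellmacher55.SimpleFree
import Cfsg.Agent.Lib.LAEven54.SylowJoin
import Cfsg.Agent.Lib.Components.GenFitting

/-!
# Components in the reduced setting

`Semi S M`: `O₂ = O(Y) = 1`, no section `Sym(3)`, `M` the only maximal subgroup over `S`.  Every component is
a Suzuki group, meets `M` in the normaliser of its Sylow 2-subgroup, and its conjugates are conjugates under `S`.

Owner: helper55.
-/

set_option autoImplicit false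
set_option linter.style.haveILetI false
set_option linter.unusedSectionVars false

namespace Cfsg.Agent.Lib.Stellmacher55

open Subgroup PLocal
open scoped commutatorElement

universe u

variable {Y : Type u} [Group Y] [Finite Y]

/-- `Red` with trivial odd core. -/
structure Semi (S : Sylow 2 Y) (M : Subgroup Y) : Prop extends Red S M where
  odd : Cfsg.pPrimeCore 2 Y = ⊥

/-- The conjugate of a subgroup. -/
abbrev conjOf (g : Y) (L : Subgroup Y) : Subgroup Y := L.map (MulAut.conj g).toMonoidHom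

theorem mem_conjOf {g x : Y} {L : Subgroup Y} : x ∈ conjOf g L ↔ g⁻¹ * x * g ∈ L := by
  rw [conjOf, Subgroup.mem_map_equiv, MulAut.conj_symm_apply]

theorem conjOf_mul (g h : Y) (L : Subgroup Y) : conjOf (g * h) L = conjOf g (conjOf h L) := by
  ext x
  simp only [mem_conjOf, _root_.mul_inv_rev, mul_assoc]

theorem conjOf_one (L : Subgroup Y) : conjOf 1 L = L := by
  ext x
  simp [mem_conjOf]

theorem conjOf_eq_iff {g : Y} {L : Subgroup Y} : conjOf g L = L ↔ g ∈ normalizer (L : Set Y) :=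
  ⟨fun h => PGroups.mem_normalizer_of_map_conj_eq h, fun h => PGroups.map_conj_eq_of_mem_normalizer h⟩

theorem conj_mem_conjOf {g x : Y} {L : Subgroup Y} (hx : x ∈ L) : g * x * g⁻¹ ∈ conjOf g L :=
  ⟨x, hx, rfl⟩

variable {S : Sylow 2 Y} {M : Subgroup Y}

theorem Semi.not_le_of_normal (r : Semi S M) {R : Subgroup Y} [R.Normal] (hne : R ≠ ⊥) : ¬ R ≤ M := fun h =>
  hne (le_bot_iff.1 (r.odd ▸ Cores.le_pPrimeCore (Nat.coprime_two_right.2 (r.toRed.odd_of_le h))))

theorem Semi.fitting_eq_bot (r : Semi S M) : Cfsg.fittingSubgroup Y = ⊥ := by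
  rw [Cores.fittingSubgroup_eq_iSup_pCore, iSup_eq_bot]
  intro p
  by_cases hp : (p : ℕ) = 2
  · rw [hp]; exact r.core
  · haveI : Fact (p : ℕ).Prime := ⟨p.2⟩
    obtain ⟨k, hk⟩ := IsPGroup.iff_card.1 (Cores.pCore_isPGroup (G := Y) (p : ℕ))
    refine le_bot_iff.1 (r.odd ▸ Cores.le_pPrimeCore ?_)
    rw [hk]
    exact Nat.Coprime.pow_left k ((Nat.coprime_primes p.2 Nat.prime_two).2 hp)

theorem Semi.exists_component (r : Semi S M) : ∃ L : Subgroup Y, Cfsg.IsComponent L := by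
  rw [← Components.Layer.layer_ne_bot_iff]
  intro h
  have hF : Cfsg.generalizedFittingSubgroup Y = ⊥ := by
    rw [Cfsg.generalizedFittingSubgroup, h, r.fitting_eq_bot, sup_bot_eq]
  have hC := Components.GenFitting.centralizer_le (G := Y)
  rw [hF, Subgroup.coe_bot] at hC
  refine r.ne (eq_top_iff.2 fun y _ => ?_)
  have hy : y ∈ (⊥ : Subgroup Y) := hC (mem_centralizer_iff.2 fun x hx => by simp [Set.mem_singleton_iff.1 hx])
  rw [Subgroup.mem_bot] at hy
  rw [hy]; exact M.one_mem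

variable {L : Subgroup Y}

theorem Semi.center_eq_bot (r : Semi S M) (hL : Cfsg.IsComponent L) : Subgroup.center L = ⊥ := by
  have hle : (Subgroup.center L).map L.subtype ≤ Cfsg.fittingSubgroup Y := by
    refine Cores.IsSubnormal.le_fittingSubgroup ?_ (Cores.isNilpotent_map _
      (by letI : CommGroup (Subgroup.center L) := { mul_comm := fun a b => Subtype.ext (mem_center_iff.1 b.2 a) }; exact CommGroup.isNilpotent))
    exact (Subgroup.Normal.isSubnormal inferInstance).trans' hL.1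
  rw [r.fitting_eq_bot, le_bot_iff] at hle
  exact (Subgroup.map_eq_bot_iff_of_injective _ L.subtype_injective).1 hle

theorem Semi.isSimple (r : Semi S M) (hL : Cfsg.IsComponent L) : IsSimpleGroup L := by
  haveI := Components.Quasisimple.nontrivial hL.2
  refine ⟨fun N hN => ?_⟩
  exact (Components.Quasisimple.normal_le_center_or_eq_top hL.2 hN).imp
    (fun h => le_bot_iff.1 (r.center_eq_bot hL ▸ h)) id

theorem comp_ncomm (hL : Cfsg.IsComponent L) : ∃ a b : L, a * b ≠ b * a := by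
  by_contra h
  push Not at h
  exact Components.Component.not_isMulCommutative hL ⟨⟨h⟩⟩

/-- An element of `L` centralising `L` is trivial. -/
theorem Semi.eq_one (r : Semi S M) (hL : Cfsg.IsComponent L) {x : Y} (hx : x ∈ L)
    (hc : x ∈ centralizer (L : Set Y)) : x = 1 := by
  have h1 : (⟨x, hx⟩ : L) ∈ Subgroup.center L :=
    mem_center_iff.2 fun y => Subtype.ext (mem_centralizer_iff.1 hc y y.2)
  rw [r.center_eq_bot hL, Subgroup.mem_bot] at h1
  exact congrArg Subtype.val h1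

/-- A component lies in every non-trivial normal subgroup. -/
theorem Semi.le_of_normal (r : Semi S M) (hL : Cfsg.IsComponent L) {R : Subgroup Y} [R.Normal]
    (hne : R ≠ ⊥) : L ≤ R := by
  refine (Components.Component.le_or_commutator_eq_bot hL
    (Subgroup.Normal.isSubnormal (inferInstance : R.Normal))).resolve_right fun h => ?_
  obtain ⟨p, hp, hp2, hdvd⟩ : ∃ p, p.Prime ∧ p ≠ 2 ∧ p ∣ Nat.card L := by
    by_contra hcon
    push Not at hcon
    haveI : Fact (Nat.Prime 2) := ⟨Nat.prime_two⟩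
    have hpg : IsPGroup 2 L := by
      refine IsPGroup.of_card (n := (Nat.card L).primeFactorsList.length) ?_
      refine (Nat.eq_prime_pow_of_unique_prime_dvd Nat.card_pos.ne' fun {d} hd hdd => ?_)
      by_contra hne
      exact hcon d hd hne hdd
    haveI := hpg.isNilpotent
    exact Components.Component.not_isSolvable hL inferInstance
  haveI := Fact.mk hp
  obtain ⟨x, hx⟩ := exists_prime_orderOf_dvd_card' p hdvd
  have hxR : (x : Y) ∈ R := r.toRed.odd_mem (r.not_le_of_normal hne) (by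
    rw [Subgroup.orderOf_coe, hx]; exact hp.odd_of_ne_two hp2)
  have h1 : (x : Y) = 1 := r.eq_one hL x.2 (mem_centralizer_iff.2 fun l hl =>
    (mem_centralizer_iff.1 (commutator_eq_bot_iff_le_centralizer.1 h hxR) l hl))
  rw [← Subgroup.orderOf_coe, h1, orderOf_one] at hx
  exact hp.one_lt.ne hx

theorem Semi.centralizer_closure (r : Semi S M) (hL : Cfsg.IsComponent L) :
    centralizer (normalClosure (L : Set Y) : Set Y) = ⊥ := by
  by_contra hne
  exact Components.Component.not_le_centralizer_self hL ((r.le_of_normal hL hne).trans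
    (Subgroup.centralizer_le subset_normalClosure))

theorem closure_le_normalizer {L' : Subgroup Y} (hL : Cfsg.IsComponent L) (hL' : Cfsg.IsComponent L') :
    normalClosure (L : Set Y) ≤ normalizer (L' : Set Y) := by
  refine le_trans ?_ (Components.Layer.layer_le_normalizer hL')
  refine (Subgroup.closure_le _).2 fun x hx => ?_
  obtain ⟨l, hl, hc⟩ := Group.mem_conjugatesOfSet_iff.1 hx
  obtain ⟨g, rfl⟩ := isConj_iff.1 hc
  exact Components.Layer.component_le_layer (Components.Component.conj hL g) (conj_mem_conjOf hl)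

theorem Semi.closure_sup (r : Semi S M) (hL : Cfsg.IsComponent L) :
    normalClosure (L : Set Y) ⊔ (S : Subgroup Y) = ⊤ :=
  r.toRed.eq_top_of_sup (r.not_le_of_normal fun h =>
    Components.Component.ne_bot hL (le_bot_iff.1 (h ▸ fun _ hx => subset_normalClosure hx)))

/-- The conjugates of a component are its conjugates under `S`. -/
theorem Semi.exists_conj (r : Semi S M) (hL : Cfsg.IsComponent L) (g : Y) :
    ∃ s ∈ (S : Subgroup Y), conjOf g L = conjOf s L := by
  have hg : g ∈ normalClosure (L : Set Y) ⊔ (S : Subgroup Y) := by rw [r.closure_sup hL]; trivial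
  rw [← SetLike.mem_coe, Subgroup.normal_mul] at hg
  obtain ⟨n, hn, s, hs, rfl⟩ := hg
  refine ⟨s, hs, ?_⟩
  rw [conjOf_mul, conjOf_eq_iff]
  exact closure_le_normalizer hL (Components.Component.conj hL s) hn

/-- What centralises all `S`-conjugates of a component is trivial. -/
theorem Semi.eq_one_of_forall (r : Semi S M) (hL : Cfsg.IsComponent L) {x : Y}
    (h : ∀ s ∈ (S : Subgroup Y), x ∈ centralizer (conjOf s L : Set Y)) : x = 1 := by
  rw [← Subgroup.mem_bot, ← r.centralizer_closure hL, normalClosure, Subgroup.centralizer_closure,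
    mem_centralizer_iff]
  intro y hy
  obtain ⟨l, hl, hc⟩ := Group.mem_conjugatesOfSet_iff.1 hy
  obtain ⟨g, rfl⟩ := isConj_iff.1 hc
  obtain ⟨s, hs, he⟩ := r.exists_conj hL g
  exact mem_centralizer_iff.1 (h s hs) _ (he ▸ conj_mem_conjOf hl)

/-- A component centralises each of its other conjugates. -/
theorem conjOf_le_centralizer (hL : Cfsg.IsComponent L) {g : Y} (hg : g ∉ normalizer (L : Set Y)) :
    conjOf g L ≤ centralizer (L : Set Y) :=
  Components.Component.le_centralizer_of_ne (Components.Component.conj hL g) hL fun h => hg (conjOf_eq_iff.1 h)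

theorem Semi.not_le (r : Semi S M) (hL : Cfsg.IsComponent L) : ¬ L ≤ M := by
  intro hLM
  refine r.not_le_of_normal (R := normalClosure (L : Set Y)) (fun h =>
    Components.Component.ne_bot hL (le_bot_iff.1 (h ▸ fun _ hx => subset_normalClosure hx))) ?_
  refine (Subgroup.closure_le _).2 fun x hx => ?_
  obtain ⟨l, hl, hc⟩ := Group.mem_conjugatesOfSet_iff.1 hx
  obtain ⟨g, rfl⟩ := isConj_iff.1 hc
  obtain ⟨s, hs, he⟩ := r.exists_conj hL g
  have h1 : g * l * g⁻¹ ∈ conjOf s L := he ▸ conj_mem_conjOf hl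
  obtain ⟨l', hl', hl''⟩ := h1
  rw [← hl'']
  exact M.mul_mem (M.mul_mem (r.le hs) (hLM hl')) (M.inv_mem (r.le hs))

/-- `S ∩ L` as a Sylow subgroup of the component. -/
theorem exists_sylow (S : Sylow 2 Y) (hL : Cfsg.IsComponent L) :
    ∃ U : Sylow 2 L, (U : Subgroup L) = (S : Subgroup Y).subgroupOf L := by
  haveI : Fact (Nat.Prime 2) := ⟨Nat.prime_two⟩
  have h := LAEven54.SylowJoin.isSylowIn_inf S hL.1
  refine ⟨Sylow.ofCard ((S : Subgroup Y).subgroupOf L) ?_, rfl⟩
  rw [← h.card_eq, ← Subgroup.subgroupOf_map_subtype, Subgroup.card_map_of_injective L.subtype_injective]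

theorem even_comp (hL : Cfsg.IsComponent L) : 2 ∣ Nat.card L := by
  by_contra h
  exact Components.Component.not_isSolvable hL
    (OddOrder.FeitThompson.isSolvable_of_odd_card (Nat.odd_iff.2 (Nat.two_dvd_ne_zero.1 h)))

theorem inf_ne_bot (S : Sylow 2 Y) (hL : Cfsg.IsComponent L) : (S : Subgroup Y) ⊓ L ≠ ⊥ := by
  haveI : Fact (Nat.Prime 2) := ⟨Nat.prime_two⟩
  intro h
  have h1 := (LAEven54.SylowJoin.isSylowIn_inf S hL.1).card_eq
  rw [h, Subgroup.card_bot] at h1
  have := (Nat.prime_two.factorization_pos_of_dvd Nat.card_pos.ne' (even_comp hL))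
  exact absurd h1.symm (Nat.one_lt_two_pow this.ne').ne'

/-- The join of the `S`-conjugates of `S ∩ L`. -/
def vJoin (S : Sylow 2 Y) (L : Subgroup Y) : Subgroup Y :=
  ⨆ s : (S : Subgroup Y), conjOf (s : Y) ((S : Subgroup Y) ⊓ L)

theorem conjOf_inf (L : Subgroup Y) {s : Y} (hs : s ∈ (S : Subgroup Y)) :
    conjOf s ((S : Subgroup Y) ⊓ L) = (S : Subgroup Y) ⊓ conjOf s L := by
  rw [conjOf, conjOf, Subgroup.map_inf _ _ _ (MulAut.conj s).injective]
  congr 1
  exact PGroups.map_conj_eq_of_mem_normalizer (Subgroup.le_normalizer hs)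

theorem vJoin_le (L : Subgroup Y) : vJoin S L ≤ (S : Subgroup Y) :=
  iSup_le fun s => by rw [conjOf_inf L s.2]; exact inf_le_left

theorem inf_le_vJoin (L : Subgroup Y) : (S : Subgroup Y) ⊓ L ≤ vJoin S L := by
  refine le_trans ?_ (le_iSup _ 1)
  rw [Subgroup.coe_one, conjOf_one]

theorem le_normalizer_vJoin (L : Subgroup Y) : (S : Subgroup Y) ≤ normalizer (vJoin S L : Set Y) := by
  intro t ht
  refine PGroups.mem_normalizer_of_map_conj_eq (Subgroup.eq_of_le_of_card_ge ?_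
    (Subgroup.card_map_of_injective (MulAut.conj t).injective).ge)
  rw [vJoin, Subgroup.map_iSup]
  refine iSup_le fun s => le_trans (le_of_eq ?_) (le_iSup _ (⟨t, ht⟩ * s))
  exact (conjOf_mul t s _).symm

theorem Semi.normalizer_vJoin_le (r : Semi S M) (hL : Cfsg.IsComponent L) :
    normalizer (vJoin S L : Set Y) ≤ M := by
  refine r.max _ (le_normalizer_vJoin L) fun h => ?_
  haveI : (vJoin S L).Normal := normalizer_eq_top_iff.1 h
  exact inf_ne_bot S hL (le_bot_iff.1 ((inf_le_vJoin L).trans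
    (r.core ▸ Cores.le_pCore (S.2.to_le (vJoin_le L)))))

/-- An element of `N_L(S ∩ L)` normalises every conjugate of `S ∩ L`. -/
theorem mem_normalizer_vJoin (hL : Cfsg.IsComponent L) {g : Y} (hg : g ∈ L)
    (hgn : g ∈ normalizer (((S : Subgroup Y) ⊓ L : Subgroup Y) : Set Y)) :
    g ∈ normalizer (vJoin S L : Set Y) := by
  refine PGroups.mem_normalizer_of_map_conj_eq ?_
  rw [vJoin, Subgroup.map_iSup]
  refine iSup_congr fun s => ?_
  refine PGroups.map_conj_eq_of_mem_normalizer ?_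
  by_cases hs : (s : Y) ∈ normalizer (L : Set Y)
  · rwa [conjOf_inf L s.2, conjOf_eq_iff.2 hs]
  · refine Subgroup.centralizer_le_normalizer _ (mem_centralizer_iff.2 fun x hx => ?_)
    exact (mem_centralizer_iff.1 (conjOf_le_centralizer hL hs (Subgroup.map_mono inf_le_right hx)) g hg).symm

theorem Semi.normalizer_inf_le (r : Semi S M) (hL : Cfsg.IsComponent L) :
    normalizer (((S : Subgroup Y) ⊓ L : Subgroup Y) : Set Y) ⊓ L ≤ M := fun _ hg =>
  r.normalizer_vJoin_le hL (mem_normalizer_vJoin hL hg.2 hg.1)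

/-- An involution of `S ∩ L` whose centraliser in `L` lies in `M`. -/
theorem Semi.exists_central (r : Semi S M) (hL : Cfsg.IsComponent L) :
    ∃ u ∈ (S : Subgroup Y) ⊓ L, orderOf u = 2 ∧ centralizer ({u} : Set Y) ⊓ L ≤ M := by
  haveI : Fact (Nat.Prime 2) := ⟨Nat.prime_two⟩
  set U := (S : Subgroup Y) ⊓ L with hU
  set V := vJoin S L
  -- a central involution of `S` in `V`
  obtain ⟨z, hzV, hz2, hzc⟩ : ∃ z ∈ V, orderOf z = 2 ∧ z ∈ centralizer ((S : Subgroup Y) : Set Y) := by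
    set V' := V.subgroupOf (S : Subgroup Y)
    haveI : V'.Normal :=
      (Subgroup.normal_subgroupOf_iff_le_normalizer (vJoin_le L)).2 (le_normalizer_vJoin L)
    have hne : V' ⊓ Subgroup.center (S : Subgroup Y) ≠ ⊥ := by
      intro h
      have h1 : V' = ⊥ := not_ne_iff.1 fun h' => PGroups.normal_inf_center_ne_bot S.2 V' h' h
      rw [Subgroup.subgroupOf_eq_bot, disjoint_iff, inf_eq_left.2 (vJoin_le L)] at h1
      exact inf_ne_bot S hL (le_bot_iff.1 (h1 ▸ inf_le_vJoin L))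
    obtain ⟨k, hk⟩ := IsPGroup.iff_card.1 ((S.2.to_subgroup (V' ⊓ Subgroup.center (S : Subgroup Y))))
    have h2 : 2 ∣ Nat.card ↥(V' ⊓ Subgroup.center (S : Subgroup Y)) := by
      rcases Nat.eq_zero_or_pos k with rfl | hk0
      · exact absurd (Subgroup.card_eq_one.1 (by rw [hk, pow_zero])) hne
      · rw [hk]; exact dvd_pow_self 2 hk0.ne'
    obtain ⟨w, hw⟩ := exists_prime_orderOf_dvd_card' 2 h2
    refine ⟨((w : (S : Subgroup Y)) : Y), w.2.1, by rw [Subgroup.orderOf_coe, Subgroup.orderOf_coe, hw],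
      mem_centralizer_iff.2 fun y hy => congrArg Subtype.val (mem_center_iff.1 w.2.2 ⟨y, hy⟩)⟩
  -- its component in `L`
  have hVle : V ≤ U ⊔ centralizer (L : Set Y) := iSup_le fun s => by
    by_cases hs : (s : Y) ∈ normalizer (L : Set Y)
    · rw [conjOf_inf L s.2, conjOf_eq_iff.2 hs]; exact le_sup_left
    · exact ((Subgroup.map_mono inf_le_right).trans (conjOf_le_centralizer hL hs)).trans le_sup_right
  have hcn : centralizer (L : Set Y) ≤ normalizer (U : Set Y) :=
    (Subgroup.centralizer_le (inf_le_right : U ≤ L)).trans (Subgroup.centralizer_le_normalizer _)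
  have hz' := hVle hzV
  rw [← SetLike.mem_coe, Subgroup.coe_mul_of_right_le_normalizer_left _ _ hcn] at hz'
  obtain ⟨u, hu, c, hc, hzuc⟩ := hz'
  simp only at hzuc
  have hcomm : Commute u c := mem_centralizer_iff.1 hc u hu.2
  have hu1 : u ≠ 1 := by
    rintro rfl
    have hz1 : z = 1 := r.eq_one_of_forall hL fun s hs => mem_centralizer_iff.2 fun x hx => by
      obtain ⟨l, hl, rfl⟩ := hx
      rw [one_mul] at hzuc
      have h1 : l * z = z * l := hzuc ▸ mem_centralizer_iff.1 hc l hl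
      have h2 : s * z = z * s := mem_centralizer_iff.1 hzc s hs
      show s * l * s⁻¹ * z = z * (s * l * s⁻¹)
      exact ((Commute.mul_left (Commute.mul_left h2 h1) (Commute.inv_left h2))).eq
    rw [hz1, orderOf_one] at hz2; omega
  have hu2 : u * u = 1 := by
    refine r.eq_one hL (L.mul_mem hu.2 hu.2) ?_
    have h1 : (u * c) * (u * c) = 1 := by
      rw [hzuc, ← pow_two, ← hz2, pow_orderOf_eq_one]
    rw [hcomm.symm.mul_mul_mul_comm] at h1
    rw [eq_inv_of_mul_eq_one_left h1]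
    exact (centralizer (L : Set Y)).inv_mem (mul_mem hc hc)
  refine ⟨u, hu, orderOf_eq_prime (by rw [pow_two, hu2]) hu1, fun g hg => ?_⟩
  have hgz : g ∈ centralizer ({z} : Set Y) := by
    rw [← hzuc]
    exact mem_centralizer_singleton_iff.2 (Commute.mul_right (mem_centralizer_singleton_iff.1 hg.1)
      (mem_centralizer_iff.1 hc g hg.2)).eq
  refine r.max _ (fun s hs => mem_centralizer_singleton_iff.2 (mem_centralizer_iff.1 hzc s hs)) ?_ hgz
  intro htop
  haveI : (zpowers z).Normal := ⟨fun n hn y => by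
    obtain ⟨i, rfl⟩ := hn
    have h1 : Commute y z := mem_centralizer_singleton_iff.1 (htop ▸ mem_top y)
    show y * z ^ i * y⁻¹ ∈ _
    rw [(h1.zpow_right i).eq, mul_inv_cancel_right]
    exact ⟨i, rfl⟩⟩
  have h2 := r.core ▸ Cores.le_pCore (IsPGroup.of_card (p := 2) (G := zpowers z) (n := 1)
    (by rw [Nat.card_zpowers, hz2, pow_one]))
  rw [Subgroup.mem_bot.1 (h2 (mem_zpowers z)), orderOf_one] at hz2
  omega

/-- A component is a Suzuki group. -/
theorem Semi.szLike (r : Semi S M) (hK : SThreeFree21.SThreeFreeSimple.{u}) (hL : Cfsg.IsComponent L) :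
    ∃ q p, SzLike L q p := by
  haveI := r.isSimple hL
  obtain ⟨U, hU⟩ := exists_sylow S hL
  obtain ⟨u, hu, hu2, hC⟩ := r.exists_central hL
  refine szLike_of_free hK (comp_ncomm hL)
    (fun h => r.free (Transfer.InvolvesS4.involves_of_injective L.subtype L.subtype_injective h)) U (H := M.subgroupOf L)
    (fun h => r.not_le hL (Subgroup.subgroupOf_eq_top.1 h)) ?_ (u := ⟨u, hu.2⟩)
    (hU ▸ Subgroup.mem_subgroupOf.2 hu.1) (by rw [Subgroup.orderOf_mk, hu2]) ?_
  · intro g hg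
    refine Subgroup.mem_subgroupOf.2 (r.normalizer_inf_le hL ⟨mem_normalizer_iff.2 fun x => ?_, g.2⟩)
    rw [hU] at hg
    constructor
    · intro hx
      exact ⟨(mem_normalizer_iff.1 hg ⟨x, hx.2⟩).1 hx.1, L.mul_mem (L.mul_mem g.2 hx.2) (L.inv_mem g.2)⟩
    · intro hx
      have hxL : x ∈ L := by
        have := L.mul_mem (L.mul_mem (L.inv_mem g.2) hx.2) g.2
        simpa [mul_assoc] using this
      exact ⟨(mem_normalizer_iff.1 hg ⟨x, hxL⟩).2 hx.1, hxL⟩
  · intro g hg
    refine Subgroup.mem_subgroupOf.2 (hC ⟨mem_centralizer_singleton_iff.2 ?_, g.2⟩)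
    exact congrArg Subtype.val (mem_centralizer_singleton_iff.1 hg)

/-- `M ∩ L` normalises the Sylow subgroup `S ∩ L`. -/
theorem Semi.inf_le_normalizer (r : Semi S M) {q p : ℕ} (hL : Cfsg.IsComponent L) (hz : SzLike L q p) {x : Y}
    (hxM : x ∈ M) (hxL : x ∈ L) {u : Y} (hu : u ∈ (S : Subgroup Y) ⊓ L) :
    x * u * x⁻¹ ∈ (S : Subgroup Y) ⊓ L := by
  obtain ⟨U, hU⟩ := exists_sylow S hL
  have h := hz.overgroup U (M.subgroupOf L) (fun y hy => Subgroup.mem_subgroupOf.2
      (r.le (Subgroup.mem_subgroupOf.1 (hU ▸ hy)))) (fun h => r.not_le hL (Subgroup.subgroupOf_eq_top.1 h))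
    (x := ⟨x, hxL⟩) (Subgroup.mem_subgroupOf.2 hxM)
  rw [hU] at h
  exact ⟨(mem_normalizer_iff.1 h ⟨u, hu.2⟩).1 hu.1, L.mul_mem (L.mul_mem hxL hu.2) (L.inv_mem hxL)⟩

/-- A 2-element of `M ∩ L` lies in `S`. -/
theorem Semi.mem_of_two (r : Semi S M) {q p : ℕ} (hL : Cfsg.IsComponent L) (hz : SzLike L q p) {x : Y}
    (hxM : x ∈ M) (hxL : x ∈ L) {j : ℕ} (hx : x ^ 2 ^ j = 1) : x ∈ (S : Subgroup Y) := by
  haveI : Fact (Nat.Prime 2) := ⟨Nat.prime_two⟩
  obtain ⟨U, hU⟩ := exists_sylow S hL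
  have hn : (⟨x, hxL⟩ : L) ∈ normalizer ((U : Subgroup L) : Set L) := by
    refine hz.overgroup U (M.subgroupOf L) (fun y hy => Subgroup.mem_subgroupOf.2
      (r.le (Subgroup.mem_subgroupOf.1 (hU ▸ hy)))) (fun h => r.not_le hL (Subgroup.subgroupOf_eq_top.1 h))
      (Subgroup.mem_subgroupOf.2 hxM)
  have hp : IsPGroup 2 ↥(zpowers (⟨x, hxL⟩ : L)) := by
    obtain ⟨i, -, hi⟩ := (Nat.dvd_prime_pow Nat.prime_two).1
      (orderOf_dvd_of_pow_eq_one (show (⟨x, hxL⟩ : L) ^ 2 ^ j = 1 from Subtype.ext hx))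
    exact IsPGroup.of_card (n := i) (by rw [Nat.card_zpowers, hi])
  have hle : zpowers (⟨x, hxL⟩ : L) ⊔ (U : Subgroup L) = U :=
    U.3 (IsPGroup.to_sup_of_normal_right' hp U.2 (zpowers_le.2 hn)) le_sup_right
  have h1 : (⟨x, hxL⟩ : L) ∈ (U : Subgroup L) := hle ▸ mem_sup_left (mem_zpowers _)
  rw [hU] at h1
  exact Subgroup.mem_subgroupOf.1 h1

/-- An element congruent to an element of `L` moving `S ∩ L` lies outside `M`. -/
theorem Semi.not_mem_of_congr (r : Semi S M) {q p : ℕ} (hL : Cfsg.IsComponent L) (hz : SzLike L q p)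
    {k k₀ : Y} (hk₀ : k₀ ∈ L) (hk : k₀⁻¹ * k ∈ centralizer (L : Set Y)) (hdvd : p ∣ orderOf k₀) : k ∉ M := by
  haveI : Fact (Nat.Prime 2) := ⟨Nat.prime_two⟩
  intro hkM
  obtain ⟨U, hU⟩ := exists_sylow S hL
  have hconj : ∀ u ∈ (S : Subgroup Y) ⊓ L, k₀ * u * k₀⁻¹ ∈ (S : Subgroup Y) ⊓ L := by
    intro u hu
    have e : k * u * k⁻¹ = k₀ * u * k₀⁻¹ := by
      calc k * u * k⁻¹ = k₀ * ((k₀⁻¹ * k) * u) * (k₀⁻¹ * k)⁻¹ * k₀⁻¹ := by group
        _ = k₀ * (u * (k₀⁻¹ * k)) * (k₀⁻¹ * k)⁻¹ * k₀⁻¹ := by rw [mem_centralizer_iff.1 hk u hu.2]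
        _ = k₀ * u * k₀⁻¹ := by group
    refine ⟨r.mem_of_two hL hz ?_ (L.mul_mem (L.mul_mem hk₀ hu.2) (L.inv_mem hk₀))
      (j := (S.2 ⟨u, hu.1⟩).choose) ?_, L.mul_mem (L.mul_mem hk₀ hu.2) (L.inv_mem hk₀)⟩
    · rw [← e]; exact M.mul_mem (M.mul_mem hkM (r.le hu.1)) (M.inv_mem hkM)
    · have h1 : u ^ 2 ^ (S.2 ⟨u, hu.1⟩).choose = 1 :=
        congrArg Subtype.val (S.2 ⟨u, hu.1⟩).choose_spec
      rw [conj_pow, h1, mul_one, mul_inv_cancel]
  have hn : (⟨k₀, hk₀⟩ : L) ∈ normalizer ((U : Subgroup L) : Set L) := by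
    refine PGroups.mem_normalizer_of_map_conj_eq (Subgroup.eq_of_le_of_card_ge ?_
      (Subgroup.card_map_of_injective (MulAut.conj (⟨k₀, hk₀⟩ : L)).injective).ge)
    rw [hU]
    rintro _ ⟨y, hy, rfl⟩
    exact Subgroup.mem_subgroupOf.2 (hconj y ⟨Subgroup.mem_subgroupOf.1 hy, y.2⟩).1
  refine hz.not_dvd U (hdvd.trans ?_)
  rw [← Subgroup.orderOf_mk k₀ hk₀]
  exact Subgroup.orderOf_dvd_natCard _ hn

/-- A 2-element of `S` normalising a component acts on it as an element of `S ∩ L`. -/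
theorem Semi.exists_inner (r : Semi S M) {q p : ℕ} (hL : Cfsg.IsComponent L) (hz : SzLike L q p) {a : Y}
    (haS : a ∈ (S : Subgroup Y)) (haL : a ∈ normalizer (L : Set Y)) :
    ∃ d ∈ (S : Subgroup Y) ⊓ L, ∀ y ∈ L, a * y * a⁻¹ = d * y * d⁻¹ := by
  haveI : Fact (Nat.Prime 2) := ⟨Nat.prime_two⟩
  obtain ⟨j, hj⟩ := S.2 ⟨a, haS⟩
  have hj' : a ^ 2 ^ j = 1 := congrArg Subtype.val hj
  set θ : MulAut L := L.normalizerMonoidHom ⟨a, haL⟩ with hθ
  have hθj : θ ^ 2 ^ j = 1 := by
    rw [hθ, ← map_pow, show (⟨a, haL⟩ : normalizer (L : Set Y)) ^ 2 ^ j = 1 from Subtype.ext hj', map_one]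
  obtain ⟨d, hd⟩ := hz.inner θ ⟨j, hθj⟩
  have hact : ∀ y ∈ L, a * y * a⁻¹ = d * y * (d : Y)⁻¹ := fun y hy => by
    have h := congrArg Subtype.val (DFunLike.congr_fun hd (⟨y, hy⟩ : L))
    exact h.symm
  have hd2 : (d : Y) ^ 2 ^ j = 1 := by
    have h1 : MulAut.conj (d ^ 2 ^ j) = (1 : MulAut L) := by rw [map_pow, hd, hθj]
    refine r.eq_one hL (L.pow_mem d.2 _) (mem_centralizer_iff.2 fun y hy => ?_)
    have h2 := congrArg Subtype.val (DFunLike.congr_fun h1 ⟨y, hy⟩)
    simp only [MulAut.conj_apply, MulAut.one_apply, Subgroup.coe_mul, Subgroup.coe_inv, Subgroup.coe_pow] at h2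
    exact (mul_inv_eq_iff_eq_mul.1 h2).symm
  refine ⟨d, ⟨r.mem_of_two hL hz (r.normalizer_inf_le hL ⟨?_, d.2⟩) d.2 hd2, d.2⟩, hact⟩
  refine PGroups.mem_normalizer_of_map_conj_eq (Subgroup.eq_of_le_of_card_ge ?_
    (Subgroup.card_map_of_injective (MulAut.conj (d : Y)).injective).ge)
  rintro _ ⟨u, hu, rfl⟩
  show (d : Y) * u * (d : Y)⁻¹ ∈ _
  rw [← hact u hu.2]
  exact ⟨(S : Subgroup Y).mul_mem ((S : Subgroup Y).mul_mem haS hu.1) ((S : Subgroup Y).inv_mem haS),
    (mem_normalizer_iff.1 haL u).1 hu.2⟩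

/-- The inner element is unique. -/
theorem Semi.inner_unique (r : Semi S M) (hL : Cfsg.IsComponent L) {d d' : Y} (hd : d ∈ L) (hd' : d' ∈ L)
    (h : ∀ y ∈ L, d * y * d⁻¹ = d' * y * d'⁻¹) : d = d' := by
  refine (inv_mul_eq_one.1 (r.eq_one hL (L.mul_mem (L.inv_mem hd') hd) (mem_centralizer_iff.2 fun y hy => ?_))).symm
  calc y * (d'⁻¹ * d) = d'⁻¹ * (d' * y * d'⁻¹) * d := by group
    _ = d'⁻¹ * (d * y * d⁻¹) * d := by rw [h y hy]
    _ = d'⁻¹ * d * y := by group

end Cfsg.Agent.Lib.Stellmacher55
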