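import Cfsg.Agent.Lib.Stellmacher55.Central
import Cfsg.Agent.Lib.Stellmacher18.Row1999

/-!
# The descent

No configuration lives on a closure `W` with `R` centralising all shorter closures.

Owner: helper21.
-/

set_option autoImplicit false
set_option linter.style.haveILetI false
set_option linter.unusedSectionVars false

namespace Cfsg.Agent.Lib.Stellmacher55

open PLocal GlaubermanTwo54
open scoped commutatorElement

universe u

variable {G : Type u} [Group G] [Finite G]

/-- In one group: the operator group lies in `O₂(G)`. -/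
theorem descent_step (hK : SThreeFree21.SThreeFreeSimple.{u}) (hpo : PropPairOut.{u}) {S : Sylow 2 G}
    {M : Subgroup G} (cfg : Cfg S M) {Y P Pm R : Subgroup G}
    (hPY : P = Subgroup.normalClosure (Y : Set G)) (hP : Cfsg.IsElementaryAbelian 2 P)
    (hPT : P ≤ Cfsg.pCore 2 G) (hSY : (S : Subgroup G) ≤ Subgroup.normalizer (Y : Set G))
    (hR : Cfsg.IsElementaryAbelian 2 R) (hRS : R ≤ (S : Subgroup G))
    (hRY : R ≤ Subgroup.centralizer (Y : Set G)) (hcfg : Config P Pm R) : R ≤ Cfsg.pCore 2 G := by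
  classical
  haveI : Fact (Nat.Prime 2) := ⟨Nat.prime_two⟩
  haveI hPn : P.Normal := hPY ▸ Subgroup.normalClosure_normal
  have h : Hyp G := Stellmacher18.hyp_of_free hK cfg.free cfg.c2
  have hD := dichotomy_of_minOver S ⟨M, cfg.ne, cfg.max⟩
  set T := Cfsg.pCore 2 G with hT
  set O := Cfsg.pResidual 2 G with hO
  set M₁ := ⁅P, T⁆ with hM₁
  haveI : M₁.Normal := Subgroup.commutator_normal P T
  have hYP : Y ≤ P := hPY ▸ Subgroup.subset_normalClosure
  have hTS : T ≤ (S : Subgroup G) := Cores.pCore_le_sylow S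
  have hM₁P : M₁ ≤ P := Subgroup.commutator_le_left _ _
  -- `Y [P, T]` is not normal
  have hYn : ¬ (Y ⊔ M₁).Normal := by
    intro hn
    haveI := hn
    obtain ⟨N, ⟨hNn, hNP, hPN⟩, hNmin⟩ := Set.exists_min_image
      {N : Subgroup G | N.Normal ∧ N ≤ P ∧ P ≤ Y ⊔ N} (fun N => Nat.card N) (Set.toFinite _)
      ⟨P, hPn, le_rfl, le_sup_right⟩
    haveI := hNn
    have hN0 : N = ⊥ := by
      by_contra hne
      obtain ⟨N', hN', hlt, -, hcomm, -⟩ := exists_factor (hNP.trans hPT) hne
      haveI := hN'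
      haveI : (⁅N, T⁆).Normal := Subgroup.commutator_normal N T
      have hTY : T ≤ Subgroup.normalizer (Y : Set G) := hTS.trans hSY
      have h1 : M₁ ≤ Y ⊔ ⁅N, T⁆ := by
        rw [hM₁, Subgroup.commutator_le]
        intro v hv t ht
        have hv' : v ∈ ((Y ⊔ N : Subgroup G) : Set G) := hPN hv
        rw [Subgroup.mul_normal] at hv'
        obtain ⟨y, hy, n, hn', rfl⟩ := hv'
        show ⁅y * n, t⁆ ∈ _
        rw [comm_mul_left hP.1 (hYP hy) (hNP hn') (by rw [Subgroup.normalizer_eq_top]; trivial)]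
        exact mul_mem (Subgroup.mem_sup_left (commutatorElement_mem (hTY ht) hy))
          (Subgroup.mem_sup_right (Subgroup.commutator_mem_commutator hn' ht))
      have h2 : P ≤ Y ⊔ ⁅N, T⁆ := by
        have : P ≤ Y ⊔ M₁ := by
          conv_lhs => rw [hPY]
          exact Subgroup.normalClosure_le_normal (SetLike.coe_subset_coe.2 le_sup_left)
        exact this.trans (sup_le le_sup_left h1)
      have h3 := hNmin ⁅N, T⁆ ⟨inferInstance, (Subgroup.commutator_le_left _ _).trans hNP, h2⟩
      have h4 : Nat.card ↥⁅N, T⁆ ≤ Nat.card N' := Subgroup.card_le_of_le hcomm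
      have h5 : Nat.card N' < Nat.card N := lt_of_le_of_ne (Subgroup.card_le_of_le hlt.le)
        fun e => hlt.ne (Subgroup.eq_of_le_of_card_ge hlt.le e.ge)
      omega
    rw [hN0, sup_bot_eq] at hPN
    exact hcfg.moved (hRY.trans (Subgroup.centralizer_le hPN))
  -- `O²` moves `P / [P, T]`
  have hmov : ¬ ⁅P, O⁆ ≤ M₁ := by
    intro hle
    refine hYn (normal_of_sylow_odd S ?_ fun x hx => ?_)
    · intro s hs
      refine Subgroup.mem_normalizer_iff_map_conj_eq.2 ?_
      rw [Subgroup.map_sup, Subgroup.mem_normalizer_iff_map_conj_eq.1 (hSY hs),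
        Subgroup.Normal.map_conj_eq M₁ s]
    · refine Subgroup.mem_normalizer_iff_map_conj_eq.2 (Subgroup.eq_of_le_of_card_ge ?_
        (Subgroup.card_map_of_injective (MulAut.conj x).injective).ge)
      rw [Subgroup.map_sup, Subgroup.Normal.map_conj_eq M₁ x]
      refine sup_le ?_ le_sup_right
      rintro _ ⟨y, hy, rfl⟩
      show x * y * x⁻¹ ∈ Y ⊔ M₁
      rw [conj_eq_commutator_inv_mul]
      exact mul_mem (inv_mem (Subgroup.mem_sup_right (hle (Subgroup.commutator_mem_commutator (hYP hy)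
        (Transfer.PResidual.mem_pResidual hx))))) (Subgroup.mem_sup_left hy)
  have hPmP : Pm ≤ P := hcfg.lt.le
  by_cases hin1 : Pm ≤ part Pm R M₁
  swap
  · exact moved_layer h S hD hP hR hRS hcfg le_rfl hM₁P le_rfl hmov
      (le_sup_of_le_right (le_inf hPmP le_rfl)) hin1
  -- a minimal member below `[P, T]`
  obtain ⟨N, ⟨hNn, hNM, hNin⟩, hNmin⟩ := Set.exists_min_image
    {N : Subgroup G | N.Normal ∧ N ≤ M₁ ∧ Pm ≤ part Pm R N} (fun N => Nat.card N) (Set.toFinite _)
    ⟨M₁, inferInstance, le_rfl, hin1⟩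
  haveI := hNn
  have hNP : N ≤ P := hNM.trans hM₁P
  have hNne : N ≠ ⊥ := by
    intro h0
    refine hcfg.moved fun r hr => ?_
    obtain ⟨e, he, hne⟩ := SetLike.exists_of_lt hcfg.lt
    refine hcfg.sep e he hne r hr ?_
    have h1 := hNin (hcfg.comm (Subgroup.commutator_mem_commutator he hr))
    obtain ⟨c, hc, n, hn, e'⟩ := mem_part hP hPmP h1
    have hn1 : n = 1 := by
      have : n ∈ N := hn.1
      rwa [h0, Subgroup.mem_bot] at this
    rw [e', hn1, mul_one]
    exact hc.2
  obtain ⟨N₂, hN₂n, hlt, -, hNT, hmax⟩ := exists_factor (hNP.trans hPT) hNne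
  haveI := hN₂n
  have hout : ¬ Pm ≤ part Pm R N₂ := fun hle => by
    have h1 := hNmin N₂ ⟨hN₂n, hlt.le.trans hNM, hle⟩
    have h2 : Nat.card N₂ < Nat.card N := lt_of_le_of_ne (Subgroup.card_le_of_le hlt.le)
      fun e => hlt.ne (Subgroup.eq_of_le_of_card_ge hlt.le e.ge)
    omega
  by_cases hNO : ⁅N, O⁆ ≤ N₂
  swap
  · exact moved_layer h S hD hP hR hRS hcfg hNP hlt.le hNT hNO hNin hout
  -- the layer is central
  have hNG : ⁅N, (⊤ : Subgroup G)⁆ ≤ N₂ := by
    haveI : (⁅N, (⊤ : Subgroup G)⁆).Normal := Subgroup.commutator_normal N ⊤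
    rcases hmax (⁅N, (⊤ : Subgroup G)⁆ ⊔ N₂) inferInstance le_sup_right
        (sup_le (Subgroup.commutator_le_left _ _) hlt.le) with h1 | h1
    · exact h1 ▸ le_sup_left
    exfalso
    set π := QuotientGroup.mk' N₂
    have hker : π.ker = N₂ := QuotientGroup.ker_mk' N₂
    have h2 : N ≤ ⁅N, (S : Subgroup G)⁆ ⊔ N₂ := by
      conv_lhs => rw [← h1]
      refine sup_le ?_ le_sup_right
      rw [Subgroup.commutator_le]
      intro n hn g _
      have hg : g ∈ (S : Subgroup G) ⊔ O := by rw [hO, CharP.sylow_sup_pResidual S]; trivial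
      obtain ⟨s, hs, x, hx, rfl⟩ := Subgroup.mem_sup_of_normal_right.mp hg
      rw [comm_mul_right]
      exact mul_mem (Subgroup.mem_sup_left (Subgroup.commutator_mem_commutator hn hs))
        (Subgroup.mem_sup_right (hN₂n.conj_mem _ (hNO (Subgroup.commutator_mem_commutator hn hx)) s))
    have h3 : N.map π ≤ ⁅N.map π, (S : Subgroup G).map π⁆ := by
      refine (Subgroup.map_mono h2).trans ?_
      rw [Subgroup.map_sup, ← Subgroup.map_commutator,
        show N₂.map π = ⊥ by rw [Subgroup.map_eq_bot_iff, hker], sup_bot_eq]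
    have h4 := Transfer.Fusion.eq_bot_of_le_commutator (S.2.map π)
      (Subgroup.map_mono ((hNP.trans hPT).trans hTS)) h3
    rw [Subgroup.map_eq_bot_iff, hker] at h4
    exact hlt.not_ge h4
  exact central_layer hpo cfg hP hYP hSY hR hRS hRY hcfg hNM hNG hYn hNin hout

/-- No configuration on a closure whose operators centralise all shorter closures. -/
theorem descent {S : Type u} [Group S] [Finite S]
    (hK : SThreeFree21.SThreeFreeSimple.{u}) (hpo : PropPairOut.{u})
    {n : ℕ} {W : Subgroup S} (hW : Reach S n W) : ∀ Pm R : Subgroup S,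
      Cfsg.IsElementaryAbelian 2 R → Cent n R → ¬ Config W Pm R := by
  induction hW with
  | base =>
    intro Pm R _ _ hcfg
    refine hcfg.moved fun r _ => Subgroup.mem_centralizer_iff.2 fun x hx => ?_
    exact (Subgroup.mem_center_iff.1 (PGroups.omegaOne_le 2 _ hx) r).symm
  | @step n W G _ _ τ hW hg ih =>
    intro Pm R hR hC hcfg
    haveI : Fact (Nat.Prime 2) := ⟨Nat.prime_two⟩
    obtain ⟨Q, hQ⟩ := hg.syl
    have hc := config_map τ hg.inj hcfg
    rw [hW.map_step hg] at hc
    set P := Subgroup.normalClosure (W.map τ : Set G) with hP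
    have hPle : P ≤ (topZJ S).map τ := hg.normalClosure_le hW.le_topZJ
    have hPel : Cfsg.IsElementaryAbelian 2 P := PGroups.elemAb_mono (PGroups.elemAb_map τ elemAb_topZJ) hPle
    have hPT : P ≤ Cfsg.pCore 2 G := by
      haveI : P.Normal := Subgroup.normalClosure_normal
      exact Cores.le_pCore (PGroups.elemAb_isPGroup hPel)
    have hSY : (Q : Subgroup G) ≤ Subgroup.normalizer ((W.map τ : Subgroup G) : Set G) := by
      rw [hQ, MonoidHom.range_eq_map]
      refine (le_of_eq ?_).trans (Subgroup.le_normalizer_map τ)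
      haveI := hW.normal
      rw [Subgroup.normalizer_eq_top]
    have hRY : R.map τ ≤ Subgroup.centralizer ((W.map τ : Subgroup G) : Set G) :=
      (GlaubermanTwo54.le_centralizer_map_iff τ hg.inj R W).2 (hC n (Nat.lt_succ_self n) W hW)
    obtain ⟨Mx, hMx, hmax⟩ := hg.min
    rw [← hQ] at hmax
    obtain ⟨M', hM', hSM'⟩ : ∃ M' : Subgroup G, M' ≠ ⊤ ∧ (Q : Subgroup G) ≤ M' ∧
        ∀ U : Subgroup G, (Q : Subgroup G) ≤ U → U ≠ ⊤ → U ≤ M' := by
      by_cases htop : (Q : Subgroup G) = ⊤
      · exfalso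
        haveI : (W.map τ).Normal := Subgroup.normalizer_eq_top_iff.1 (top_le_iff.1 (htop ▸ hSY))
        exact hc.moved (hRY.trans (Subgroup.centralizer_le (Subgroup.normalClosure_le_normal le_rfl)))
      exact ⟨Mx, hMx, hmax _ le_rfl htop, hmax⟩
    have hRT : R.map τ ≤ Cfsg.pCore 2 G :=
      descent_step hK hpo ⟨hg.free, hg.c2, hSM'.1, hM', hSM'.2⟩ hP hPel hPT hSY
        (PGroups.elemAb_map τ hR) (hQ.symm ▸ Subgroup.map_le_range τ R) hRY hc
    have hTr : Cfsg.pCore 2 G ≤ τ.range := hQ ▸ Cores.pCore_le_sylow Q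
    -- a piece outside `P⁻`
    obtain ⟨g, hgp⟩ : ∃ g : G, ¬ (W.map τ).map (MulAut.conj g).toMonoidHom ≤ Pm.map τ := by
      by_contra hcon
      push Not at hcon
      refine hc.lt.not_ge ((Subgroup.closure_le _).2 fun x hx => ?_)
      obtain ⟨y, hy, hyx⟩ := Group.mem_conjugatesOfSet_iff.1 hx
      obtain ⟨c, rfl⟩ := isConj_iff.1 hyx
      exact hcon c ⟨y, hy, rfl⟩
    set c := (MulAut.conj g).toMonoidHom with hcdef
    set Y := W.map τ
    set Y' := Y.map c with hY'
    haveI : P.Normal := Subgroup.normalClosure_normal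
    have hY'P : Y' ≤ P :=
      (Subgroup.map_mono Subgroup.subset_normalClosure).trans (Subgroup.Normal.map_conj_eq P g).le
    have hRY' : R.map τ ≤ Subgroup.normalizer (Y' : Set G) := by
      refine hRT.trans ?_
      rw [hY', ← Subgroup.Normal.map_conj_eq (Cfsg.pCore 2 G) g]
      exact (Subgroup.map_mono ((Cores.pCore_le_sylow Q).trans hSY)).trans (Subgroup.le_normalizer_map c)
    have hc' : Config Y' (Pm.map τ ⊓ Y') (R.map τ) := by
      refine ⟨lt_of_le_not_ge inf_le_right fun hle => hgp (hle.trans inf_le_left),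
        le_inf ((Subgroup.commutator_mono hY'P le_rfl).trans hc.comm) (commutator_le_self hRY'), ?_, ?_, ?_, ?_⟩
      · exact le_bot_iff.1 ((Subgroup.commutator_mono (Subgroup.commutator_mono inf_le_left le_rfl) le_rfl).trans
          hc.quad.le)
      · exact fun e he hne v hv => hc.fill e (hY'P he) (fun h => hne ⟨h, he⟩) v hv.1
      · exact fun e he hne r hr hcm => Subgroup.centralizer_le hY'P (hc.sep e (hY'P he) (fun h => hne ⟨h, he⟩) r hr hcm)
      · intro hle
        obtain ⟨e, he, hne⟩ := SetLike.not_le_iff_exists.1 hgp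
        refine hc.moved fun r hr => hc.sep e (hY'P he) hne r hr ?_
        rw [commutatorElement_eq_one_iff_mul_comm.2 (Subgroup.mem_centralizer_iff.1 (hle hr) e he)]
        exact one_mem _
    -- back to `W`
    set c' := (MulAut.conj g⁻¹).toMonoidHom with hc'def
    have hcc : ∀ U : Subgroup G, (U.map c).map c' = U := by
      intro U
      rw [Subgroup.map_map]
      conv_rhs => rw [← Subgroup.map_id U]
      congr 1
      ext x
      simp [hcdef, hc'def, mul_assoc]
    have hc'' := config_map c' (MulAut.conj g⁻¹).injective hc'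
    rw [hY', hcc] at hc''
    have hRc : (R.map τ).map c' ≤ τ.range :=
      ((Subgroup.map_mono hRT).trans (Subgroup.Normal.map_conj_eq _ g⁻¹).le).trans hTr
    have hPmc : (Pm.map τ ⊓ Y.map c).map c' ≤ τ.range :=
      hc''.lt.le.trans (Subgroup.map_le_range τ W)
    set R' := ((R.map τ).map c').comap τ with hR'
    set Pm' := ((Pm.map τ ⊓ Y.map c).map c').comap τ with hPm'
    have eR : R'.map τ = (R.map τ).map c' := Subgroup.map_comap_eq_self hRc
    have ePm : Pm'.map τ = (Pm.map τ ⊓ Y.map c).map c' := Subgroup.map_comap_eq_self hPmc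
    refine ih Pm' R' (PGroups.elemAb_comap τ hg.inj (PGroups.elemAb_map c' (PGroups.elemAb_map τ hR))) ?_
      (config_of_map τ hg.inj (by rw [ePm, eR]; exact hc''))
    intro m hm W' hW'
    have h1 := hC (m + 1) (Nat.succ_lt_succ hm) _ (Reach.step G τ hW' hg)
    rw [← le_centralizer_map_iff τ hg.inj, hW'.map_step hg] at h1
    rw [← le_centralizer_map_iff τ hg.inj, eR]
    have h2 : (W'.map τ).map c ≤ Subgroup.normalClosure (W'.map τ : Set G) :=
      (Subgroup.map_mono Subgroup.subset_normalClosure).trans (Subgroup.Normal.map_conj_eq _ g).le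
    have h3 := (GlaubermanTwo54.le_centralizer_map_iff c' (MulAut.conj g⁻¹).injective _ _).2
      (h1.trans (Subgroup.centralizer_le h2))
    rwa [hcc] at h3

end Cfsg.Agent.Lib.Stellmacher55
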