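import Cfsg.Agent.Lib.Stellmacher55.Tools

/-!
# A stage outside `O₂` carries a configuration

`V ≤ S` elementary abelian, invariant under `N(S)`, with `P2`, not in `T = O₂(G)`.  With the pair `(B, a, k)` of
`V` let `B₀ = V ∩ T` and `R = B₀ ^ k`.  Then `(V, B, R)` is a configuration and `R` centralises every subgroup
of `V` centralised by `O²(G)`.

Owner: helper21.
-/

set_option autoImplicit false
set_option linter.style.haveILetI false
set_option linter.unusedSectionVars false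

namespace Cfsg.Agent.Lib.Stellmacher55

open PLocal
open scoped commutatorElement

universe u

variable {G : Type u} [Group G] [Finite G]

/-- The configuration produced by a pair with clause. -/
theorem exists_config (hpc : PropPairClause.{u}) {S : Sylow 2 G} {M : Subgroup G} (cfg : Cfg S M) {V : Subgroup G}
    (hV : Cfsg.IsElementaryAbelian 2 V) (hVS : V ≤ (S : Subgroup G))
    (hn : Subgroup.normalizer ((S : Subgroup G) : Set G) ≤ Subgroup.normalizer (V : Set G))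
    (hp2 : P2 (S : Subgroup G) V) (hVT : ¬ V ≤ Cfsg.pCore 2 G) :
    ∃ B R : Subgroup G, R ≤ (S : Subgroup G) ∧ Cfsg.IsElementaryAbelian 2 R ∧ Config V B R ∧
      ∀ Y : Subgroup G, Y ≤ V → Cfsg.pResidual 2 G ≤ Subgroup.centralizer (Y : Set G) →
        R ≤ Subgroup.centralizer (Y : Set G) := by
  classical
  haveI : Fact (Nat.Prime 2) := ⟨Nat.prime_two⟩
  set T := Cfsg.pCore 2 G with hTdef
  have hTS : T ≤ (S : Subgroup G) := pCore_le S
  have hTn : T.Normal := inferInstance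
  have hTp : IsPGroup 2 T := Cores.pCore_isPGroup 2
  have hTV : T ≤ Subgroup.normalizer (V : Set G) := hTS.trans (Subgroup.le_normalizer.trans hn)
  obtain ⟨B, a, h₀, k, p, hpr, hclause⟩ := hpc G S M cfg V hVS hV
    (fun g hg => Subgroup.mem_normalizer_iff_map_conj_eq.1 (hn hg)) hVT
  have hBV := hpr.le
  have haV := hpr.mem
  have haB := hpr.not_mem
  haveI : Fact p.Prime := ⟨hpr.prime⟩
  obtain ⟨ha2, hai⟩ := GlaubermanTwo54.inv_of_elem hV haV
  have hkp : IsPGroup p (Subgroup.zpowers k) := by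
    obtain ⟨i, hi⟩ := hpr.pow
    exact IsPGroup.of_card (n := i) (by rw [Nat.card_zpowers, hi])
  have hkodd : Odd (orderOf k) := by
    obtain ⟨i, hi⟩ := hpr.pow
    rw [hi]
    exact (hpr.prime.eq_two_or_odd'.resolve_left hpr.ne_two).pow
  have hinv : a * k * a⁻¹ = k⁻¹ := by
    have := inverts_mod (C := (⊥ : Subgroup G)) (by rw [ha2]; exact one_mem _) hpr.zpow
    rw [Subgroup.mem_bot] at this
    exact eq_inv_of_mul_eq_one_left this
  set a' := k * a * k⁻¹ with ha'def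
  have haa' : a * a' = (k * k)⁻¹ := by
    calc a * (k * a * k⁻¹) = (a * k * a⁻¹) * (a * a) * k⁻¹ := by group
      _ = _ := by rw [hinv, ha2]; group
  have hksq : ∀ U : Subgroup G, a ∈ U → a' ∈ U → k ∈ U := by
    intro U h1 h2
    have h3 : k * k ∈ U := by
      have := U.mul_mem h1 h2
      rw [haa'] at this
      simpa using U.inv_mem this
    obtain ⟨n, hn⟩ := hkodd
    have h4 := U.pow_mem h3 (n + 1)
    rwa [← pow_two, ← pow_mul, show 2 * (n + 1) = orderOf k + 1 by omega, pow_succ, pow_orderOf_eq_one,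
      one_mul] at h4
  -- `B₀`, `R`, `Z₀`, `R₀`
  set B₀ := V ⊓ T with hB₀
  set c := (MulAut.conj k).toMonoidHom with hcdef
  set R := B₀.map c with hR
  set Z₀ := B₀ ⊓ R with hZ₀
  have hB₀el : Cfsg.IsElementaryAbelian 2 B₀ := PGroups.elemAb_mono hV inf_le_left
  have hRel : Cfsg.IsElementaryAbelian 2 R := PGroups.elemAb_map c hB₀el
  have hB₀V : ∀ x ∈ B₀, x ∈ V := fun x hx => hx.1
  have hB₀T : ∀ x ∈ B₀, x ∈ T := fun x hx => hx.2
  have hRT : ∀ x ∈ R, x ∈ T := by rintro _ ⟨x, hx, rfl⟩; exact hTn.conj_mem x (hB₀T x hx) k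
  have hRb : ∀ x ∈ R, k⁻¹ * x * k ∈ B₀ := by
    rintro _ ⟨x, hx, rfl⟩
    show k⁻¹ * (k * x * k⁻¹) * k ∈ B₀
    simpa [mul_assoc] using hx
  have hTB₀ : T ≤ Subgroup.normalizer (B₀ : Set G) :=
    (le_inf hTV Subgroup.le_normalizer).trans Subgroup.inf_normalizer_le_normalizer_inf
  have hTR : T ≤ Subgroup.normalizer (R : Set G) := by
    rw [hR, ← Subgroup.Normal.map_conj_eq T k]
    exact (Subgroup.map_mono hTB₀).trans (Subgroup.le_normalizer_map c)
  have hVR : ∀ v ∈ V, ∀ r ∈ R, ⁅v, r⁆ ∈ B₀ := fun v hv r hr => by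
    refine ⟨?_, ?_⟩
    · exact commutatorElement_mem (hTV (hRT r hr)) hv
    · rw [commutatorElement_def]
      exact T.mul_mem (hTn.conj_mem r (hRT r hr) v) (T.inv_mem (hRT r hr))
  have hB₀R : ∀ b ∈ B₀, ∀ r ∈ R, ⁅b, r⁆ ∈ Z₀ := fun b hb r hr => by
    refine ⟨hVR b (hB₀V b hb) r hr, ?_⟩
    rw [commutatorElement_def]
    exact R.mul_mem ((Subgroup.mem_normalizer_iff.1 (hTR (hB₀T b hb)) r).1 hr) (R.inv_mem hr)
  -- `Z₀` is centralised by `V`, `R` and `k`
  have hZV : ∀ z ∈ Z₀, ∀ v ∈ V, v * z = z * v := fun z hz v hv => PGroups.elemAb_comm hV hv (hB₀V z hz.1)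
  have hZR : ∀ z ∈ Z₀, ∀ r ∈ R, r * z = z * r := fun z hz r hr => PGroups.elemAb_comm hRel hr hz.2
  have hZk : ∀ z ∈ Z₀, k * z = z * k := by
    intro z hz
    have h1 : a ∈ Subgroup.centralizer ({z} : Set G) := Subgroup.mem_centralizer_singleton_iff.2 (hZV z hz a haV)
    have h2 : a' ∈ Subgroup.centralizer ({z} : Set G) := by
      refine Subgroup.mem_centralizer_singleton_iff.2 ?_
      have hzb : k⁻¹ * z * k ∈ B₀ := hRb z hz.2
      have h4 := PGroups.elemAb_comm hV haV (hB₀V _ hzb)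
      calc k * a * k⁻¹ * z = k * (a * (k⁻¹ * z * k)) * k⁻¹ := by group
        _ = k * ((k⁻¹ * z * k) * a) * k⁻¹ := by rw [h4]
        _ = z * (k * a * k⁻¹) := by group
    exact Subgroup.mem_centralizer_singleton_iff.1 (hksq _ h1 h2)
  -- the generation of `R₀`
  set R₀ := B₀ ⊔ R with hR₀
  have hR₀T : R₀ ≤ T := sup_le (fun x hx => hB₀T x hx) (fun x hx => hRT x hx)
  have hR₀mul : ∀ y ∈ R₀, ∃ b ∈ B₀, ∃ r ∈ R, y = b * r := by
    intro y hy
    have hy' : y ∈ ((B₀ ⊔ R : Subgroup G) : Set G) := hy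
    rw [Subgroup.coe_mul_of_left_le_normalizer_right _ _
      ((show B₀ ≤ T from inf_le_right).trans hTR)] at hy'
    obtain ⟨b, hb, r, hr, rfl⟩ := hy'
    exact ⟨b, hb, r, hr, rfl⟩
  have hZR₀ : ∀ z ∈ Z₀, ∀ y ∈ R₀, y * z = z * y := by
    intro z hz y hy
    obtain ⟨b, hb, r, hr, rfl⟩ := hR₀mul y hy
    exact ((show Commute b z from hZV z hz b (hB₀V b hb)).mul_left (hZR z hz r hr)).eq
  have hR₀comm : ∀ y ∈ R₀, ∀ y' ∈ R₀, ⁅y, y'⁆ ∈ Z₀ := by
    have h1 : ∀ x ∈ R₀, ∀ s, (s ∈ B₀ ∨ s ∈ R) → ⁅x, s⁆ ∈ Z₀ := by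
      intro x hx s hs
      obtain ⟨b, hb, r, hr, rfl⟩ := hR₀mul x hx
      have e : ⁅b * r, s⁆ = b * ⁅r, s⁆ * b⁻¹ * ⁅b, s⁆ := by simp only [commutatorElement_def]; group
      rw [e]
      rcases hs with hs | hs
      · have h1 : ⁅r, s⁆ ∈ Z₀ := by
          rw [← commutatorElement_inv]; exact inv_mem (hB₀R s hs r hr)
        rw [commutatorElement_eq_one_iff_mul_comm.2 (PGroups.elemAb_comm hB₀el hb hs), mul_one,
          hZV _ h1 b (hB₀V b hb), mul_inv_cancel_right]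
        exact h1
      · rw [commutatorElement_eq_one_iff_mul_comm.2 (PGroups.elemAb_comm hRel hr hs), mul_one, mul_inv_cancel,
          one_mul]
        exact hB₀R b hb s hs
    intro y hy y' hy'
    obtain ⟨b, hb, r, hr, rfl⟩ := hR₀mul y' hy'
    rw [comm_mul_right]
    refine mul_mem (h1 y hy b (Or.inl hb)) ?_
    rw [hZV _ (h1 y hy r (Or.inr hr)) b (hB₀V b hb), mul_inv_cancel_right]
    exact h1 y hy r (Or.inr hr)
  -- injectivity, from the clause
  have hinj : ∀ e ∈ V, e ∉ B → ∀ r ∈ R, ⁅r, e⁆ ∈ Z₀ → r ∈ Z₀ := by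
    intro e he heB r hr hre
    let St : Subgroup G :=
      { carrier := {g | (∀ z ∈ Z₀, g * z = z * g) ∧ ⁅g, r⁆ ∈ Z₀}
        one_mem' := ⟨fun z _ => by rw [one_mul, mul_one], by rw [commutatorElement_one_left]; exact one_mem _⟩
        mul_mem' := fun {x y} hx hy => ⟨fun z hz => by
            rw [mul_assoc, hy.1 z hz, ← mul_assoc, hx.1 z hz, mul_assoc], by
            have e1 : ⁅x * y, r⁆ = x * ⁅y, r⁆ * x⁻¹ * ⁅x, r⁆ := by simp only [commutatorElement_def]; group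
            rw [e1, hx.1 _ hy.2, mul_inv_cancel_right]
            exact mul_mem hy.2 hx.2⟩
        inv_mem' := fun {x} hx => ⟨fun z hz => by
            calc x⁻¹ * z = x⁻¹ * (z * x) * x⁻¹ := by group
              _ = x⁻¹ * (x * z) * x⁻¹ := by rw [hx.1 z hz]
              _ = z * x⁻¹ := by group, by
            have e1 : ⁅x⁻¹, r⁆ = x⁻¹ * ⁅x, r⁆⁻¹ * x := by simp only [commutatorElement_def]; group
            rw [e1]
            have h2 : x⁻¹ * ⁅x, r⁆⁻¹ * x = ⁅x, r⁆⁻¹ := by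
              calc x⁻¹ * ⁅x, r⁆⁻¹ * x = x⁻¹ * (⁅x, r⁆⁻¹ * x) := by group
                _ = x⁻¹ * (x * ⁅x, r⁆⁻¹) := by rw [hx.1 _ (inv_mem hx.2)]
                _ = _ := by group
            rw [h2]; exact inv_mem hx.2⟩ }
    have he' : Subgroup.zpowers e ⊔ V.map c ≤ St := by
      refine sup_le (Subgroup.zpowers_le.2 ⟨fun z hz => hZV z hz e he, ?_⟩) ?_
      · rw [← commutatorElement_inv]; exact inv_mem hre
      rintro _ ⟨v, hv, rfl⟩
      have hcm : ∀ x ∈ R, c v * x = x * c v := by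
        rintro _ ⟨x, hx, rfl⟩
        rw [← map_mul, ← map_mul, PGroups.elemAb_comm hV hv (hB₀V x hx)]
      exact ⟨fun z hz => hcm z hz.2, by
        rw [commutatorElement_eq_one_iff_mul_comm.2 (hcm r hr)]; exact one_mem _⟩
    obtain ⟨k', hk', hk'T⟩ := hclause e he heB
    obtain ⟨hk'z, hk'r⟩ := St.inv_mem (he' hk')
    have h1 : k'⁻¹ * r * k' ∈ B₀ := by
      have e1 : k'⁻¹ * r * k' = (k'⁻¹ * k) * (k⁻¹ * r * k) * (k'⁻¹ * k)⁻¹ := by group
      rw [e1]
      exact (Subgroup.mem_normalizer_iff.1 (hTB₀ hk'T) _).1 (hRb r hr)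
    have e2 : r = ⁅k'⁻¹, r⁆⁻¹ * (k'⁻¹ * r * k') := by simp only [commutatorElement_def]; group
    refine ⟨?_, hr⟩
    rw [e2]
    exact B₀.mul_mem (B₀.inv_mem hk'r.1) h1
  -- surjectivity
  have hsurj : ∀ e ∈ V, e ∉ B → ∀ b ∈ B₀, ∃ r ∈ R, b⁻¹ * ⁅e, r⁆ ∈ Z₀ := by
    intro e he heB b hb
    have hf : ∀ q : R ⧸ Z₀.subgroupOf R, ⁅((q.out : R) : G), e⁆ ∈ B₀ := fun q => by
      rw [← commutatorElement_inv]; exact inv_mem (hVR e he _ q.out.2)
    set f : R ⧸ Z₀.subgroupOf R → B₀ ⧸ Z₀.subgroupOf B₀ := fun q => QuotientGroup.mk ⟨_, hf q⟩ with hfdef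
    have hcard : Nat.card (R ⧸ Z₀.subgroupOf R) = Nat.card (B₀ ⧸ Z₀.subgroupOf B₀) := by
      have h1 := Subgroup.relIndex_mul_relIndex (⊥ : Subgroup G) Z₀ R bot_le inf_le_right
      have h2 := Subgroup.relIndex_mul_relIndex (⊥ : Subgroup G) Z₀ B₀ bot_le inf_le_left
      rw [Subgroup.relIndex_bot_left, Subgroup.relIndex_bot_left] at h1 h2
      rw [hR, Subgroup.card_map_of_injective (MulAut.conj k).injective] at h1
      show Z₀.relIndex R = Z₀.relIndex B₀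
      rw [hR]
      exact Nat.eq_of_mul_eq_mul_left Nat.card_pos (h1.trans h2.symm)
    have hfi : Function.Injective f := by
      intro q q' hqq
      rw [hfdef] at hqq
      simp only [QuotientGroup.eq, Subgroup.mem_subgroupOf] at hqq
      rw [← Quotient.out_eq' q, ← Quotient.out_eq' q']
      refine QuotientGroup.eq.2 (Subgroup.mem_subgroupOf.2 (hinj e he heB _ (SetLike.coe_mem _) ?_))
      set x := ((q.out : R) : G)
      set y := ((q'.out : R) : G)
      set d := ⁅x⁻¹ * y, e⁆ with hd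
      have hxy : x⁻¹ * y ∈ R := R.mul_mem (R.inv_mem q.out.2) q'.out.2
      have hdB : d ∈ B₀ := by rw [hd, ← commutatorElement_inv]; exact inv_mem (hVR e he _ hxy)
      have e1 : ⁅y, e⁆ = ⁅x, d⁆ * d * ⁅x, e⁆ := by
        rw [hd]; simp only [commutatorElement_def]; group
      have hxd : ⁅x, d⁆ ∈ Z₀ := by rw [← commutatorElement_inv]; exact inv_mem (hB₀R d hdB x q.out.2)
      have hxe : ⁅x, e⁆ ∈ B₀ := hf q
      have e2 : d = ⁅x, d⁆⁻¹ * (⁅x, e⁆⁻¹ * ⁅y, e⁆) := by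
        rw [e1, PGroups.elemAb_comm hB₀el (B₀.mul_mem hxd.1 hdB) hxe]; group
      have hqq' : ⁅x, e⁆⁻¹ * ⁅y, e⁆ ∈ Z₀ := hqq
      show d ∈ Z₀
      rw [e2]
      exact Z₀.mul_mem (Z₀.inv_mem hxd) hqq'
    obtain ⟨q, hq⟩ := ((Nat.bijective_iff_injective_and_card f).2 ⟨hfi, hcard⟩).surjective
      (QuotientGroup.mk ⟨b, hb⟩)
    rw [hfdef] at hq
    simp only [QuotientGroup.eq, Subgroup.mem_subgroupOf] at hq
    refine ⟨_, q.out.2, ?_⟩
    have hq' : ⁅((q.out : R) : G), e⁆⁻¹ * b ∈ Z₀ := hq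
    rw [← commutatorElement_inv]
    have hbb : b⁻¹ = b := inv_eq_of_mul_eq_one_right (by rw [← pow_two]; exact hB₀el.2 b hb)
    rw [hbb, PGroups.elemAb_comm hB₀el hb (B₀.inv_mem (hf q))]
    exact hq'
  -- `k` centralises `T / R₀`
  have hTa : ∀ q ∈ T, ⁅q, a⁆ ∈ B₀ := fun q hq => by
    refine ⟨?_, ?_⟩
    · rw [commutatorElement_def]
      exact V.mul_mem ((Subgroup.mem_normalizer_iff.1 (hTV hq) a).1 haV) (V.inv_mem haV)
    · rw [commutatorElement_def, mul_assoc q a, mul_assoc q]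
      exact T.mul_mem hq (hTn.conj_mem _ (T.inv_mem hq) a)
  have hTa' : ∀ q ∈ T, ⁅q, a'⁆ ∈ R := fun q hq => by
    have h1 := hTa (k⁻¹ * q * k) (by simpa using hTn.conj_mem q hq k⁻¹)
    refine ⟨_, h1, ?_⟩
    show k * ⁅k⁻¹ * q * k, a⁆ * k⁻¹ = ⁅q, a'⁆
    rw [ha'def]; simp only [commutatorElement_def]; group
  let St₂ : Subgroup G :=
    { carrier := {g | g ∈ Subgroup.normalizer (R₀ : Set G) ∧ ∀ q ∈ T, ⁅q, g⁆ ∈ R₀}
      one_mem' := ⟨one_mem _, fun q _ => by rw [commutatorElement_one_right]; exact one_mem _⟩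
      mul_mem' := fun {x y} hx hy => ⟨mul_mem hx.1 hy.1, fun q hq => by
        rw [comm_mul_right]
        exact mul_mem (hx.2 q hq) ((Subgroup.mem_normalizer_iff.1 hx.1 _).1 (hy.2 q hq))⟩
      inv_mem' := fun {x} hx => ⟨inv_mem hx.1, fun q hq => by
        have e : ⁅q, x⁻¹⁆ = x⁻¹ * ⁅q, x⁆⁻¹ * x := by simp only [commutatorElement_def]; group
        rw [e]
        exact (Subgroup.mem_normalizer_iff''.1 hx.1 _).1 (inv_mem (hx.2 q hq))⟩ }
  have hnormR₀ : ∀ g, (∀ q ∈ T, ⁅q, g⁆ ∈ R₀) → g ∈ Subgroup.normalizer (R₀ : Set G) := fun g hg => by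
    refine Subgroup.mem_normalizer_iff_map_conj_eq.2 (Subgroup.eq_of_le_of_card_ge ?_
      (Subgroup.card_map_of_injective (MulAut.conj g).injective).ge)
    rintro _ ⟨y, hy, rfl⟩
    show g * y * g⁻¹ ∈ R₀
    rw [conj_eq_commutator_inv_mul]
    exact mul_mem (inv_mem (hg y (hR₀T hy))) hy
  have hkSt₂ : k ∈ St₂ := by
    refine hksq St₂ ?_ ?_
    · have h1 : ∀ q ∈ T, ⁅q, a⁆ ∈ R₀ := fun q hq => Subgroup.mem_sup_left (hTa q hq)
      exact ⟨hnormR₀ a h1, h1⟩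
    · have h1 : ∀ q ∈ T, ⁅q, a'⁆ ∈ R₀ := fun q hq => Subgroup.mem_sup_right (hTa' q hq)
      exact ⟨hnormR₀ a' h1, h1⟩
  -- `k` is fixed point free on `R₀ / Z₀`
  have hfpf : ∀ y ∈ R₀, ⁅y, k⁆ ∈ Z₀ → y ∈ Z₀ := by
    intro y hy hyk
    set z := ⁅y, k⁆
    have e0 : k * y * k⁻¹ = z⁻¹ * y := conj_eq_commutator_inv_mul y k
    -- the part in `B₀` is fixed
    have hB : ∀ w ∈ B₀, ⁅w, k⁆ ∈ Z₀ → w ∈ Z₀ := by
      intro w hw hwk
      have h1 : k * w * k⁻¹ ∈ R := ⟨w, hw, rfl⟩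
      rw [conj_eq_commutator_inv_mul] at h1
      refine ⟨hw, ?_⟩
      have := R.mul_mem hwk.2 h1
      rwa [mul_inv_cancel_left] at this
    set y' := ⁅y, a⁆ with hy'
    have hy'B : y' ∈ B₀ := hTa y (hR₀T hy)
    have hy'k : ⁅y', k⁆ ∈ Z₀ := by
      have e1 : a' = k * k * a := by
        calc k * a * k⁻¹ = k * (a * k⁻¹ * a⁻¹) * a := by group
          _ = k * (a * k * a⁻¹)⁻¹ * a := by group
          _ = _ := by rw [hinv, inv_inv]
      have e2 : k * y' * k⁻¹ = ⁅z⁻¹ * y, a'⁆ := by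
        rw [← e0, hy', ha'def]; simp only [commutatorElement_def]; group
      have hza' : z * a' = a' * z := by
        have h1 : k⁻¹ * z * k = z := by rw [mul_assoc, ← hZk z hyk, inv_mul_cancel_left]
        have h2 := hZV z hyk a haV
        calc z * (k * a * k⁻¹) = k * (k⁻¹ * z * k * a) * k⁻¹ := by group
          _ = k * (a * (k⁻¹ * z * k)) * k⁻¹ := by rw [h1, h2]
          _ = k * a * k⁻¹ * z := by group
      have hzy : z⁻¹ * y = y * z⁻¹ := (hZR₀ _ (inv_mem hyk) y hy).symm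
      have e3 : ⁅z⁻¹ * y, a'⁆ = ⁅y, a'⁆ := by
        rw [hzy]
        have h1 : Commute z⁻¹ a' := (show Commute z a' from hza').inv_left
        simp only [commutatorElement_def, _root_.mul_inv_rev, inv_inv]
        calc y * z⁻¹ * a' * (z * y⁻¹) * a'⁻¹ = y * (z⁻¹ * a') * z * y⁻¹ * a'⁻¹ := by group
          _ = y * (a' * z⁻¹) * z * y⁻¹ * a'⁻¹ := by rw [h1.eq]
          _ = _ := by group
      have e4 : ⁅y, k * k⁆ ∈ Z₀ := by
        rw [comm_mul_right]
        refine mul_mem hyk ?_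
        rw [hZk z hyk, mul_inv_cancel_right]
        exact hyk
      set z' := ⁅y, k * k⁆
      have e5 : k * y' * k⁻¹ = z' * ((k * k) * y' * (k * k)⁻¹) := by
        rw [e2, e3, e1, comm_mul_right]
      have e6 : ⁅y', k⁆ = z' := by
        have h1 : k⁻¹ * z' * k = z' := by rw [mul_assoc, ← hZk z' e4, inv_mul_cancel_left]
        have h2 : y' = z' * (k * y' * k⁻¹) := by
          calc y' = k⁻¹ * (k * y' * k⁻¹) * k := by group
            _ = k⁻¹ * (z' * ((k * k) * y' * (k * k)⁻¹)) * k := by rw [e5]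
            _ = (k⁻¹ * z' * k) * (k * y' * k⁻¹) := by group
            _ = _ := by rw [h1]
        have e7 : ⁅y', k⁆ = y' * (k * y' * k⁻¹)⁻¹ := by simp only [commutatorElement_def]; group
        rw [e7]
        nth_rewrite 1 [h2]
        rw [mul_inv_cancel_right]
      rw [e6]; exact e4
    have hy'Z : y' ∈ Z₀ := hB y' hy'B hy'k
    obtain ⟨b, hb, r, hr, hbr⟩ := hR₀mul y hy
    have hra : ⁅r, a⁆ ∈ Z₀ := by
      have hra' : ⁅r, a⁆ ∈ B₀ := hTa r (hRT r hr)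
      have e1 : y' = b * ⁅r, a⁆ * b⁻¹ * ⁅b, a⁆ := by
        rw [hy', hbr]; simp only [commutatorElement_def]; group
      rw [commutatorElement_eq_one_iff_mul_comm.2 (PGroups.elemAb_comm hV (hB₀V b hb) haV), mul_one,
        PGroups.elemAb_comm hB₀el hb hra', mul_inv_cancel_right] at e1
      rw [← e1]; exact hy'Z
    have hrZ := hinj a haV haB r hr hra
    exact hB y (hbr ▸ B₀.mul_mem hb hrZ.1) hyk
  -- `R₀ = [R₀, k] Z₀`
  have hgen : ∀ y ∈ R₀, ∃ x ∈ R₀, ∃ z ∈ Z₀, y = ⁅x, k⁆ * z := by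
    intro y hy
    have hxk : ∀ q : R₀ ⧸ Z₀.subgroupOf R₀, ⁅((q.out : R₀) : G), k⁆ ∈ R₀ := fun q =>
      hkSt₂.2 _ (hR₀T q.out.2)
    set f : R₀ ⧸ Z₀.subgroupOf R₀ → R₀ ⧸ Z₀.subgroupOf R₀ := fun q => QuotientGroup.mk ⟨_, hxk q⟩ with hfdef
    have hfi : Function.Injective f := by
      intro q q' hqq
      rw [hfdef] at hqq
      simp only [QuotientGroup.eq, Subgroup.mem_subgroupOf] at hqq
      rw [← Quotient.out_eq' q, ← Quotient.out_eq' q']
      refine QuotientGroup.eq.2 (Subgroup.mem_subgroupOf.2 ?_)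
      set x := ((q.out : R₀) : G)
      set x' := ((q'.out : R₀) : G)
      have hd : x⁻¹ * x' ∈ R₀ := R₀.mul_mem (R₀.inv_mem q.out.2) q'.out.2
      show x⁻¹ * x' ∈ Z₀
      refine hfpf _ hd ?_
      set d := ⁅x⁻¹ * x', k⁆
      have hdR : d ∈ R₀ := hkSt₂.2 _ (hR₀T hd)
      have hxk' : ⁅x, k⁆ ∈ R₀ := hxk q
      have e1 : ⁅x', k⁆ = ⁅x, d⁆ * d * ⁅x, k⁆ := by simp only [d, commutatorElement_def]; group
      have hqq' : ⁅x, k⁆⁻¹ * ⁅x', k⁆ ∈ Z₀ := hqq
      have hxd : ⁅x, d⁆ ∈ Z₀ := hR₀comm x q.out.2 d hdR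
      have hdk : ⁅d, ⁅x, k⁆⁆ ∈ Z₀ := hR₀comm d hdR _ hxk'
      set w := ⁅x, k⁆⁻¹ * ⁅x', k⁆ with hw
      have e2 : w = ⁅x, d⁆ * ⁅⁅x, k⁆⁻¹, d⁆ * d := by
        rw [hw, e1]
        have h1 : ⁅x, k⁆⁻¹ * ⁅x, d⁆ = ⁅x, d⁆ * ⁅x, k⁆⁻¹ := hZR₀ _ hxd _ (R₀.inv_mem hxk')
        calc ⁅x, k⁆⁻¹ * (⁅x, d⁆ * d * ⁅x, k⁆) = ⁅x, k⁆⁻¹ * ⁅x, d⁆ * (d * ⁅x, k⁆) := by group
          _ = ⁅x, d⁆ * ⁅x, k⁆⁻¹ * (d * ⁅x, k⁆) := by rw [h1]
          _ = _ := by simp only [commutatorElement_def]; group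
      have h3 := Z₀.mul_mem hxd (hR₀comm _ (R₀.inv_mem hxk') d hdR)
      have e3 : d = (⁅x, d⁆ * ⁅⁅x, k⁆⁻¹, d⁆)⁻¹ * w := by rw [e2]; group
      rw [e3]
      exact Z₀.mul_mem (Z₀.inv_mem h3) hqq'
    obtain ⟨q, hq⟩ := (Finite.injective_iff_surjective.1 hfi) (QuotientGroup.mk ⟨y, hy⟩)
    rw [hfdef] at hq
    simp only [QuotientGroup.eq, Subgroup.mem_subgroupOf] at hq
    exact ⟨_, q.out.2, _, hq, (mul_inv_cancel_left _ _).symm⟩
  -- the elements of `B`
  have hdec : ∀ v ∈ B, ∃ b ∈ B₀, ∀ r ∈ R, ⁅v, r⁆ = ⁅b, r⁆ := by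
    intro v hv
    have hvV := hBV hv
    have hcopT : (Nat.card T).Coprime p := by
      obtain ⟨i, hi⟩ := hTp.exists_card_eq
      rw [hi]
      exact Nat.Coprime.pow_left i ((Nat.coprime_primes Nat.prime_two hpr.prime).2 fun e => hpr.ne_two e.symm)
    have hvk : ∀ b ∈ Subgroup.zpowers k, v⁻¹ * (b * v * b⁻¹) ∈ T := by
      rintro _ ⟨i, rfl⟩
      have h1 : Commute (QuotientGroup.mk' T v) (QuotientGroup.mk' T k) := by
        rw [commute_iff_eq, ← commutatorElement_eq_one_iff_mul_comm, ← map_commutatorElement]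
        exact (QuotientGroup.eq_one_iff _).2 (hpr.comm v hv)
      rw [← QuotientGroup.eq_one_iff, ← QuotientGroup.mk'_apply]
      simp only [map_mul, map_inv, map_zpow]
      rw [← (h1.zpow_right i).eq, mul_inv_cancel_right, inv_mul_cancel]
    obtain ⟨y, hyT, hyk⟩ := exists_fixed_in_coset hkp (fun g _ => by rw [Subgroup.normalizer_eq_top]; trivial)
      hcopT hvk
    set q := y⁻¹ * v with hq
    have hqT : q ∈ T := by
      have := T.inv_mem hyT
      rwa [_root_.mul_inv_rev, inv_inv] at this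
    have hkR₀ : Subgroup.zpowers k ≤ Subgroup.normalizer (R₀ : Set G) := Subgroup.zpowers_le.2 hkSt₂.1
    have hcopR : (Nat.card R₀).Coprime p :=
      Nat.Coprime.of_dvd_left (Subgroup.card_dvd_of_le hR₀T) hcopT
    have hqk : ∀ b ∈ Subgroup.zpowers k, q⁻¹ * (b * q * b⁻¹) ∈ R₀ := fun b hb => by
      have h1 := (Subgroup.zpowers_le.2 hkSt₂ hb).2 q⁻¹ (T.inv_mem hqT)
      rw [commutatorElement_def, inv_inv] at h1
      rwa [mul_assoc q⁻¹ b, mul_assoc q⁻¹] at h1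
    obtain ⟨c', hc'R, hc'k⟩ := exists_fixed_in_coset hkp hkR₀ hcopR hqk
    set cc := y * c'
    set l := c'⁻¹ * q with hl
    have hlR : l ∈ R₀ := by
      have := R₀.inv_mem hc'R
      rwa [_root_.mul_inv_rev, inv_inv] at this
    have hvcl : v = cc * l := by
      show v = y * c' * (c'⁻¹ * (y⁻¹ * v))
      group
    have hcc : cc = v * l⁻¹ := by rw [hvcl, mul_inv_cancel_right]
    have hck : k * cc = cc * k :=
      (show Commute k cc from (show Commute k y from hyk k (Subgroup.mem_zpowers k)).mul_right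
        (hc'k k (Subgroup.mem_zpowers k))).eq
    have hccZ : ∀ z ∈ Z₀, cc * z = z * cc := fun z hz => by
      rw [hcc, mul_assoc, hZR₀ z hz _ (R₀.inv_mem hlR), ← mul_assoc, hZV z hz v hvV, mul_assoc]
    -- `[cc, R₀] ≤ Z₀`
    have hcB : ∀ b ∈ B₀, ⁅cc, b⁆ ∈ Z₀ := fun b hb => by
      have e1 : ⁅cc, b⁆ = v * ⁅l⁻¹, b⁆ * v⁻¹ * ⁅v, b⁆ := by rw [hcc]; simp only [commutatorElement_def]; group
      have h1 := hR₀comm _ (R₀.inv_mem hlR) b (Subgroup.mem_sup_left hb)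
      rw [e1, commutatorElement_eq_one_iff_mul_comm.2 (PGroups.elemAb_comm hV hvV (hB₀V b hb)), mul_one,
        hZV _ h1 v hvV, mul_inv_cancel_right]
      exact h1
    have hkcc : ∀ x : G, ⁅cc, k * x * k⁻¹⁆ = k * ⁅cc, x⁆ * k⁻¹ := fun x => by
      have h1 : k⁻¹ * cc * k = cc := by rw [mul_assoc, ← hck, inv_mul_cancel_left]
      simp only [commutatorElement_def]
      calc cc * (k * x * k⁻¹) * cc⁻¹ * (k * x * k⁻¹)⁻¹
          = k * ((k⁻¹ * cc * k) * x * (k⁻¹ * cc * k)⁻¹ * x⁻¹) * k⁻¹ := by group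
        _ = _ := by rw [h1]
    have hcR : ∀ r ∈ R, ⁅cc, r⁆ ∈ Z₀ := by
      rintro _ ⟨b, hb, rfl⟩
      show ⁅cc, k * b * k⁻¹⁆ ∈ Z₀
      rw [hkcc, hZk _ (hcB b hb), mul_inv_cancel_right]
      exact hcB b hb
    have hcR₀ : ∀ x ∈ R₀, ⁅cc, x⁆ ∈ Z₀ := by
      intro x hx
      obtain ⟨b, hb, r, hr, rfl⟩ := hR₀mul x hx
      rw [comm_mul_right]
      refine mul_mem (hcB b hb) ?_
      rw [hZV _ (hcR r hr) b (hB₀V b hb), mul_inv_cancel_right]
      exact hcR r hr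
    have hchom : ∀ x ∈ R₀, ∀ x' ∈ R₀, ⁅cc, x * x'⁆ = ⁅cc, x⁆ * ⁅cc, x'⁆ := fun x hx x' hx' => by
      rw [comm_mul_right, hZR₀ _ (hcR₀ x' hx') x hx, mul_inv_cancel_right]
    have hcfix : ∀ x ∈ R₀, ⁅cc, x⁆ = 1 := by
      intro x hx
      obtain ⟨w, hw, z, hz, rfl⟩ := hgen x hx
      have hwk : ⁅w, k⁆ ∈ R₀ := hkSt₂.2 w (hR₀T hw)
      rw [hchom _ hwk z (Subgroup.mem_sup_left hz.1),
        commutatorElement_eq_one_iff_mul_comm.2 (hccZ z hz), mul_one]
      have h1 : k * w⁻¹ * k⁻¹ ∈ R₀ := (Subgroup.mem_normalizer_iff.1 hkSt₂.1 _).1 (R₀.inv_mem hw)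
      have e1 : ⁅w, k⁆ = w * (k * w⁻¹ * k⁻¹) := by simp only [commutatorElement_def]; group
      rw [e1, hchom w hw _ h1, hkcc, hZk _ (hcR₀ _ (R₀.inv_mem hw)), mul_inv_cancel_right,
        ← hchom w hw _ (R₀.inv_mem hw), mul_inv_cancel, commutatorElement_one_right]
    obtain ⟨b, hb, r', hr', hlbr⟩ := hR₀mul l hlR
    refine ⟨b, hb, fun r hr => ?_⟩
    have e1 : ⁅v, r⁆ = cc * ⁅l, r⁆ * cc⁻¹ * ⁅cc, r⁆ := by rw [hvcl]; simp only [commutatorElement_def]; group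
    have e2 : ⁅l, r⁆ = ⁅b, r⁆ := by
      have : ⁅r', r⁆ = 1 := commutatorElement_eq_one_iff_mul_comm.2 (PGroups.elemAb_comm hRel hr' hr)
      have e3 : ⁅b * r', r⁆ = b * ⁅r', r⁆ * b⁻¹ * ⁅b, r⁆ := by simp only [commutatorElement_def]; group
      rw [hlbr, e3, this]; group
    rw [e1, hcfix r (Subgroup.mem_sup_right hr), mul_one, e2, hccZ _ (hB₀R b hb r hr), mul_inv_cancel_right]
  -- `C_B₀(R) = Z₀`
  have hB₁ : ∀ b ∈ B₀, (∀ r ∈ R, r * b = b * r) → b ∈ Z₀ := by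
    intro b₁ hb₁ hb₁R
    by_contra hb₁Z
    set T₀ := R ⊓ Subgroup.centralizer (B₀ : Set G) with hT₀
    set B₁ := B₀ ⊓ Subgroup.centralizer (R : Set G) with hB₁def
    set Zc := R₀ ⊓ Subgroup.centralizer (R₀ : Set G) with hZc
    have hB₀R₀ : B₀ ≤ R₀ := le_sup_left
    have hRR₀ : R ≤ R₀ := le_sup_right
    have hcen : ∀ y, (∀ b ∈ B₀, b * y = y * b) → (∀ r ∈ R, r * y = y * r) →
        y ∈ Subgroup.centralizer (R₀ : Set G) := fun y h1 h2 => Subgroup.mem_centralizer_iff.2 fun x hx => by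
      obtain ⟨b, hb, r, hr, rfl⟩ := hR₀mul x hx
      exact ((show Commute b y from h1 b hb).mul_left (h2 r hr)).eq
    have hT₀Z : T₀ ≤ Zc := fun x hx => ⟨hRR₀ hx.1, hcen x (Subgroup.mem_centralizer_iff.1 hx.2)
      fun r hr => PGroups.elemAb_comm hRel hr hx.1⟩
    have hB₁Z : B₁ ≤ Zc := fun x hx => ⟨hB₀R₀ hx.1, hcen x (fun b hb => PGroups.elemAb_comm hB₀el hb hx.1)
      (Subgroup.mem_centralizer_iff.1 hx.2)⟩
    have hZcsub : ∀ y ∈ Zc, ∃ b ∈ B₁, ∃ r ∈ T₀, y = b * r := by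
      intro y hy
      obtain ⟨b, hb, r, hr, rfl⟩ := hR₀mul y hy.1
      have hyc := Subgroup.mem_centralizer_iff.1 hy.2
      refine ⟨b, ⟨hb, Subgroup.mem_centralizer_iff.2 fun x hx => ?_⟩, r,
        ⟨hr, Subgroup.mem_centralizer_iff.2 fun x hx => ?_⟩, rfl⟩
      · calc x * b = x * (b * r) * r⁻¹ := by group
          _ = (b * r) * x * r⁻¹ := by rw [hyc x (hRR₀ hx)]
          _ = b * (r * x) * r⁻¹ := by group
          _ = b * (x * r) * r⁻¹ := by rw [PGroups.elemAb_comm hRel hr hx]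
          _ = b * x := by group
      · calc x * r = b⁻¹ * ((b * x) * r) := by group
          _ = b⁻¹ * ((x * b) * r) := by rw [PGroups.elemAb_comm hB₀el hb hx]
          _ = b⁻¹ * ((b * r) * x) := by rw [mul_assoc x, hyc x (hB₀R₀ hx)]
          _ = r * x := by group
    have hkR₀ : R₀.map c = R₀ := Subgroup.mem_normalizer_iff_map_conj_eq.1 hkSt₂.1
    have hkZc : k ∈ Subgroup.normalizer (Zc : Set G) :=
      Subgroup.inf_normalizer_le_normalizer_inf ⟨hkSt₂.1, by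
        refine Subgroup.mem_normalizer_iff_map_conj_eq.2 (Subgroup.eq_of_le_of_card_ge ?_
          (Subgroup.card_map_of_injective (MulAut.conj k).injective).ge)
        rintro _ ⟨x, hx, rfl⟩
        refine Subgroup.mem_centralizer_iff.2 fun w hw => ?_
        rw [SetLike.mem_coe, ← hkR₀] at hw
        obtain ⟨w, hw', rfl⟩ := hw
        show c w * c x = c x * c w
        rw [← map_mul, ← map_mul, Subgroup.mem_centralizer_iff.1 hx w hw']⟩
    have hcard : Nat.card B₁ = Nat.card T₀ := by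
      rw [← Subgroup.card_map_of_injective (K := B₁) (f := c) (MulAut.conj k).injective]
      congr 1
      refine congrArg (fun U : Subgroup G => ↥U) (le_antisymm ?_ fun x hx => ?_)
      · rintro _ ⟨x, hx, rfl⟩
        have hxR : c x ∈ R := ⟨x, hx.1, rfl⟩
        have hxZ : c x ∈ Zc := (Subgroup.mem_normalizer_iff.1 hkZc x).1 (hB₁Z hx)
        exact ⟨hxR, Subgroup.centralizer_le hB₀R₀ hxZ.2⟩
      · refine ⟨k⁻¹ * x * k, ⟨hRb x hx.1, ?_⟩, ?_⟩
        · have := (Subgroup.mem_normalizer_iff''.1 hkZc x).1 (hT₀Z hx)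
          exact Subgroup.centralizer_le hRR₀ this.2
        · show k * (k⁻¹ * x * k) * k⁻¹ = x
          group
    have hZ₀B₁ : Z₀ ≤ B₁ := fun z hz => ⟨hz.1, Subgroup.mem_centralizer_iff.2 fun r hr => hZR z hz r hr⟩
    have hZ₀T₀ : Z₀ ≤ T₀ := fun z hz =>
      ⟨hz.2, Subgroup.mem_centralizer_iff.2 fun b hb => hZV z hz b (hB₀V b hb)⟩
    set t := Z₀.relIndex T₀ with ht
    have hb₁ : b₁ ∈ B₁ := ⟨hb₁, Subgroup.mem_centralizer_iff.2 hb₁R⟩
    have hi : Z₀.relIndex B₁ = t := by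
      have h1 := Subgroup.relIndex_mul_relIndex (⊥ : Subgroup G) Z₀ B₁ bot_le hZ₀B₁
      have h2 := Subgroup.relIndex_mul_relIndex (⊥ : Subgroup G) Z₀ T₀ bot_le hZ₀T₀
      rw [Subgroup.relIndex_bot_left, Subgroup.relIndex_bot_left] at h1 h2
      exact Nat.eq_of_mul_eq_mul_left Nat.card_pos (h1.trans (hcard.trans h2.symm))
    have hle : Z₀.relIndex Zc ≤ t * t := by
      have h1 : Z₀.relIndex B₁ * B₁.relIndex Zc = Z₀.relIndex Zc :=
        Subgroup.relIndex_mul_relIndex _ _ _ hZ₀B₁ hB₁Z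
      rw [← h1, hi]
      refine Nat.mul_le_mul_left _ ?_
      rw [ht]
      show (B₁.subgroupOf Zc).index ≤ (Z₀.subgroupOf T₀).index
      refine Nat.card_le_card_of_surjective
        (fun q : T₀ ⧸ Z₀.subgroupOf T₀ => (QuotientGroup.mk (⟨_, hT₀Z q.out.2⟩ : Zc) : Zc ⧸ B₁.subgroupOf Zc)) ?_
      intro q'
      obtain ⟨⟨y, hy⟩, rfl⟩ := QuotientGroup.mk_surjective q'
      obtain ⟨b, hb, r, hr, rfl⟩ := hZcsub y hy
      refine ⟨QuotientGroup.mk ⟨r, hr⟩, QuotientGroup.eq.2 ?_⟩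
      set r'' := (QuotientGroup.mk (⟨r, hr⟩ : T₀) : T₀ ⧸ Z₀.subgroupOf T₀).out
      have h3 : (QuotientGroup.mk r'' : T₀ ⧸ Z₀.subgroupOf T₀) = QuotientGroup.mk ⟨r, hr⟩ := Quotient.out_eq' _
      rw [QuotientGroup.eq, Subgroup.mem_subgroupOf] at h3
      rw [Subgroup.mem_subgroupOf]
      have hz : (r'' : G)⁻¹ * r ∈ Z₀ := h3
      show (r'' : G)⁻¹ * (b * r) ∈ B₁
      have hbr : b * (r'' : G) = r'' * b :=
        Subgroup.mem_centralizer_iff.1 (r''.2.2) b hb.1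
      have e : (r'' : G)⁻¹ * (b * r) = b * ((r'' : G)⁻¹ * r) := by
        rw [← mul_assoc, ← mul_assoc]
        congr 1
        calc (r'' : G)⁻¹ * b = (r'' : G)⁻¹ * (b * r'') * (r'' : G)⁻¹ := by group
          _ = (r'' : G)⁻¹ * (r'' * b) * (r'' : G)⁻¹ := by rw [hbr]
          _ = _ := by group
      rw [e]
      exact B₁.mul_mem hb (hZ₀B₁ hz)
    -- the congruence
    have hmod : Z₀.relIndex Zc ≡ 1 [MOD p] := by
      letI : MulAction (Subgroup.zpowers k) Zc :=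
        { smul := fun g w => ⟨(g : G) * w * (g : G)⁻¹,
            (Subgroup.mem_normalizer_iff.1 ((Subgroup.zpowers_le.2 hkZc) g.2) _).1 w.2⟩
          one_smul := fun w => Subtype.ext (show (1 : G) * w * (1 : G)⁻¹ = w by simp)
          mul_smul := fun g h w => Subtype.ext
            (show ((g : G) * h) * w * ((g : G) * h)⁻¹ = (g : G) * ((h : G) * w * (h : G)⁻¹) * (g : G)⁻¹ by
              group) }
      have h1 := hkp.card_modEq_card_fixedPoints Zc
      have h2 : Nat.card (MulAction.fixedPoints (Subgroup.zpowers k) Zc) = Nat.card Z₀ := by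
        refine Nat.card_congr ⟨fun x => ⟨((x : Zc) : G), hfpf _ (x : Zc).2.1 ?_⟩,
          fun z => ⟨⟨z, hB₁Z (hZ₀B₁ z.2)⟩, fun g => Subtype.ext ?_⟩, fun x => rfl, fun z => rfl⟩
        · have := congrArg Subtype.val (x.2 ⟨k, Subgroup.mem_zpowers k⟩)
          rw [commutatorElement_eq_one_iff_mul_comm.2 (mul_inv_eq_iff_eq_mul.1 this).symm]
          exact one_mem _
        · show (g : G) * (z : G) * (g : G)⁻¹ = z
          obtain ⟨i, hi⟩ := g.2
          rw [← hi]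
          show k ^ i * (z : G) * (k ^ i)⁻¹ = z
          rw [((show Commute k (z : G) from hZk z z.2).zpow_left i).eq, mul_inv_cancel_right]
      rw [h2] at h1
      have h3 := Subgroup.relIndex_mul_relIndex (⊥ : Subgroup G) Z₀ Zc bot_le (hZ₀B₁.trans hB₁Z)
      rw [Subgroup.relIndex_bot_left, Subgroup.relIndex_bot_left] at h3
      rw [← h3] at h1
      obtain ⟨l, hl⟩ := PGroups.elemAb_card_eq_pow (p := 2) (PGroups.elemAb_mono hB₀el (inf_le_left : Z₀ ≤ B₀))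
      have hg : Nat.gcd p (Nat.card Z₀) = 1 := by
        rw [hl]
        exact Nat.Coprime.pow_right l ((Nat.coprime_primes hpr.prime Nat.prime_two).2 hpr.ne_two)
      exact Nat.ModEq.cancel_left_of_coprime hg (h1.trans (by rw [mul_one]))
    obtain ⟨n, hn⟩ : ∃ n, Z₀.relIndex Zc = 2 ^ n := by
      obtain ⟨i, hi⟩ := (hTp.to_le (inf_le_left.trans hR₀T : Zc ≤ T)).exists_card_eq
      obtain ⟨n, -, hn⟩ := (Nat.dvd_prime_pow Nat.prime_two).1 (hi ▸ (by
        have h3 := Subgroup.relIndex_mul_relIndex (⊥ : Subgroup G) Z₀ Zc bot_le (hZ₀B₁.trans hB₁Z)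
        rw [Subgroup.relIndex_bot_left, Subgroup.relIndex_bot_left] at h3
        exact h3 ▸ dvd_mul_left _ _ : Z₀.relIndex Zc ∣ Nat.card Zc))
      exact ⟨n, hn⟩
    have hn0 : 0 < n := by
      by_contra h0
      have h1 : n = 0 := by omega
      rw [h1, pow_zero] at hn
      exact hb₁Z (Subgroup.relIndex_eq_one.1 hn (hB₁Z hb₁))
    rw [hn] at hmod hle
    have hft : B.relIndex V < t := by
      have h1 := (hpr.size n hn0 hmod).trans_le hle
      rw [← pow_two] at h1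
      exact lt_of_pow_lt_pow_left₀ 2 (Nat.zero_le _) h1
    -- strictness
    have hT₀S : T₀ ≤ (S : Subgroup G) := fun x hx => hTS (hRT x hx.1)
    have hs := hp2 T₀ hT₀S (elemOn_of_elemAb (PGroups.elemAb_mono hRel inf_le_left))
    have hCV : ∀ x ∈ T₀, x ∈ Subgroup.centralizer (V : Set G) → x ∈ Z₀ := fun x hx hxV => by
      refine hinj a haV haB x hx.1 ?_
      rw [commutatorElement_eq_one_iff_mul_comm.2 (Subgroup.mem_centralizer_iff.1 hxV a haV).symm]
      exact one_mem _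
    have ht_le : t ≤ (Subgroup.centralizer (V : Set G)).relIndex T₀ := by
      rw [← Subgroup.inf_relIndex_left T₀ (Subgroup.centralizer (V : Set G))]
      exact Subgroup.relIndex_le_of_le_left (fun x hx => hCV x hx.1 hx.2) Subgroup.index_ne_zero_of_finite
    have hBC : B ≤ Subgroup.centralizer (T₀ : Set G) := fun v hv => by
      obtain ⟨b, hb, hbr⟩ := hdec v hv
      refine Subgroup.mem_centralizer_iff.2 fun x hx => ?_
      have h1 : ⁅v, x⁆ = 1 := by
        rw [hbr x hx.1, commutatorElement_eq_one_iff_mul_comm.2 (Subgroup.mem_centralizer_iff.1 hx.2 b hb)]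
      exact (commutatorElement_eq_one_iff_mul_comm.1 h1).symm
    have h2 := Subgroup.relIndex_le_of_le_left (L := V) hBC Subgroup.index_ne_zero_of_finite
    have hf0 : B.relIndex V ≠ 0 := Subgroup.index_ne_zero_of_finite
    rcases hs with h | h <;> omega
  -- `R` is not `Z₀`
  have hne : ¬ B₀ ≤ Z₀ := by
    intro hle
    have hR₀Z : R₀ ≤ Z₀ := by
      refine sup_le hle ?_
      rw [hR]
      rintro _ ⟨x, hx, rfl⟩
      show k * x * k⁻¹ ∈ Z₀
      rw [hZk x (hle hx), mul_inv_cancel_right]; exact hle hx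
    refine hpr.not_memT (cfg.c2 (CharP.mem_centralizer_of_two_step (p := 2) (U := Z₀)
      (hTp.to_le fun z hz => hB₀T z hz.1) (Nat.coprime_two_right.2 hkodd)
      (fun q hq => hR₀Z (hkSt₂.2 q hq)) ?_))
    exact Subgroup.mem_centralizer_iff.2 fun z hz => (hZk z hz).symm
  -- the configuration
  have hB₀B : B₀ ≤ B := hpr.inf_le
  refine ⟨B, R, fun x hx => hTS (hRT x hx), hRel, ?_, ?_⟩
  · refine ⟨lt_of_le_not_ge hBV fun hle => haB (hle haV), ?_, ?_, ?_, ?_, ?_⟩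
    · rw [Subgroup.commutator_le]
      exact fun v hv r hr => hB₀B (hVR v hv r hr)
    · rw [Subgroup.commutator_eq_bot_iff_le_centralizer, Subgroup.commutator_le]
      intro v hv r hr
      obtain ⟨b, hb, hbr⟩ := hdec v hv
      rw [hbr r hr]
      exact Subgroup.mem_centralizer_iff.2 fun x hx => hZR _ (hB₀R b hb r hr) x hx
    · intro e he hne' v hv
      obtain ⟨b, hb, hbr⟩ := hdec v hv
      obtain ⟨r, hr, hr'⟩ := hsurj e he hne' b hb
      refine ⟨r, hr, ?_⟩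
      have hc'' : b⁻¹ * v ∈ Subgroup.centralizer (R : Set G) := by
        refine Subgroup.mem_centralizer_iff.2 fun x hx => ?_
        have h1 := hbr x hx
        rw [commutatorElement_def, commutatorElement_def, mul_left_inj] at h1
        have h2 : v * x * v⁻¹ = b * x * b⁻¹ := h1
        calc x * (b⁻¹ * v) = b⁻¹ * (b * x * b⁻¹) * v := by group
          _ = b⁻¹ * (v * x * v⁻¹) * v := by rw [h2]
          _ = _ := by group
      have e1 : v⁻¹ * ⁅e, r⁆ = (b⁻¹ * v)⁻¹ * (b⁻¹ * ⁅e, r⁆) := by group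
      rw [e1]
      exact mul_mem (inv_mem hc'') (Subgroup.mem_centralizer_iff.2 fun x hx => hZR _ hr' x hx)
    · intro e he hne' r hr hc
      have h1 : ⁅e, r⁆ ∈ Z₀ := hB₁ _ (hVR e he r hr) (Subgroup.mem_centralizer_iff.1 hc)
      have h2 : r ∈ Z₀ := hinj e he hne' r hr (by rw [← commutatorElement_inv]; exact inv_mem h1)
      exact Subgroup.mem_centralizer_iff.2 fun v hv => hZV r h2 v hv
    · intro hle
      refine hne fun b hb => ?_
      obtain ⟨r, hr, hr'⟩ := hsurj a haV haB b hb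
      rw [commutatorElement_eq_one_iff_mul_comm.2 (Subgroup.mem_centralizer_iff.1 (hle hr) a haV), mul_one] at hr'
      exact (Subgroup.inv_mem_iff _).1 hr'
  · intro Y hY hO
    intro r hr
    obtain ⟨x, hx, z, hz, rfl⟩ := hgen r (Subgroup.mem_sup_right hr)
    refine mul_mem ?_ (Subgroup.mem_centralizer_iff.2 fun y hy => hZV z hz y (hY hy))
    have hkO : k ∈ Cfsg.pResidual 2 G := Transfer.PResidual.mem_pResidual (Nat.coprime_two_right.2 hkodd)
    haveI : (Cfsg.pResidual 2 G).Normal := inferInstance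
    refine hO ?_
    rw [commutatorElement_def]
    exact mul_mem ((inferInstance : (Cfsg.pResidual 2 G).Normal).conj_mem k hkO x) (inv_mem hkO)

end Cfsg.Agent.Lib.Stellmacher55
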