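import Cfsg.Agent.Lib.Stellmacher55.Descent
import Cfsg.Agent.Lib.Stellmacher55.StepOne
import Cfsg.Agent.Lib.Stellmacher55.Closure

/-!
# Stellmacher's functor `W(S)`

`wFun S` is generated by all iterated closures of `Ω₁Z(S)`.  It is characteristic, lies between `Ω₁Z(S)` and
`Ω₁Z(J(S))`, and is normal in every constrained group without a section `Sym(4)` having `S` as Sylow 2-subgroup.

Owner: helper21.
-/

set_option autoImplicit false
set_option linter.style.haveILetI false
set_option linter.unusedSectionVars false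

namespace Cfsg.Agent.Lib.Stellmacher55

open PLocal GlaubermanTwo54
open scoped commutatorElement

universe u

/-- The join of the closures with `n` steps. -/
def stage (S : Type u) [Group S] (n : ℕ) : Subgroup S :=
  ⨆ W : {W : Subgroup S // Reach S n W}, W.1

/-- The join of all closures. -/
def wFun (S : Type u) [Group S] : Subgroup S :=
  ⨆ W : {W : Subgroup S // ∃ n, Reach S n W}, W.1

section Basics

variable {S : Type u} [Group S] [Finite S]

theorem Reach.le_wFun {n : ℕ} {W : Subgroup S} (h : Reach S n W) : W ≤ wFun S :=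
  le_iSup (fun W : {W : Subgroup S // ∃ n, Reach S n W} => W.1) ⟨W, n, h⟩

theorem Reach.le_stage {n : ℕ} {W : Subgroup S} (h : Reach S n W) : W ≤ stage S n :=
  le_iSup (fun W : {W : Subgroup S // Reach S n W} => W.1) ⟨W, h⟩

theorem wFun_le_topZJ : wFun S ≤ topZJ S := iSup_le fun ⟨_, _, h⟩ => h.le_topZJ

theorem omega_center_le_wFun : Cfsg.omegaOne 2 (Subgroup.center S) ≤ wFun S := Reach.base.le_wFun

theorem wFun_ne_bot [Nontrivial S] (hS : IsPGroup 2 S) : wFun S ≠ ⊥ := by
  haveI : Fact (Nat.Prime 2) := ⟨Nat.prime_two⟩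
  haveI := hS.center_nontrivial
  exact fun h => PGroups.omegaOne_ne_bot (hS.to_subgroup _) ((Subgroup.nontrivial_iff_ne_bot _).1 inferInstance)
    (le_bot_iff.1 (h ▸ omega_center_le_wFun))

/-- An isomorphism carries closures to closures. -/
theorem Reach.congr {R : Type u} [Group R] [Finite R] (φ : S ≃* R) {n : ℕ} {W : Subgroup S} (h : Reach S n W) :
    Reach R n (W.map φ.toMonoidHom) := by
  induction h with
  | base =>
    have e : (Subgroup.center S).map φ.toMonoidHom = Subgroup.center R := by
      ext x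
      rw [Subgroup.mem_map_equiv, Subgroup.mem_center_iff, Subgroup.mem_center_iff]
      refine ⟨fun hx y => φ.symm.injective ?_, fun hx y => φ.injective ?_⟩
      · simpa using hx (φ.symm y)
      · simpa using hx (φ y)
    rw [PGroups.map_omegaOne_of_injective φ.toMonoidHom φ.injective, e]
    exact Reach.base
  | @step m W G _ _ τ hW hg ih =>
    have hg' : GoodStep G (τ.comp φ.symm.toMonoidHom) := by
      have hr : (τ.comp φ.symm.toMonoidHom).range = τ.range := by
        rw [MonoidHom.range_comp, MonoidHom.range_eq_top.2 φ.symm.surjective, ← MonoidHom.range_eq_map]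
      exact ⟨hg.inj.comp φ.symm.injective, hr.symm ▸ hg.syl, hg.free, hg.c2, hr.symm ▸ hg.min,
        hr.symm ▸ hg.good⟩
    have := Reach.step G (τ.comp φ.symm.toMonoidHom) ih hg'
    have e1 : (W.map φ.toMonoidHom).map (τ.comp φ.symm.toMonoidHom) = W.map τ := by
      rw [Subgroup.map_map, MonoidHom.comp_assoc]
      congr 1
      ext x; simp
    rw [e1] at this
    have e2 : ((Subgroup.normalClosure (W.map τ : Set G)).comap τ).map φ.toMonoidHom =
        (Subgroup.normalClosure (W.map τ : Set G)).comap (τ.comp φ.symm.toMonoidHom) := by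
      rw [← Subgroup.comap_comap]
      exact Subgroup.map_equiv_eq_comap_symm' φ _
    rw [e2]; exact this

theorem map_wFun_le {R : Type u} [Group R] [Finite R] (φ : S ≃* R) :
    (wFun S).map φ.toMonoidHom ≤ wFun R := by
  rw [wFun, Subgroup.map_iSup]
  exact iSup_le fun ⟨W, n, h⟩ => (h.congr φ).le_wFun

/-- The functor is natural. -/
theorem map_wFun {R : Type u} [Group R] [Finite R] (φ : S ≃* R) :
    (wFun S).map φ.toMonoidHom = wFun R := by
  refine le_antisymm (map_wFun_le φ) ?_
  have h := Subgroup.map_mono (f := φ.toMonoidHom) (map_wFun_le φ.symm)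
  rw [Subgroup.map_map, show φ.toMonoidHom.comp φ.symm.toMonoidHom = MonoidHom.id R from
    MonoidHom.ext fun x => φ.apply_symm_apply x, Subgroup.map_id] at h
  exact h

theorem wFun_characteristic : (wFun S).Characteristic :=
  Subgroup.characteristic_iff_map_eq.2 fun φ => map_wFun φ

theorem stage_map (n : ℕ) (α : S ≃* S) : (stage S n).map α.toMonoidHom = stage S n := by
  refine Subgroup.eq_of_le_of_card_ge ?_ (Subgroup.card_map_of_injective α.injective).ge
  rw [stage, Subgroup.map_iSup]
  exact iSup_le fun ⟨W, h⟩ => (h.map α).le_stage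

theorem elemAb_stage (n : ℕ) : Cfsg.IsElementaryAbelian 2 (stage S n) :=
  PGroups.elemAb_mono elemAb_topZJ (iSup_le fun ⟨_, h⟩ => h.le_topZJ)

theorem not_involves_two_group (hS : IsPGroup 2 S) : ¬ Cfsg.Involves (Equiv.Perm (Fin 4)) S := by
  intro h
  obtain ⟨K, φ, hφ⟩ := Transfer.InvolvesS4.exists_hom_of_involves h
  haveI : Fact (Nat.Prime 2) := ⟨Nat.prime_two⟩
  obtain ⟨k, hk⟩ := IsPGroup.iff_card.1 ((hS.to_subgroup K).of_surjective φ hφ)
  rw [Nat.card_perm, Nat.card_fin] at hk
  have h3 : 3 ∣ 2 ^ k := hk ▸ (by decide : 3 ∣ Nat.factorial 4)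
  have := (Nat.prime_three.dvd_of_dvd_pow h3)
  omega

/-- `S` itself is a good group: the closures increase. -/
theorem Reach.succ [Nontrivial S] (hS : IsPGroup 2 S) {n : ℕ} {W : Subgroup S} (h : Reach S n W) :
    Reach S (n + 1) W := by
  haveI : Fact (Nat.Prime 2) := ⟨Nat.prime_two⟩
  have hr : (MonoidHom.id S).range = ⊤ := MonoidHom.range_eq_top.2 fun x => ⟨x, rfl⟩
  have hT : Cfsg.pCore 2 S = ⊤ :=
    top_le_iff.1 (Cores.le_pCore (hS.to_subgroup (⊤ : Subgroup S)))
  have hg : GoodStep S (MonoidHom.id S) := by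
    refine ⟨fun _ _ e => e, ⟨Classical.arbitrary (Sylow 2 S), ?_⟩, not_involves_two_group hS, ?_, ?_, ?_⟩
    · rw [hr, hT.symm]
      refine le_antisymm (hT ▸ le_top) (Cores.pCore_le_sylow _)
    · rw [hT]; exact le_top
    · exact ⟨⊥, bot_ne_top, fun U hU hne => absurd (top_le_iff.1 (hr ▸ hU)) hne⟩
    · rw [hr]
      refine Subgroup.normalizer_eq_top_iff.1 (top_le_iff.1 ?_)
      refine le_trans ?_ (PGroups.normalizer_le_normalizer_thompson _)
      rw [Subgroup.normalizer_eq_top]
  have hs := Reach.step S (MonoidHom.id S) h hg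
  haveI := h.normal
  rwa [Subgroup.map_id, Subgroup.normalClosure_eq_self, Subgroup.comap_id] at hs

theorem Reach.mono [Nontrivial S] (hS : IsPGroup 2 S) {n m : ℕ} {W : Subgroup S} (h : Reach S n W)
    (hnm : n ≤ m) : Reach S m W := by
  induction hnm with
  | refl => exact h
  | step _ ih => exact ih.succ hS

theorem normal_map_of_range_top {W : Subgroup S} [W.Normal] {G : Type u} [Group G] {τ : S →* G}
    (h : τ.range = ⊤) : (W.map τ).Normal :=
  (inferInstance : W.Normal).map τ (MonoidHom.range_eq_top.1 h)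

end Basics

/-- A minimal group with a proper Sylow subgroup satisfies `Cfg`. -/
theorem exists_cfg {G : Type u} [Group G] (Q : Sylow 2 G)
    (hfree : ¬ Cfsg.Involves (Equiv.Perm (Fin 4)) G)
    (hc2 : Subgroup.centralizer (Cfsg.pCore 2 G : Set G) ≤ Cfsg.pCore 2 G)
    (hmin : MinOver (Q : Subgroup G)) (hne : (Q : Subgroup G) ≠ ⊤) : ∃ M : Subgroup G, Cfg Q M := by
  obtain ⟨M, hM, hmax⟩ := hmin
  exact ⟨M, hfree, hc2, hmax _ le_rfl hne, hM, hmax⟩

section Main

variable {S : Type u} [Group S] [Finite S]

/-- Every closure has the property `P2` in `S`. -/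
theorem p2_reach (hpo : PropPairOut.{u}) {n : ℕ} {W : Subgroup S} (h : Reach S n W) :
    P2 (⊤ : Subgroup S) W := by
  induction h with
  | base =>
    intro R _ _
    refine strict_of_le fun r _ => Subgroup.mem_centralizer_iff.2 fun x hx => ?_
    exact (Subgroup.mem_center_iff.1 (PGroups.omegaOne_le 2 _ hx) r).symm
  | @step n W G _ _ τ hW hg ih =>
    haveI := hW.normal
    by_cases htop : τ.range = ⊤
    · haveI := normal_map_of_range_top (W := W) htop
      rwa [Subgroup.normalClosure_eq_self, Subgroup.comap_map_eq_self_of_injective hg.inj]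
    obtain ⟨Q, hQ⟩ := hg.syl
    obtain ⟨M, cfg⟩ := exists_cfg Q hg.free hg.c2 (hQ ▸ hg.min) (hQ ▸ htop)
    haveI : Fact (Nat.Prime 2) := ⟨Nat.prime_two⟩
    set P := Subgroup.normalClosure (W.map τ : Set G) with hP
    have hPel : Cfsg.IsElementaryAbelian 2 P :=
      PGroups.elemAb_mono (PGroups.elemAb_map τ elemAb_topZJ) (hg.normalClosure_le hW.le_topZJ)
    have hPT : P ≤ Cfsg.pCore 2 G := by
      haveI : P.Normal := Subgroup.normalClosure_normal
      exact Cores.le_pCore (PGroups.elemAb_isPGroup hPel)
    have hSY : (Q : Subgroup G) ≤ Subgroup.normalizer ((W.map τ : Subgroup G) : Set G) := by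
      rw [hQ, MonoidHom.range_eq_map]
      refine (le_of_eq ?_).trans (Subgroup.le_normalizer_map τ)
      rw [Subgroup.normalizer_eq_top]
    have hpY : P2 (Q : Subgroup G) (W.map τ) := by
      rw [hQ, MonoidHom.range_eq_map]; exact (p2_map τ hg.inj).2 ih
    have := p2_normalClosure hpo cfg hSY ((Subgroup.subset_normalClosure).trans hPT) hPel hpY
    rw [← hW.map_step hg, hQ, MonoidHom.range_eq_map] at this
    exact (p2_map τ hg.inj).1 this

/-- In a minimal group where `J(S)` is not normal, `O²` centralises every closure. -/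
theorem nongood [Nontrivial S] (hK : SThreeFree21.SThreeFreeSimple.{u}) (hpo : PropPairOut.{u})
    (hpc : PropPairClause.{u}) (hS : IsPGroup 2 S) {G : Type u} [Group G] [Finite G] (τ : S →* G)
    (hτ : Function.Injective τ) (Q : Sylow 2 G) (hQ : (Q : Subgroup G) = τ.range) {M : Subgroup G}
    (cfg : Cfg Q M) (hJ : ¬ (Cfsg.thompsonSubgroupOf 2 τ.range).Normal) :
    ∀ n : ℕ, (stage S n).map τ ≤ Cfsg.pCore 2 G ∧
      Cfsg.pResidual 2 G ≤ Subgroup.centralizer ((stage S n).map τ : Set G) := by
  classical
  haveI : Fact (Nat.Prime 2) := ⟨Nat.prime_two⟩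
  intro n
  induction n using Nat.strong_induction_on with
  | _ n ih =>
    set T := Cfsg.pCore 2 G with hTdef
    have hTS : T ≤ (Q : Subgroup G) := pCore_le Q
    set V := (stage S n).map τ with hVdef
    have hVQ : V ≤ (Q : Subgroup G) := hQ ▸ Subgroup.map_le_range τ _
    have hVel : Cfsg.IsElementaryAbelian 2 V := PGroups.elemAb_map τ (elemAb_stage n)
    have hsup : V = ⨆ W : {W : Subgroup S // Reach S n W}, W.1.map τ := by
      rw [hVdef, stage, Subgroup.map_iSup]
    have hn : Subgroup.normalizer ((Q : Subgroup G) : Set G) ≤ Subgroup.normalizer (V : Set G) := by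
      intro g hg
      rw [hQ] at hg
      set e := MonoidHom.ofInjective hτ
      set α : S ≃* S := e.trans ((Subgroup.normalizerMonoidHom τ.range ⟨g, hg⟩).trans e.symm) with hα
      have hταs : ∀ s, τ (α s) = g * τ s * g⁻¹ := by
        intro s
        have h1 : e (α s) = Subgroup.normalizerMonoidHom τ.range ⟨g, hg⟩ (e s) := by
          rw [hα]; simp
        exact congrArg Subtype.val h1
      refine Subgroup.mem_normalizer_iff_map_conj_eq.2 ?_
      rw [hVdef, Subgroup.map_map]
      conv_rhs => rw [← stage_map n α, Subgroup.map_map]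
      congr 1
      ext s
      exact (hταs s).symm
    have hQn : (Q : Subgroup G) ≤ Subgroup.normalizer (V : Set G) := Subgroup.le_normalizer.trans hn
    have hpp : ∀ W : Subgroup S, Reach S n W → P2 (Q : Subgroup G) (W.map τ) := fun W hW => by
      rw [hQ, MonoidHom.range_eq_map]; exact (p2_map τ hτ).2 (p2_reach hpo hW)
    have hp2 : P2 (Q : Subgroup G) V := fun R hR he =>
      strict_of_generated (fun W : {W : Subgroup S // Reach S n W} => W.1.map τ) hsup fun W B hB =>
        hpp W.1 W.2 B (hB.trans hR) ((he.mono hB).anti (Subgroup.map_mono W.2.le_stage))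
    -- the stage lies in `T`
    have hVT : V ≤ T := by
      by_contra hVT
      obtain ⟨B, R, hRQ, hRel, hc, hcY⟩ := exists_config hpc cfg hVel hVQ hn hp2 hVT
      obtain ⟨W, hW, hWB⟩ : ∃ W : Subgroup S, Reach S n W ∧ ¬ W.map τ ≤ B := by
        by_contra hcon
        push Not at hcon
        exact hc.lt.not_ge (hsup.le.trans (iSup_le fun W => hcon W.1 W.2))
      set Y := W.map τ with hY
      have hYV : Y ≤ V := Subgroup.map_mono hW.le_stage
      have hRY : R ≤ Subgroup.normalizer (Y : Set G) := by
        refine hRQ.trans ?_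
        rw [hQ, MonoidHom.range_eq_map]
        refine (le_of_eq ?_).trans (Subgroup.le_normalizer_map τ)
        haveI := hW.normal
        rw [Subgroup.normalizer_eq_top]
      have hc' : Config Y (B ⊓ Y) R := by
        refine ⟨lt_of_le_not_ge inf_le_right fun hle => hWB (hle.trans inf_le_left),
          le_inf ((Subgroup.commutator_mono hYV le_rfl).trans hc.comm) (commutator_le_self hRY), ?_, ?_, ?_, ?_⟩
        · exact le_bot_iff.1 ((Subgroup.commutator_mono (Subgroup.commutator_mono inf_le_left le_rfl) le_rfl).trans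
            hc.quad.le)
        · exact fun e he hne v hv => hc.fill e (hYV he) (fun h => hne ⟨h, he⟩) v hv.1
        · exact fun e he hne r hr hcm =>
            Subgroup.centralizer_le hYV (hc.sep e (hYV he) (fun h => hne ⟨h, he⟩) r hr hcm)
        · intro hle
          obtain ⟨e, he, hne⟩ := SetLike.not_le_iff_exists.1 hWB
          refine hc.moved fun r hr => hc.sep e (hYV he) hne r hr ?_
          rw [commutatorElement_eq_one_iff_mul_comm.2 (Subgroup.mem_centralizer_iff.1 (hle hr) e he)]
          exact one_mem _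
      have hRr : R ≤ τ.range := hQ ▸ hRQ
      have hBr : B ⊓ Y ≤ τ.range := inf_le_right.trans (Subgroup.map_le_range τ W)
      refine descent hK hpo hW ((B ⊓ Y).comap τ) (R.comap τ) (PGroups.elemAb_comap τ hτ hRel) ?_
        (config_of_map τ hτ (by
          rw [Subgroup.map_comap_eq_self hBr, Subgroup.map_comap_eq_self hRr]; exact hc'))
      intro m hm W' hW'
      rw [← GlaubermanTwo54.le_centralizer_map_iff τ hτ, Subgroup.map_comap_eq_self hRr]
      refine hcY _ (Subgroup.map_mono (hW'.mono hS hm.le).le_stage) ((ih m hm).2.trans ?_)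
      exact Subgroup.centralizer_le (Subgroup.map_mono hW'.le_stage)
    -- the conjugates commute
    have hcomm : ∀ g : G, V.map (MulAut.conj g).toMonoidHom ≤ Subgroup.centralizer (V : Set G) := by
      intro g
      have key : ∀ W W' : {W : Subgroup S // Reach S n W},
          W.1.map τ ≤ Subgroup.centralizer ((W'.1.map τ).map (MulAut.conj g).toMonoidHom : Set G) := by
        intro W W'
        by_contra hne
        have hT1 : ∀ X : {W : Subgroup S // Reach S n W}, X.1.map τ ≤ T :=
          fun X => (Subgroup.map_mono X.2.le_stage).trans hVT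
        set Y := W.1.map τ
        set Z := (W'.1.map τ).map (MulAut.conj g).toMonoidHom with hZ
        have hZT : Z ≤ T :=
          (Subgroup.map_mono (hT1 W')).trans (Subgroup.Normal.map_conj_eq T g).le
        have hne' : ¬ Z ≤ Subgroup.centralizer (Y : Set G) := fun h => hne (Subgroup.le_centralizer_iff.1 h)
        have h1 := (hpp W.1 W.2 Z (hZT.trans hTS)
          (elemOn_of_elemAb (PGroups.elemAb_map _ (PGroups.elemAb_map τ W'.2.elemAb)))).not_le hne'
        have h2 : Strict Z Y := (hpp W'.1 W'.2).conj g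
          (((Subgroup.map_mono (hT1 W)).trans (Subgroup.Normal.map_conj_eq T g⁻¹).le).trans hTS)
          (elemOn_of_elemAb (PGroups.elemAb_map τ W.2.elemAb))
        exact lt_asymm h1 (h2.not_le hne)
      rw [Subgroup.le_centralizer_iff, hsup]
      refine iSup_le fun W => ?_
      rw [Subgroup.map_iSup, Subgroup.le_centralizer_iff]
      exact iSup_le fun W' => Subgroup.le_centralizer_iff.1 (key W W')
    set P := Subgroup.normalClosure (V : Set G) with hPdef
    have hPn : P.Normal := Subgroup.normalClosure_normal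
    have hPT : P ≤ T := Subgroup.normalClosure_le_normal hVT
    have hVP : V ≤ P := Subgroup.subset_normalClosure
    have hPel : Cfsg.IsElementaryAbelian 2 P := by
      refine PGroups.elemAb_closure ?_ ?_
      · intro a ha b hb
        obtain ⟨v, hv, hva⟩ := Group.mem_conjugatesOfSet_iff.1 ha
        obtain ⟨w, hw, hwb⟩ := Group.mem_conjugatesOfSet_iff.1 hb
        obtain ⟨c, rfl⟩ := isConj_iff.1 hva
        obtain ⟨d, rfl⟩ := isConj_iff.1 hwb
        have h := Subgroup.mem_centralizer_iff.1 (hcomm (d⁻¹ * c) ⟨v, hv, rfl⟩) w hw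
        calc c * v * c⁻¹ * (d * w * d⁻¹) = d * (d⁻¹ * c * v * (d⁻¹ * c)⁻¹ * w) * d⁻¹ := by group
          _ = d * (w * (d⁻¹ * c * v * (d⁻¹ * c)⁻¹)) * d⁻¹ := by
            congr 2; exact h.symm
          _ = d * w * d⁻¹ * (c * v * c⁻¹) := by group
      · intro a ha
        obtain ⟨v, hv, hva⟩ := Group.mem_conjugatesOfSet_iff.1 ha
        obtain ⟨c, rfl⟩ := isConj_iff.1 hva
        rw [conj_pow, PGroups.elemAb_pow hVel hv, mul_one, mul_inv_cancel]
    have hpP : P2 (Q : Subgroup G) P := p2_normalClosure hpo cfg hQn hVT hPel hp2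
    -- `J` centralises the closure
    have hJP : Cfsg.thompsonSubgroupOf 2 (Q : Subgroup G) ≤ Subgroup.centralizer (P : Set G) := by
      rw [PGroups.thompsonSubgroupOf_eq]
      refine sSup_le fun A hA => ?_
      by_contra hne
      have hlt := (hpP A hA.1 (elemOn_of_elemAb hA.2.1)).not_le hne
      set C := A ⊓ Subgroup.centralizer (P : Set G) with hC
      set D := P ⊓ Subgroup.centralizer (A : Set G) with hD
      have hE : Cfsg.IsElementaryAbelian 2 (C ⊔ P : Subgroup G) :=
        PGroups.elemAb_sup (PGroups.elemAb_mono hA.2.1 inf_le_left) hPel fun b hb v hv =>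
          (Subgroup.mem_centralizer_iff.1 hb.2 v hv).symm
      have h1 := PLocal.card_sup_mul_card_inf (H := C) (K := P)
        (inf_le_right.trans (Subgroup.centralizer_le_normalizer _))
      have h2 : Nat.card ↥(C ⊓ P) ≤ Nat.card D :=
        Subgroup.card_le_of_le fun x hx => ⟨hx.2, Subgroup.mem_centralizer_iff.2 fun a ha =>
          PGroups.elemAb_comm hA.2.1 ha hx.1.1⟩
      have h3 : Nat.card C * Nat.card P ≤ Nat.card A * Nat.card D := by
        rw [← h1]
        exact Nat.mul_le_mul (hA.2.2 _ (sup_le (inf_le_left.trans hA.1) (hPT.trans hTS)) hE) h2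
      have hcA : Nat.card C * (Subgroup.centralizer (P : Set G)).relIndex A = Nat.card A := by
        rw [← Subgroup.inf_relIndex_left, ← Subgroup.relIndex_bot_left, ← Subgroup.relIndex_bot_left,
          ← hC, Subgroup.relIndex_mul_relIndex _ _ _ bot_le inf_le_left]
      have hcP : Nat.card D * (Subgroup.centralizer (A : Set G)).relIndex P = Nat.card P := by
        rw [← Subgroup.inf_relIndex_left, ← Subgroup.relIndex_bot_left, ← Subgroup.relIndex_bot_left,
          ← hD, Subgroup.relIndex_mul_relIndex _ _ _ bot_le inf_le_left]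
      rw [← hcA, ← hcP] at h3
      have hpos : 0 < Nat.card C * Nat.card D := Nat.mul_pos Nat.card_pos Nat.card_pos
      have h4 : (Subgroup.centralizer (A : Set G)).relIndex P ≤ (Subgroup.centralizer (P : Set G)).relIndex A :=
        Nat.le_of_mul_le_mul_left (c := Nat.card C * Nat.card D) (by
          calc Nat.card C * Nat.card D * (Subgroup.centralizer (A : Set G)).relIndex P
              = Nat.card C * (Nat.card D * (Subgroup.centralizer (A : Set G)).relIndex P) := mul_assoc _ _ _
            _ ≤ Nat.card C * (Subgroup.centralizer (P : Set G)).relIndex A * Nat.card D := h3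
            _ = _ := mul_right_comm _ _ _) hpos
      omega
    haveI : (Subgroup.centralizer (P : Set G)).Normal := Subgroup.normal_centralizer
    rcases dichotomy_of_minOver Q ⟨M, cfg.ne, cfg.max⟩ (Subgroup.centralizer (P : Set G)) inferInstance with h | h
    · exact ⟨hVT, h.trans (Subgroup.centralizer_le hVP)⟩
    · exfalso
      refine hJ ?_
      rw [← hQ]
      have hJT : Cfsg.thompsonSubgroupOf 2 (Q : Subgroup G) ≤ T :=
        (le_inf (PGroups.thompsonSubgroupOf_le 2 _) hJP).trans h
      refine Subgroup.normalizer_eq_top_iff.1 (top_le_iff.1 ?_)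
      rw [← PGroups.thompsonSubgroupOf_eq_of_le hTS hJT]
      refine le_trans ?_ (PGroups.normalizer_le_normalizer_thompson _)
      rw [Subgroup.normalizer_eq_top]

/-- `W(S)` is normal in every constrained group without a section `Sym(4)` over `S`. -/
theorem wFun_normal [Nontrivial S] (hK : SThreeFree21.SThreeFreeSimple.{u}) (hpo : PropPairOut.{u})
    (hpc : PropPairClause.{u}) (hS : IsPGroup 2 S) :
    ∀ (N : ℕ) (G : Type u) [Group G] [Finite G], Nat.card G = N → ∀ τ : S →* G, Function.Injective τ →
      (∃ P : Sylow 2 G, (P : Subgroup G) = τ.range) → ¬ Cfsg.Involves (Equiv.Perm (Fin 4)) G →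
      Subgroup.centralizer (Cfsg.pCore 2 G : Set G) ≤ Cfsg.pCore 2 G → ((wFun S).map τ).Normal := by
  intro N
  induction N using Nat.strong_induction_on with
  | _ N ih =>
    intro G _ _ hN τ hτ hsyl hfree hc2
    subst hN
    haveI : Fact (Nat.Prime 2) := ⟨Nat.prime_two⟩
    obtain ⟨Q, hQ⟩ := hsyl
    haveI := (wFun_characteristic (S := S))
    by_cases htop : τ.range = ⊤
    · exact normal_map_of_range_top htop
    refine Subgroup.normalizer_eq_top_iff.1 (top_le_iff.1 ?_)
    by_cases hmin : MinOver τ.range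
    · by_cases hJ : (Cfsg.thompsonSubgroupOf 2 τ.range).Normal
      · have hg : GoodStep G τ := ⟨hτ, ⟨Q, hQ⟩, hfree, hc2, hmin, hJ⟩
        intro g _
        refine Subgroup.mem_normalizer_iff_map_conj_eq.2
          (Subgroup.eq_of_le_of_card_ge ?_ (Subgroup.card_map_of_injective (MulAut.conj g).injective).ge)
        rw [wFun, Subgroup.map_iSup, Subgroup.map_iSup]
        refine iSup_le fun ⟨W, m, hW⟩ => ?_
        haveI : (Subgroup.normalClosure (W.map τ : Set G)).Normal := Subgroup.normalClosure_normal
        refine ((Subgroup.map_mono Subgroup.subset_normalClosure).trans (Subgroup.Normal.map_conj_eq _ g).le).trans ?_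
        rw [← hW.map_step hg, ← Subgroup.map_iSup]
        exact Subgroup.map_mono (Reach.step G τ hW hg).le_wFun
      · obtain ⟨M, cfg⟩ := exists_cfg Q hfree hc2 (hQ ▸ hmin) (hQ ▸ htop)
        rw [← CharP.sylow_sup_pResidual Q]
        refine sup_le ?_ ?_
        · rw [hQ, MonoidHom.range_eq_map]
          refine (le_of_eq ?_).trans (Subgroup.le_normalizer_map τ)
          rw [Subgroup.normalizer_eq_top]
        · refine le_trans ?_ (Subgroup.centralizer_le_normalizer _)
          rw [Subgroup.le_centralizer_iff, wFun, Subgroup.map_iSup]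
          refine iSup_le fun ⟨W, m, hW⟩ => ?_
          rw [← Subgroup.le_centralizer_iff]
          exact (nongood hK hpo hpc hS τ hτ Q hQ cfg hJ m).2.trans
            (Subgroup.centralizer_le (Subgroup.map_mono hW.le_stage))
    · have hj : sSup {U : Subgroup G | τ.range ≤ U ∧ U ≠ ⊤} = ⊤ := by
        by_contra hne
        exact hmin ⟨_, hne, fun U hU hU' => le_sSup (a := U) ⟨hU, hU'⟩⟩
      rw [← hj]
      refine sSup_le fun U hU => ?_
      obtain ⟨hU, hU'⟩ := hU
      set τ' := τ.codRestrict U (fun s => hU ⟨s, rfl⟩) with hτ'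
      have hcomp : U.subtype.comp τ' = τ := MonoidHom.ext fun _ => rfl
      have hr : τ'.range.map U.subtype = τ.range := by rw [MonoidHom.map_range, hcomp]
      have h1 := ih _ (Cores.Subnormal.card_lt_of_ne_top hU') U rfl τ' (fun a b e => hτ (congrArg Subtype.val e))
        ⟨Q.subtype (hQ ▸ hU), Subgroup.map_injective U.subtype_injective (by
          rw [hr, Sylow.coe_subtype, Subgroup.map_subgroupOf_eq_of_le (hQ ▸ hU), hQ])⟩
        (free_subgroup hfree U) (charP_overgroup hc2 ((Cores.pCore_le_sylow Q).trans (hQ ▸ hU)))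
      have h2 := Subgroup.le_normalizer_map U.subtype (H := (wFun S).map τ')
      rw [Subgroup.map_map, hcomp, Subgroup.normalizer_eq_top_iff.2 h1] at h2
      rwa [← MonoidHom.range_eq_map, Subgroup.range_subtype] at h2

/-- The subgroup wanted by the consumers. -/
theorem exists_char [Nontrivial S] (hK : SThreeFree21.SThreeFreeSimple.{u}) (hpo : PropPairOut.{u})
    (hpc : PropPairClause.{u}) (hS : IsPGroup 2 S) :
    ∃ W : Subgroup S, W ≠ ⊥ ∧ W.Characteristic ∧
      ∀ (G : Type u) [Group G] [Finite G] (τ : S →* G), Function.Injective τ →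
        (∃ P : Sylow 2 G, (P : Subgroup G) = τ.range) → ¬ Cfsg.Involves (Equiv.Perm (Fin 4)) G →
        Subgroup.centralizer (Cfsg.pCore 2 G : Set G) ≤ Cfsg.pCore 2 G → (W.map τ).Normal :=
  ⟨wFun S, wFun_ne_bot hS, wFun_characteristic,
    fun G _ _ τ hτ h1 h2 h3 => wFun_normal hK hpo hpc hS _ G rfl τ hτ h1 h2 h3⟩

end Main

end Cfsg.Agent.Lib.Stellmacher55
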