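import Cfsg.Agent.Lib.Stellmacher55.Tools

/-!
# Descent: a moved layer

`N > N₂` normal inside `P`, `[N, T] ≤ N₂`, `O²` moves the layer and `P⁻ = C (N ∩ P⁻) ≠ C (N₂ ∩ P⁻)`.
Then `R ≤ T`.

Owner: helper21.
-/

set_option autoImplicit false
set_option linter.style.haveILetI false
set_option linter.unusedSectionVars false

namespace Cfsg.Agent.Lib.Stellmacher55

open PLocal GlaubermanTwo54
open scoped commutatorElement

universe u

variable {G : Type u} [Group G] [Finite G]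

/-- The subgroup `C_{P⁻}(R) (N ∩ P⁻)`. -/
abbrev part (Pm R N : Subgroup G) : Subgroup G :=
  (Pm ⊓ Subgroup.centralizer (R : Set G)) ⊔ (N ⊓ Pm)

theorem part_le (Pm R N : Subgroup G) : part Pm R N ≤ Pm := sup_le inf_le_left inf_le_right

theorem mem_part {P Pm R N : Subgroup G} (hP : Cfsg.IsElementaryAbelian 2 P) (hPm : Pm ≤ P) {v : G}
    (hv : v ∈ part Pm R N) : ∃ c ∈ Pm ⊓ Subgroup.centralizer (R : Set G), ∃ n ∈ N ⊓ Pm, v = c * n := by
  have hn : Pm ⊓ Subgroup.centralizer (R : Set G) ≤ Subgroup.normalizer ((N ⊓ Pm : Subgroup G) : Set G) :=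
    fun x hx => Subgroup.centralizer_le_normalizer _ (Subgroup.mem_centralizer_iff.2 fun y hy =>
      PGroups.elemAb_comm hP (hPm hy.2) (hPm hx.1))
  have hv' : v ∈ (((Pm ⊓ Subgroup.centralizer (R : Set G)) ⊔ (N ⊓ Pm) : Subgroup G) : Set G) := hv
  rw [Subgroup.coe_mul_of_left_le_normalizer_right _ _ hn] at hv'
  obtain ⟨c, hc, n, hn, rfl⟩ := hv'
  exact ⟨c, hc, n, hn, rfl⟩

/-- `[v, r]` for `v = c n` in `C (N ∩ P⁻)`. -/
theorem comm_part {P Pm R N : Subgroup G} [P.Normal] (hP : Cfsg.IsElementaryAbelian 2 P) (hPm : Pm ≤ P)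
    {c n r : G} (hc : c ∈ Pm ⊓ Subgroup.centralizer (R : Set G)) (hn : n ∈ N ⊓ Pm) (hr : r ∈ R) :
    ⁅c * n, r⁆ = ⁅n, r⁆ := by
  rw [comm_mul_left hP.1 (hPm hc.1) (hPm hn.2) (by rw [Subgroup.normalizer_eq_top]; trivial),
    commutatorElement_eq_one_iff_mul_comm.2 (Subgroup.mem_centralizer_iff.1 hc.2 r hr).symm, one_mul]

/-- The moved layer. -/
theorem moved_layer (h : Hyp G) (S : Sylow 2 G) (hD : Dichotomy S) {P Pm R N N₂ : Subgroup G} [P.Normal]
    [N.Normal] [N₂.Normal] (hP : Cfsg.IsElementaryAbelian 2 P) (hR : Cfsg.IsElementaryAbelian 2 R)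
    (hRS : R ≤ (S : Subgroup G)) (hcfg : Config P Pm R) (hNP : N ≤ P) (hN₂ : N₂ ≤ N)
    (hNT : ⁅N, Cfsg.pCore 2 G⁆ ≤ N₂) (hmov : ¬ ⁅N, Cfsg.pResidual 2 G⁆ ≤ N₂)
    (hin : Pm ≤ part Pm R N) (hout : ¬ Pm ≤ part Pm R N₂) : R ≤ Cfsg.pCore 2 G := by
  classical
  haveI : Fact (Nat.Prime 2) := ⟨Nat.prime_two⟩
  set T := Cfsg.pCore 2 G with hTdef
  by_contra hRT
  set π := QuotientGroup.mk' N₂ with hπ
  have hπ1 : ∀ x : G, π x = 1 ↔ x ∈ N₂ := fun x => QuotientGroup.eq_one_iff x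
  set F := (Subgroup.centralizer (R.map π : Set (G ⧸ N₂))).comap π with hF
  have hmemF : ∀ v : G, v ∈ F ↔ ∀ s ∈ R, ⁅v, s⁆ ∈ N₂ := by
    intro v
    simp only [hF, Subgroup.mem_comap, Subgroup.mem_centralizer_iff, Subgroup.coe_map, Set.forall_mem_image]
    refine forall₂_congr fun s _ => ?_
    rw [← hπ1, map_commutatorElement, commutatorElement_eq_one_iff_mul_comm]
    exact eq_comm
  set R₀ := T ⊓ R with hR₀
  have hR₀R : R₀ ≤ R := inf_le_right
  have hr₀ : T.relIndex R = R₀.relIndex R := (Subgroup.inf_relIndex_right T R).symm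
  set r := R₀.relIndex R with hr
  have hr2 : 2 ≤ r := by
    have h0 : r ≠ 0 := Subgroup.index_ne_zero_of_finite
    have h1 : r ≠ 1 := fun e => hRT ((Subgroup.relIndex_eq_one.1 e).trans inf_le_left)
    omega
  -- the lower bound
  have hsq : r ^ 2 ≤ F.relIndex N := by
    rw [← hr₀]
    exact (section_bound h S hD N₂ N (PGroups.elemAb_map π (PGroups.elemAb_mono hP hNP)) hNT hRS hR).resolve_left
      hmov
  have hNT' : ∀ n ∈ N, ∀ t ∈ R₀, ⁅n, t⁆ ∈ N₂ := fun n hn t ht =>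
    hNT (Subgroup.commutator_mem_commutator hn ht.1)
  have hPn : ∀ x : G, x ∈ Subgroup.normalizer (P : Set G) := fun x => by
    rw [Subgroup.normalizer_eq_top]; trivial
  have hPmP : Pm ≤ P := hcfg.lt.le
  set C := Pm ⊓ Subgroup.centralizer (R : Set G) with hC
  set H := part Pm R N₂ with hH
  have hCH : C ≤ H := le_sup_left
  have hHPm : H ≤ Pm := part_le _ _ _
  have hquad : ∀ v ∈ Pm, ∀ t ∈ R, ⁅v, t⁆ ∈ C := fun v hv t ht =>
    ⟨hcfg.comm (Subgroup.commutator_mem_commutator (hPmP hv) ht), Subgroup.mem_centralizer_iff.2 fun s hs =>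
      (commutatorElement_eq_one_iff_mul_comm.1 (Subgroup.mem_bot.1 (hcfg.quad ▸
        Subgroup.commutator_mem_commutator (Subgroup.commutator_mem_commutator hv ht) hs))).symm⟩
  have hHF : N ⊓ H ≤ F := by
    rintro v ⟨-, hvH⟩
    rw [hmemF]
    intro s hs
    obtain ⟨c, hc, n, hn, rfl⟩ := mem_part (N := N₂) hP hPmP hvH
    rw [comm_part hP hPmP hc hn hs, commutatorElement_def, mul_assoc n s, mul_assoc n]
    have hn' : n ∈ N₂ := hn.1
    exact mul_mem hn' ((inferInstance : N₂.Normal).conj_mem _ (inv_mem hn') s)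
  have hN₂F : N₂ ≤ F := fun v hv => (hmemF v).2 fun s _ => by
    rw [commutatorElement_def, mul_assoc v s, mul_assoc v]
    exact mul_mem hv ((inferInstance : N₂.Normal).conj_mem _ (inv_mem hv) s)
  -- an element of `P` outside `P⁻`, modulo `H`
  have hfill : ∀ a ∈ P, a ∉ Pm → ∀ v ∈ Pm, ∃ t ∈ R, v⁻¹ * ⁅a, t⁆ ∈ C := by
    intro a ha hna v hv
    obtain ⟨t, ht, htc⟩ := hcfg.fill a ha hna v hv
    exact ⟨t, ht, Pm.mul_mem (Pm.inv_mem hv) (hcfg.comm (Subgroup.commutator_mem_commutator ha ht)), htc⟩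
  -- same coset of `R₀`, same class
  have hcoset : ∀ a ∈ P, ∀ t ∈ R, ∀ t' ∈ R, t⁻¹ * t' ∈ R₀ →
      ∃ d ∈ Pm, ⁅a, t'⁆ = ⁅a, t⁆ * d ∧ (a ∈ N → d ∈ H) ∧ ∀ s ∈ R, ⁅d, s⁆ ∈ N₂ := by
    intro a ha t ht t' ht' hmem
    set t₀ := t⁻¹ * t' with ht₀
    have ht₀R : t₀ ∈ R := hR₀R hmem
    set q := ⁅a, t₀⁆ with hq
    have hqPm : q ∈ Pm := hcfg.comm (Subgroup.commutator_mem_commutator ha ht₀R)
    refine ⟨t * q * t⁻¹, ?_, ?_, ?_, ?_⟩
    · rw [conj_eq_commutator_inv_mul]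
      exact Pm.mul_mem (Pm.inv_mem (hquad q hqPm t ht).1) hqPm
    · rw [show t' = t * t₀ by rw [ht₀, mul_inv_cancel_left], comm_mul_right, hq]
    · intro haN
      have hqN : q ∈ N₂ ⊓ Pm := ⟨hNT' a haN t₀ hmem, hqPm⟩
      refine Subgroup.mem_sup_right ⟨(inferInstance : N₂.Normal).conj_mem _ hqN.1 t, ?_⟩
      rw [conj_eq_commutator_inv_mul]
      exact Pm.mul_mem (Pm.inv_mem (hquad q hqPm t ht).1) hqPm
    · intro s hs
      have hts : t * s = s * t := PGroups.elemAb_comm hR ht hs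
      have e : ⁅t * q * t⁻¹, s⁆ = t * ⁅q, s⁆ * t⁻¹ := by
        have h1 : t⁻¹ * s * t = s := by rw [mul_assoc, ← hts, inv_mul_cancel_left]
        simp only [commutatorElement_def]
        calc t * q * t⁻¹ * s * (t * q * t⁻¹)⁻¹ * s⁻¹
            = t * (q * (t⁻¹ * s * t) * q⁻¹ * (t⁻¹ * s * t)⁻¹) * t⁻¹ := by group
          _ = _ := by rw [h1]
      rw [e]
      refine (inferInstance : N₂.Normal).conj_mem _ ?_ t
      rw [hq, comm_comm_swap hP.1 ha (hPn _) (hPn _) (PGroups.elemAb_comm hR ht₀R hs)]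
      obtain ⟨c, hc, n, hn, e'⟩ := mem_part (N := N) hP hPmP
        (hin (hcfg.comm (Subgroup.commutator_mem_commutator ha hs)))
      rw [e', comm_part hP hPmP hc hn ht₀R]
      exact hNT' n hn.1 t₀ hmem
  by_cases hcase : N ≤ N₂ ⊔ (N ⊓ Pm)
  · -- all of the layer is seen inside `P⁻`
    obtain ⟨a, haP, haPm⟩ := SetLike.exists_of_lt hcfg.lt
    have hN' : ∀ m ∈ N, ∃ n₂ ∈ N₂, ∃ p ∈ N ⊓ Pm, m = n₂ * p := by
      intro m hm
      obtain ⟨n₂, hn₂, p, hp, rfl⟩ := Subgroup.mem_sup_of_normal_left.mp (hcase hm)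
      exact ⟨n₂, hn₂, p, hp, rfl⟩
    have hsel : ∀ q : N ⧸ F.subgroupOf N, ∃ t : R, ∃ p : N, (p : G) ∈ Pm ∧ QuotientGroup.mk p = q ∧
        (p : G)⁻¹ * ⁅a, (t : G)⁆ ∈ C := by
      intro q
      obtain ⟨⟨m, hm⟩, rfl⟩ := QuotientGroup.mk_surjective q
      obtain ⟨n₂, hn₂, p, hp, e⟩ := hN' m hm
      obtain ⟨t, ht, htc⟩ := hfill a haP haPm p hp.2
      refine ⟨⟨t, ht⟩, ⟨p, hp.1⟩, hp.2, QuotientGroup.eq.2 ?_, htc⟩
      rw [Subgroup.mem_subgroupOf]
      show p⁻¹ * m ∈ F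
      refine hN₂F ?_
      rw [e, ← mul_assoc]
      simpa using (inferInstance : N₂.Normal).conj_mem n₂ hn₂ p⁻¹
    choose tf pf hpPm hpq hpc using hsel
    have hle : F.relIndex N ≤ r := by
      show (F.subgroupOf N).index ≤ (R₀.subgroupOf R).index
      rw [Subgroup.index, Subgroup.index]
      refine Nat.card_le_card_of_injective (fun q => (QuotientGroup.mk (tf q) : R ⧸ R₀.subgroupOf R))
        fun q q' hqq => ?_
      simp only at hqq
      rw [← hpq q, ← hpq q', QuotientGroup.eq, Subgroup.mem_subgroupOf]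
      rw [QuotientGroup.eq, Subgroup.mem_subgroupOf] at hqq
      obtain ⟨d, hd, hde, -, hds⟩ := hcoset a haP _ (tf q).2 _ (tf q').2 hqq
      show ((pf q : G))⁻¹ * (pf q' : G) ∈ F
      rw [hmemF]
      intro s hs
      have hc1 := hpc q
      have hc2 := hpc q'
      set c1 := (pf q : G)⁻¹ * ⁅a, ((tf q) : G)⁆ with hc1def
      set c2 := (pf q' : G)⁻¹ * ⁅a, ((tf q') : G)⁆ with hc2def
      have e : (pf q : G)⁻¹ * (pf q' : G) = c1 * d * c2⁻¹ := by
        rw [hc1def, hc2def, hde]; group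
      have hc1P := hPmP hc1.1
      have hdP := hPmP hd
      have hz : ∀ c ∈ C, ⁅c, s⁆ = 1 := fun c hc =>
        commutatorElement_eq_one_iff_mul_comm.2 (Subgroup.mem_centralizer_iff.1 hc.2 s hs).symm
      rw [e, comm_mul_left hP.1 (mul_mem hc1P hdP) (inv_mem (hPmP hc2.1)) (hPn s),
        comm_mul_left hP.1 hc1P hdP (hPn s), hz c1 hc1, hz _ (inv_mem hc2), one_mul, mul_one]
      exact hds s hs
    have : r < r ^ 2 := by rw [pow_two]; exact (lt_mul_iff_one_lt_left (by omega)).2 (by omega)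
    omega
  -- the layer leaves `P⁻`
  set L := N₂ ⊔ (N ⊓ Pm) with hL
  have hLN : L ≤ N := sup_le hN₂ inf_le_left
  have hnotPm : ∀ e ∈ N, e ∉ L → e ∉ Pm := fun e he hel hem => hel (Subgroup.mem_sup_right ⟨he, hem⟩)
  -- `|P⁻ : H| ≤ r`, and equality gives injectivity
  have hsurj : ∀ e (he : e ∈ N), e ∉ L →
      Function.Surjective (fun q : R ⧸ R₀.subgroupOf R => (QuotientGroup.mk (⟨⁅e, ((q.out : R) : G)⁆,
        hcfg.comm (Subgroup.commutator_mem_commutator (hNP he) q.out.2)⟩ : Pm) :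
          Pm ⧸ H.subgroupOf Pm)) := by
    intro e he hel q'
    obtain ⟨⟨v, hv⟩, rfl⟩ := QuotientGroup.mk_surjective q'
    obtain ⟨t, ht, htc⟩ := hfill e (hNP he) (hnotPm e he hel) v hv
    refine ⟨QuotientGroup.mk ⟨t, ht⟩, QuotientGroup.eq.2 ?_⟩
    set t' : R := (QuotientGroup.mk (⟨t, ht⟩ : R) : R ⧸ R₀.subgroupOf R).out with ht'
    have hmk : (QuotientGroup.mk t' : R ⧸ R₀.subgroupOf R) = QuotientGroup.mk ⟨t, ht⟩ := Quotient.out_eq' _
    rw [QuotientGroup.eq, Subgroup.mem_subgroupOf] at hmk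
    obtain ⟨d, -, hde, hdH, -⟩ := hcoset e (hNP he) _ t'.2 t ht hmk
    rw [Subgroup.mem_subgroupOf]
    show (⁅e, (t' : G)⁆)⁻¹ * v ∈ H
    have e1 : (⁅e, (t' : G)⁆)⁻¹ * v = d * (v⁻¹ * ⁅e, t⁆)⁻¹ := by rw [hde]; group
    rw [e1]
    exact mul_mem (hdH he) (inv_mem (hCH htc))
  obtain ⟨e₀, he₀, he₀L⟩ := SetLike.not_le_iff_exists.1 hcase
  set hh := H.relIndex Pm with hhdef
  have hh_le : hh ≤ r := Nat.card_le_card_of_surjective _ (hsurj e₀ he₀ he₀L)
  -- `|N : L| ≤ r`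
  set k := L.relIndex N with hk
  have hk_le : k ≤ r := by
    obtain ⟨x, hx, hxH⟩ := SetLike.not_le_iff_exists.1 hout
    obtain ⟨Hy, hHHy, hHyPm, hxHy, hgen⟩ := exists_hyperplane (PGroups.elemAb_mono hP hPmP) hHPm hx hxH
    have hidx : Hy.relIndex Pm ≤ 2 := by
      have h1 := card_sup_zpowers (PGroups.elemAb_mono hP hPmP) hHyPm hx hxHy
      rw [← hgen] at h1
      have h2 := Subgroup.relIndex_mul_relIndex (⊥ : Subgroup G) Hy Pm bot_le hHyPm
      rw [Subgroup.relIndex_bot_left, Subgroup.relIndex_bot_left, h1, mul_comm 2] at h2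
      exact (Nat.eq_of_mul_eq_mul_left Nat.card_pos h2).le
    refine pairing_le hP hNP hHyPm hidx (fun t _ => hPn t)
      (fun v hv t ht => hcfg.comm (Subgroup.commutator_mem_commutator (hNP hv) ht))
      (fun d hd t ht => hHHy (hCH (hquad d hd t ht))) hR₀R (fun v hv t ht => hHHy (Subgroup.mem_sup_right
        ⟨hNT' v hv t ht, hcfg.comm (Subgroup.commutator_mem_commutator (hNP hv) (hR₀R ht))⟩))
      fun v hv hall => ?_
    by_contra hvL
    obtain ⟨t, ht, htc⟩ := hfill v (hNP hv) (hnotPm v hv hvL) x hx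
    refine hxHy ?_
    have e : x = ⁅v, t⁆ * (x⁻¹ * ⁅v, t⁆)⁻¹ := by group
    rw [e]
    exact mul_mem (hall t ht) (inv_mem (hHHy (hCH htc)))
  -- `x ≤ k h`
  have hxkh : F.relIndex N ≤ k * hh := by
    have h1 := Subgroup.relIndex_mul_relIndex (N₂ ⊔ (N ⊓ H)) L N (sup_le le_sup_left
      ((inf_le_inf_left N hHPm).trans le_sup_right)) hLN
    have h2 : (N₂ ⊔ (N ⊓ H)).relIndex L ≤ hh := by
      set Kπ := (N ⊓ H).map π
      have e : N₂ ⊔ (N ⊓ H) = Kπ.comap π := by rw [Subgroup.comap_map_eq, QuotientGroup.ker_mk', sup_comm]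
      have e2 : L.map π = (N ⊓ Pm).map π := by
        rw [hL, Subgroup.map_sup, show N₂.map π = ⊥ by rw [Subgroup.map_eq_bot_iff, QuotientGroup.ker_mk'],
          bot_sup_eq]
      rw [e, Subgroup.relIndex_comap, e2, ← Subgroup.relIndex_comap, ← e]
      calc (N₂ ⊔ (N ⊓ H)).relIndex (N ⊓ Pm) ≤ (N ⊓ H).relIndex (N ⊓ Pm) :=
            Subgroup.relIndex_le_of_le_left le_sup_right Subgroup.index_ne_zero_of_finite
        _ = H.relIndex (N ⊓ Pm) := by
            conv_rhs => rw [← Subgroup.inf_relIndex_right]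
            conv_lhs => rw [← Subgroup.inf_relIndex_right]
            congr 1
            exact le_antisymm (inf_le_inf_right _ inf_le_right) fun z hz => ⟨⟨hz.2.1, hz.1⟩, hz.2⟩
        _ ≤ _ := Subgroup.relIndex_le_of_le_right inf_le_right Subgroup.index_ne_zero_of_finite
    calc F.relIndex N ≤ (N₂ ⊔ (N ⊓ H)).relIndex N :=
          Subgroup.relIndex_le_of_le_left (sup_le hN₂F hHF) Subgroup.index_ne_zero_of_finite
      _ ≤ _ := by rw [← h1, mul_comm]; exact Nat.mul_le_mul_left _ h2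
  have hrr : r * r ≤ k * hh := by rw [← pow_two]; exact hsq.trans hxkh
  have hheq : hh = r := le_antisymm hh_le (by
    by_contra hlt
    push Not at hlt
    have := Nat.mul_le_mul hk_le (le_refl hh)
    have h2 : r * hh < r * r := Nat.mul_lt_mul_of_pos_left hlt (by omega)
    omega)
  have hkeq : k = r := le_antisymm hk_le (by
    by_contra hlt
    push Not at hlt
    rw [hheq] at hrr
    have h2 : k * r < r * r := Nat.mul_lt_mul_of_pos_right hlt (by omega)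
    omega)
  -- `t ↦ [e, t]` is injective on `R/R₀`
  have hinj : ∀ e ∈ N, e ∉ L → ∀ t ∈ R, ⁅e, t⁆ ∈ H → t ∈ R₀ := by
    intro e he hel t ht hmem
    have hb : Function.Bijective (fun q : R ⧸ R₀.subgroupOf R => (QuotientGroup.mk (⟨⁅e, ((q.out : R) : G)⁆,
        hcfg.comm (Subgroup.commutator_mem_commutator (hNP he) q.out.2)⟩ : Pm) :
          Pm ⧸ H.subgroupOf Pm)) :=
      (Nat.bijective_iff_surjective_and_card _).2 ⟨hsurj e he hel, hheq.symm⟩
    have hval : ∀ t' : R, ⁅e, (t' : G)⁆ ∈ H →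
        (QuotientGroup.mk t' : R ⧸ R₀.subgroupOf R) = QuotientGroup.mk 1 := by
      intro t' ht'
      refine hb.injective ?_
      have hs : ∀ z : R, ⁅e, (z : G)⁆ ∈ H →
          ⁅e, (((QuotientGroup.mk z : R ⧸ R₀.subgroupOf R).out : R) : G)⁆ ∈ H := by
        intro z hz
        have hmk : (QuotientGroup.mk ((QuotientGroup.mk z : R ⧸ R₀.subgroupOf R).out) : R ⧸ R₀.subgroupOf R) =
            QuotientGroup.mk z := Quotient.out_eq' _
        rw [eq_comm, QuotientGroup.eq, Subgroup.mem_subgroupOf] at hmk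
        obtain ⟨d, -, hde, hdH, -⟩ := hcoset e (hNP he) _ z.2 _ (SetLike.coe_mem _) hmk
        rw [hde]
        exact mul_mem hz (hdH he)
      rw [QuotientGroup.eq, Subgroup.mem_subgroupOf]
      exact mul_mem (inv_mem (hs t' ht'))
        (hs 1 (by rw [Subgroup.coe_one, commutatorElement_one_right]; exact one_mem _))
    have := hval ⟨t, ht⟩ hmem
    rw [eq_comm, QuotientGroup.eq, inv_one, one_mul, Subgroup.mem_subgroupOf] at this
    exact this
  -- every element of `N ∩ P⁻` is centralised by `R` modulo `N₂`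
  have hNPF : N ⊓ Pm ≤ F := by
    rintro p ⟨hpN, hpPm⟩
    rw [hmemF]
    intro t ht
    by_cases htR₀ : t ∈ R₀
    · exact hNT' p hpN t htR₀
    have hφ : ∀ q : N ⧸ L.subgroupOf N, ⁅((q.out : N) : G), t⁆ ∈ Pm := fun q =>
      hcfg.comm (Subgroup.commutator_mem_commutator (hNP q.out.2) ht)
    have hLt : ∀ l ∈ L, ⁅l, t⁆ ∈ H := by
      intro l hl
      obtain ⟨n₂, hn₂, w, hw, rfl⟩ := Subgroup.mem_sup_of_normal_left.mp hl
      rw [comm_mul_left hP.1 (hNP (hN₂ hn₂)) (hPmP hw.2) (hPn t)]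
      refine mul_mem (Subgroup.mem_sup_right ⟨?_, hcfg.comm (Subgroup.commutator_mem_commutator
        (hNP (hN₂ hn₂)) ht)⟩) (hCH (hquad w hw.2 t ht))
      rw [commutatorElement_def, mul_assoc n₂ t, mul_assoc n₂]
      exact mul_mem hn₂ ((inferInstance : N₂.Normal).conj_mem _ (inv_mem hn₂) t)
    have hg : Function.Bijective (fun q : N ⧸ L.subgroupOf N =>
        (QuotientGroup.mk (⟨_, hφ q⟩ : Pm) : Pm ⧸ H.subgroupOf Pm)) := by
      refine (Nat.bijective_iff_injective_and_card _).2 ⟨fun q q' hqq => ?_, hkeq.trans hheq.symm⟩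
      simp only at hqq
      rw [QuotientGroup.eq, Subgroup.mem_subgroupOf] at hqq
      rw [← Quotient.out_eq' q, ← Quotient.out_eq' q']
      refine QuotientGroup.eq.2 (Subgroup.mem_subgroupOf.2 ?_)
      by_contra hnot
      refine htR₀ (hinj _ (Subtype.coe_prop _) hnot t ht ?_)
      have e : ⁅((q.out : N) : G)⁻¹ * ((q'.out : N) : G), t⁆ =
          (⁅((q.out : N) : G), t⁆)⁻¹ * ⁅((q'.out : N) : G), t⁆ := by
        rw [eq_inv_mul_iff_mul_eq, ← comm_mul_left hP.1 (hNP q.out.2)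
          (mul_mem (inv_mem (hNP q.out.2)) (hNP q'.out.2)) (hPn t), mul_inv_cancel_left]
      rw [Subgroup.coe_mul, Subgroup.coe_inv, e]
      exact hqq
    obtain ⟨q, hq⟩ := hg.surjective (QuotientGroup.mk ⟨p, hpPm⟩)
    simp only at hq
    rw [QuotientGroup.eq, Subgroup.mem_subgroupOf] at hq
    set m := ((q.out : N) : G)
    set z := (⁅m, t⁆)⁻¹ * p with hz
    have hzN : z ∈ N ⊓ H := by
      have hmN : m ∈ N := q.out.2
      have hmt : ⁅m, t⁆ ∈ N := by
        rw [commutatorElement_def, mul_assoc m t, mul_assoc m]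
        exact mul_mem hmN ((inferInstance : N.Normal).conj_mem _ (inv_mem hmN) t)
      exact ⟨N.mul_mem (N.inv_mem hmt) hpN, hq⟩
    have e : p = ⁅m, t⁆ * z := by rw [hz, mul_inv_cancel_left]
    rw [e, comm_mul_left hP.1 (hPmP (hφ q)) (hNP hzN.1) (hPn t),
      comm_comm_self hP (hNP q.out.2) (hPn t) (by rw [← pow_two]; exact hR.2 t ht), one_mul]
    exact (hmemF z).1 (hHF hzN) t ht
  have : F.relIndex N ≤ k :=
    Subgroup.relIndex_le_of_le_left (sup_le hN₂F hNPF) Subgroup.index_ne_zero_of_finite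
  have h2 : r < r ^ 2 := by rw [pow_two]; exact (lt_mul_iff_one_lt_left (by omega)).2 (by omega)
  omega

end Cfsg.Agent.Lib.Stellmacher55
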