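import Cfsg.Agent.Lib.Stellmacher55.Basic

/-!
# A Sylow 2-subgroup in a unique maximal subgroup

A normal subgroup below the maximal subgroup meets the Sylow subgroup in `O₂`; one outside contains every
element of odd order.

Owner: helper55.
-/

set_option autoImplicit false
set_option linter.style.haveILetI false
set_option linter.unusedSectionVars false

namespace Cfsg.Agent.Lib.Stellmacher55

open Subgroup PLocal

universe u

variable {G : Type u} [Group G] [Finite G] {S : Sylow 2 G} {M : Subgroup G}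

theorem Cfg.le_of_ne_top (c : Cfg S M) {H : Subgroup G} (hS : (S : Subgroup G) ≤ H) (hne : H ≠ ⊤) : H ≤ M :=
  c.max H hS hne

/-- A normal subgroup outside `M` supplements `S`. -/
theorem Cfg.sup_eq_top (c : Cfg S M) {C : Subgroup G} (hC : ¬ C ≤ M) : C ⊔ (S : Subgroup G) = ⊤ := by
  by_contra hne
  exact hC (le_sup_left.trans (c.max _ le_sup_right hne))

/-- A normal subgroup inside `M` meets `S` in `O₂(G)`. -/
theorem Cfg.inf_le_pCore (c : Cfg S M) {C : Subgroup G} [C.Normal] (hC : C ≤ M) :
    (S : Subgroup G) ⊓ C ≤ Cfsg.pCore 2 G := by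
  haveI : Fact (Nat.Prime 2) := ⟨Nat.prime_two⟩
  set T := (S : Subgroup G) ⊓ C
  have hN : normalizer (T : Set G) = ⊤ := by
    by_contra hne
    have hS : (S : Subgroup G) ≤ normalizer (T : Set G) := by
      intro s hs
      refine mem_normalizer_iff.mpr fun x => and_congr ?_ ?_
      · exact mem_normalizer_iff.mp (Subgroup.le_normalizer hs) x
      · exact mem_normalizer_iff.mp ((normalizer_eq_top (H := C)).ge (mem_top s)) x
    refine c.ne (top_le_iff.mp ?_)
    rw [← normalizer_inf_sup_eq_top S C]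
    exact sup_le (c.max _ hS hne) hC
  haveI : T.Normal := normalizer_eq_top_iff.mp hN
  exact Cores.le_pCore (S.2.to_le inf_le_left)

/-- A normal subgroup outside `M` contains every element of odd order. -/
theorem Cfg.odd_mem (c : Cfg S M) {C : Subgroup G} [C.Normal] (hC : ¬ C ≤ M) {x : G}
    (hx : Odd (orderOf x)) : x ∈ C := by
  have hx' : x ∈ C ⊔ (S : Subgroup G) := by rw [c.sup_eq_top hC]; trivial
  rw [← SetLike.mem_coe, Subgroup.normal_mul] at hx'
  obtain ⟨c', hc, s, hs, rfl⟩ := hx'
  obtain ⟨j, hj⟩ := S.2 ⟨s, hs⟩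
  refine (QuotientGroup.eq_one_iff _).mp (orderOf_eq_one_iff.mp ?_)
  refine Nat.eq_one_of_dvd_coprimes ((Nat.coprime_two_right.mpr hx).pow_right j)
    (orderOf_map_dvd (QuotientGroup.mk' C) (c' * s)) ?_
  have h1 : ((c' * s : G) : G ⧸ C) = (s : G ⧸ C) := by
    rw [QuotientGroup.mk_mul, (QuotientGroup.eq_one_iff c').mpr hc, one_mul]
  change orderOf ((c' * s : G) : G ⧸ C) ∣ 2 ^ j
  rw [h1]
  refine orderOf_dvd_of_pow_eq_one ?_
  rw [← QuotientGroup.mk_pow, show s ^ 2 ^ j = 1 from congrArg Subtype.val hj, QuotientGroup.mk_one]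

/-- `O₂(G)` lies in the Sylow subgroup. -/
theorem pCore_le (S : Sylow 2 G) : Cfsg.pCore 2 G ≤ (S : Subgroup G) :=
  haveI : Fact (Nat.Prime 2) := ⟨Nat.prime_two⟩
  Cores.pCore_le_sylow S

/-- The centraliser of the normal closure of an `S`-invariant subgroup lies in `M` unless it is normal. -/
theorem Cfg.centralizer_le (c : Cfg S M) {Y : Subgroup G} (hY : (S : Subgroup G) ≤ normalizer (Y : Set G))
    (hn : normalizer (Y : Set G) ≠ ⊤) :
    centralizer (normalClosure (Y : Set G) : Set G) ≤ M :=
  (Subgroup.centralizer_le (fun _ hy => subset_normalClosure hy)).trans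
    ((Subgroup.centralizer_le_normalizer _).trans (c.max _ hY hn))

end Cfsg.Agent.Lib.Stellmacher55
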