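import Cfsg.Agent.Lib.Stellmacher55.PairsBasic
import Cfsg.Agent.Lib.Stellmacher18.Row1999

/-!
# Pairs in `G` from pairs in `G/O₂(G)`

Owner: helper55.
-/

set_option autoImplicit false
set_option linter.style.haveILetI false
set_option linter.unusedSectionVars false

namespace Cfsg.Agent.Lib.Stellmacher55

open Subgroup PLocal
open scoped commutatorElement

universe u

/-- Pairs outside the maximal subgroup in `G/O₂(G)`. -/
def YPropOut : Prop :=
  ∀ (Y : Type u) [Group Y] [Finite Y] (S : Sylow 2 Y) (M : Subgroup Y), Red S M →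
    ∀ A : Subgroup Y, A ≤ (S : Subgroup Y) → Cfsg.IsElementaryAbelian 2 A → A ≠ ⊥ →
      ∃ (B : Subgroup Y) (a x k : Y) (p : ℕ), YPair A B a x k p ∧ k ∉ M

/-- Pairs with the clause in `G/O₂(G)`. -/
def YPropClause : Prop :=
  ∀ (Y : Type u) [Group Y] [Finite Y] (S : Sylow 2 Y) (M : Subgroup Y), Red S M →
    ∀ A : Subgroup Y, A ≤ (S : Subgroup Y) → Cfsg.IsElementaryAbelian 2 A → A ≠ ⊥ →
      (∀ g ∈ normalizer ((S : Subgroup Y) : Set Y), A.map (MulAut.conj g).toMonoidHom = A) →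
      ∃ (B : Subgroup Y) (a x k : Y) (p : ℕ), YPair A B a x k p ∧
        ∀ e ∈ A, e ∉ B → k ∈ zpowers e ⊔ A.map (MulAut.conj k).toMonoidHom

variable {G : Type u} [Group G] [Finite G]

/-- The image of `M` and of `S` in `G/O₂(G)`. -/
theorem red_quotient {S : Sylow 2 G} {M : Subgroup G} (c : Cfg S M) :
    ∃ S' : Sylow 2 (G ⧸ Cfsg.pCore 2 G),
      (S' : Subgroup (G ⧸ Cfsg.pCore 2 G)) = (S : Subgroup G).map (QuotientGroup.mk' _) ∧
      Red S' (M.map (QuotientGroup.mk' (Cfsg.pCore 2 G))) := by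
  haveI : Fact (Nat.Prime 2) := ⟨Nat.prime_two⟩
  set T := Cfsg.pCore 2 G with hT
  set π := QuotientGroup.mk' T
  have hπ : Function.Surjective π := QuotientGroup.mk'_surjective T
  refine ⟨S.mapSurjective hπ, rfl, ⟨Cores.pCore_quotient_pCore 2, ?_, Subgroup.map_mono c.le, ?_, ?_⟩⟩
  · intro h
    have h3 : Cfsg.Involves (Equiv.Perm (Fin 3)) G :=
      Transfer.InvolvesS4.involves_of_surjective π hπ h
    refine c.free ((Cfsg.Agent.S2759.result).2 ⟨T, Cores.pCore_isPGroup 2, ?_⟩)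
    set N := normalizer (T : Set G) with hN
    let f : G →* ↥N ⧸ (centralizer (T : Set G)).subgroupOf N :=
      (QuotientGroup.mk' _).comp ((MonoidHom.id G).codRestrict N fun g => by
        rw [hN, normalizer_eq_top]; trivial)
    have hker : IsPGroup 2 f.ker := (Cores.pCore_isPGroup (G := G) 2).to_le fun g hg => c.c2
      (Subgroup.mem_subgroupOf.1 ((QuotientGroup.eq_one_iff _).1 hg))
    by_contra hq
    exact Stellmacher18.not_involves_of_kernel f hker hq h3
  · intro h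
    refine c.ne (eq_top_iff.2 ?_)
    have h1 := congrArg (Subgroup.comap π) h
    rw [Subgroup.comap_map_eq, QuotientGroup.ker_mk', sup_eq_left.2 ((pCore_le S).trans c.le),
      Subgroup.comap_top] at h1
    exact h1.ge
  · intro H hS hne
    rw [← Subgroup.map_comap_eq_self_of_surjective hπ H]
    refine Subgroup.map_mono (c.max _ (fun s hs => hS ⟨s, hs, rfl⟩) fun h => hne ?_)
    rw [← Subgroup.map_comap_eq_self_of_surjective hπ H, h, Subgroup.map_top_of_surjective π hπ]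

/-- Lifting a pair. -/
theorem lift_pair {R B' : Subgroup G} {B : Subgroup (G ⧸ Cfsg.pCore 2 G)}
    {a x k : G ⧸ Cfsg.pCore 2 G} {p : ℕ}
    (hA : Cfsg.IsElementaryAbelian 2 (R.map (QuotientGroup.mk' (Cfsg.pCore 2 G))))
    (hp : YPair (R.map (QuotientGroup.mk' (Cfsg.pCore 2 G))) B a x k p)
    (hB' : B' = R ⊓ B.comap (QuotientGroup.mk' _)) :
    ∃ (a' h' k' : G), PairIn (Cfsg.pCore 2 G) R B' a' h' k' p ∧
      QuotientGroup.mk' (Cfsg.pCore 2 G) k' = k := by
  set π := QuotientGroup.mk' (Cfsg.pCore 2 G)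
  obtain ⟨a', ha', hae⟩ := hp.mem
  obtain ⟨h', hhe⟩ := QuotientGroup.mk'_surjective (Cfsg.pCore 2 G) x
  obtain ⟨j, hj⟩ := hp.zpow
  obtain ⟨i, hi⟩ := hp.pow
  haveI : Fact p.Prime := ⟨hp.prime⟩
  set z := ⁅a', h'⁆ ^ j with hz
  have hze : π z = k := by rw [hz, map_zpow, map_commutatorElement, hae, hhe]; exact hj
  obtain ⟨k', r, hk', hr, hmul, -, ⟨l, hl⟩, hro⟩ :=
    Lib.Transfer.PResidual.exists_pPart_mul_pPrimePart (p := p) z (isOfFinOrder_of_finite z)
  have hke : π k' = k := by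
    have h1 : π r = 1 := by
      have h2 : orderOf (π r) ∣ p ^ i := by
        rw [← hi]
        refine orderOf_dvd_of_mem_zpowers ?_
        rw [← hze]
        obtain ⟨e, he⟩ := hr
        exact ⟨e, by rw [← he]; exact (map_zpow π z e).symm⟩
      exact orderOf_eq_one_iff.1 (Nat.eq_one_of_dvd_coprimes
        (Nat.Coprime.pow_right i hro) (orderOf_map_dvd π r) h2)
    rw [← hze, ← hmul, map_mul, h1, mul_one]
  refine ⟨a', h', k', ⟨hB' ▸ inf_le_left, ?_, ha', ?_, hp.prime, hp.ne_two, ?_, ?_, ?_, ?_, ?_⟩, hke⟩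
  · rw [hB']
    refine le_inf inf_le_left fun t ht => ?_
    show π t ∈ B
    rw [show π t = 1 from (QuotientGroup.eq_one_iff t).2 ht.2]
    exact B.one_mem
  · rw [hB']
    exact fun h => hp.not_mem (hae ▸ h.2)
  · obtain ⟨l', -, hl'⟩ := (Nat.dvd_prime_pow hp.prime).1 (orderOf_dvd_of_pow_eq_one hl)
    exact ⟨l', hl'⟩
  · exact (zpowers_le.2 (zpow_mem (mem_zpowers _) j)) hk'
  · intro h
    exact hp.ne_one (hke ▸ (QuotientGroup.eq_one_iff k').2 h)
  · intro b hb
    rw [hB'] at hb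
    refine (QuotientGroup.eq_one_iff _).1 ?_
    rw [← QuotientGroup.mk'_apply, map_commutatorElement, commutatorElement_eq_one_iff_mul_comm]
    show π b * π k' = π k' * π b
    rw [hke]
    exact hp.comm hA hb.2
  · have e : B'.relIndex R = B.relIndex (R.map π) := by
      rw [hB', Subgroup.inf_relIndex_left, Subgroup.relIndex_comap]
    rw [e]; exact hp.size

/-- The image of `R` in `G/O₂(G)`. -/
theorem image_props {S : Sylow 2 G} {R : Subgroup G} (hRS : R ≤ (S : Subgroup G))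
    (h1 : ∀ a ∈ R, ∀ b ∈ R, ⁅a, b⁆ ∈ Cfsg.pCore 2 G) (h2 : ∀ a ∈ R, a * a ∈ Cfsg.pCore 2 G)
    (hne : ¬ R ≤ Cfsg.pCore 2 G) :
    Cfsg.IsElementaryAbelian 2 (R.map (QuotientGroup.mk' (Cfsg.pCore 2 G))) ∧
      R.map (QuotientGroup.mk' (Cfsg.pCore 2 G)) ≤ (S : Subgroup G).map (QuotientGroup.mk' _) ∧
      R.map (QuotientGroup.mk' (Cfsg.pCore 2 G)) ≠ ⊥ := by
  refine ⟨PGroups.elemAb_mk ?_ ?_, Subgroup.map_mono hRS, fun h => hne ?_⟩
  · rintro _ ⟨a, ha, rfl⟩ _ ⟨b, hb, rfl⟩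
    rw [← commutatorElement_eq_one_iff_mul_comm, ← map_commutatorElement, QuotientGroup.mk'_apply,
      QuotientGroup.eq_one_iff]
    exact h1 a ha b hb
  · rintro _ ⟨a, ha, rfl⟩
    rw [pow_two, ← map_mul, QuotientGroup.mk'_apply, QuotientGroup.eq_one_iff]
    exact h2 a ha
  · rwa [Subgroup.map_eq_bot_iff, QuotientGroup.ker_mk'] at h

theorem propPairOut_of (h : YPropOut.{u}) : PropPairOut.{u} := by
  intro G _ _ S M c R hRS h1 h2 hne
  obtain ⟨S', hS', hr⟩ := red_quotient c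
  obtain ⟨hA, hAS, hA1⟩ := image_props hRS h1 h2 hne
  obtain ⟨B, a, x, k, p, hp, hk⟩ := h _ S' _ hr _ (hS'.symm ▸ hAS) hA hA1
  obtain ⟨a', h', k', hp', hke⟩ := lift_pair hA hp rfl
  exact ⟨_, a', h', k', p, hp', fun hM => hk ⟨k', hM, hke⟩⟩

theorem propPairClause_of (h : YPropClause.{u}) : PropPairClause.{u} := by
  intro G _ _ S M c R hRS hel hinv hne
  set T := Cfsg.pCore 2 G with hT
  set π := QuotientGroup.mk' T
  obtain ⟨S', hS', hr⟩ := red_quotient c
  obtain ⟨hA, hAS, hA1⟩ := image_props hRS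
    (fun a ha b hb => by
      rw [commutatorElement_eq_one_iff_mul_comm.2 (PGroups.elemAb_comm hel ha hb)]; exact one_mem _)
    (fun a ha => by rw [← pow_two, hel.2 a ha]; exact one_mem _) hne
  have hinv' : ∀ g ∈ normalizer ((S' : Subgroup (G ⧸ T)) : Set (G ⧸ T)),
      (R.map π).map (MulAut.conj g).toMonoidHom = R.map π := by
    intro g hg
    obtain ⟨g', rfl⟩ := QuotientGroup.mk'_surjective T g
    have hg' : g' ∈ normalizer ((S : Subgroup G) : Set G) := by
      have hmem : ∀ z : G, π z ∈ (S' : Subgroup (G ⧸ T)) ↔ z ∈ (S : Subgroup G) := fun z => by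
        rw [hS', ← Subgroup.mem_comap, Subgroup.comap_map_eq, QuotientGroup.ker_mk', sup_eq_left.2 (pCore_le S)]
      refine mem_normalizer_iff.2 fun z => ?_
      rw [← hmem, ← hmem, map_mul, map_mul, map_inv]
      exact mem_normalizer_iff.1 hg (π z)
    calc (R.map π).map (MulAut.conj (π g')).toMonoidHom
        = (R.map (MulAut.conj g').toMonoidHom).map π := by
          rw [Subgroup.map_map, Subgroup.map_map]
          congr 1
      _ = R.map π := by rw [hinv g' hg']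
  obtain ⟨B, a, x, k, p, hp, hcl⟩ := h _ S' _ hr _ (hS'.symm ▸ hAS) hA hA1 hinv'
  obtain ⟨a', h', k', hp', hke⟩ := lift_pair hA hp rfl
  refine ⟨_, a', h', k', p, hp', fun e he heB => ?_⟩
  have h1 := hcl (π e) ⟨e, he, rfl⟩ fun hB => heB ⟨he, hB⟩
  have h2 : k ∈ (zpowers e ⊔ R.map (MulAut.conj k').toMonoidHom).map π := by
    rw [Subgroup.map_sup, MonoidHom.map_zpowers]
    convert h1 using 3
    rw [Subgroup.map_map, Subgroup.map_map, ← hke]
    congr 1
  obtain ⟨k'', hk'', hke'⟩ := h2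
  exact ⟨k'', hk'', QuotientGroup.eq.1 (hke'.trans hke.symm)⟩

end Cfsg.Agent.Lib.Stellmacher55
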