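import Cfsg.Agent.Lib.Stellmacher55.PairsClauseSemi
import Cfsg.Agent.Lib.Stellmacher55.PairsLift
import Cfsg.Agent.Lib.PLocal.PPrimeQuotient

/-!
# The two pair properties from the classification of simple groups without a section `Sym(3)`

The odd core outside `M` gives the pair; otherwise the pair is lifted from the quotient by the odd core.

Owner: helper55.
-/

set_option autoImplicit false
set_option linter.style.haveILetI false
set_option linter.unusedSectionVars false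

namespace Cfsg.Agent.Lib.Stellmacher55

open Subgroup PLocal
open scoped commutatorElement

universe u

variable {Y : Type u} [Group Y] [Finite Y] {S : Sylow 2 Y} {M : Subgroup Y}

theorem odd_card_core : Odd (Nat.card (Cfsg.pPrimeCore 2 Y)) :=
  Nat.coprime_two_right.1 (Cores.pPrimeCore_coprime (G := Y) 2)

/-- The quotient by the odd core inside `M`. -/
theorem Red.semi_quotient (r : Red S M) (hK : Cfsg.pPrimeCore 2 Y ≤ M) :
    ∃ S' : Sylow 2 (Y ⧸ Cfsg.pPrimeCore 2 Y),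
      (S' : Subgroup (Y ⧸ Cfsg.pPrimeCore 2 Y)) = (S : Subgroup Y).map (QuotientGroup.mk' _) ∧
      Semi S' (M.map (QuotientGroup.mk' (Cfsg.pPrimeCore 2 Y))) := by
  haveI : Fact (Nat.Prime 2) := ⟨Nat.prime_two⟩
  set K := Cfsg.pPrimeCore 2 Y
  set π := QuotientGroup.mk' K
  have hπ : Function.Surjective π := QuotientGroup.mk'_surjective K
  have hcomap : (M.map π).comap π = M := by
    rw [Subgroup.comap_map_eq, QuotientGroup.ker_mk', sup_eq_left.2 hK]
  refine ⟨S.mapSurjective hπ, rfl, ⟨⟨?_, ?_, Subgroup.map_mono r.le, ?_, ?_⟩,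
    Cores.pPrimeCore_quotient_pPrimeCore 2⟩⟩
  · set T := Cfsg.pCore 2 (Y ⧸ K)
    have hTS : T ≤ (S : Subgroup Y).map π := pCore_le (S.mapSurjective hπ)
    set P := T.comap π with hP
    have hPM : P ≤ M := by
      rw [← hcomap]
      exact Subgroup.comap_mono (hTS.trans (Subgroup.map_mono r.le))
    have h1 : T ≤ ((S : Subgroup Y) ⊓ P).map π := by
      intro t ht
      obtain ⟨s, hs, rfl⟩ := hTS ht
      exact ⟨s, ⟨hs, ht⟩, rfl⟩
    haveI : P.Normal := (inferInstance : T.Normal).comap π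
    rw [r.inf_eq_bot hPM, Subgroup.map_bot] at h1
    exact le_bot_iff.1 h1
  · exact fun h => r.free (Transfer.InvolvesS4.involves_of_surjective π hπ h)
  · intro h
    refine r.ne ?_
    rw [← hcomap, h, Subgroup.comap_top]
  · intro H hS hne
    rw [← Subgroup.map_comap_eq_self_of_surjective hπ H]
    refine Subgroup.map_mono (r.max _ (fun s hs => hS ⟨s, hs, rfl⟩) fun h => hne ?_)
    rw [← Subgroup.map_comap_eq_self_of_surjective hπ H, h, Subgroup.map_top_of_surjective π hπ]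

/-- The image of a subgroup of `S` in the quotient by the odd core. -/
theorem image_core_props {A : Subgroup Y} (hAS : A ≤ (S : Subgroup Y))
    (hA : Cfsg.IsElementaryAbelian 2 A) (hne : A ≠ ⊥) :
    Cfsg.IsElementaryAbelian 2 (A.map (QuotientGroup.mk' (Cfsg.pPrimeCore 2 Y))) ∧
      A.map (QuotientGroup.mk' (Cfsg.pPrimeCore 2 Y)) ≤ (S : Subgroup Y).map (QuotientGroup.mk' _) ∧
      A.map (QuotientGroup.mk' (Cfsg.pPrimeCore 2 Y)) ≠ ⊥ := by
  haveI : Fact (Nat.Prime 2) := ⟨Nat.prime_two⟩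
  refine ⟨PGroups.elemAb_map _ hA, Subgroup.map_mono hAS, fun h => hne ?_⟩
  have hinj := PLocal.comp_subtype_injective_of_coprime (p := 2) (Cores.pPrimeCore_coprime (G := Y) 2)
    (S.2.to_le hAS)
  refine (Subgroup.eq_bot_iff_forall _).2 fun a ha => congrArg Subtype.val
    (hinj (a₁ := (⟨a, ha⟩ : A)) (a₂ := 1) ?_)
  rw [map_one]
  exact Subgroup.mem_bot.1 (h ▸ mem_map_of_mem _ ha)

/-- Lifting a pair through the odd core. -/
theorem lift_core {A D : Subgroup Y} (hA : Cfsg.IsElementaryAbelian 2 A) (hAD : A ≤ normalizer (D : Set Y))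
    {B : Subgroup (Y ⧸ Cfsg.pPrimeCore 2 Y)} {a x k : Y ⧸ Cfsg.pPrimeCore 2 Y} {p : ℕ}
    (h : YPair (A.map (QuotientGroup.mk' (Cfsg.pPrimeCore 2 Y))) B a x k p)
    (hxD : x ∈ D.map (QuotientGroup.mk' (Cfsg.pPrimeCore 2 Y))) :
    ∃ (a' x' k' : Y), YPair A (A ⊓ B.comap (QuotientGroup.mk' _)) a' x' k' p ∧ k' ∈ D ∧
      QuotientGroup.mk' (Cfsg.pPrimeCore 2 Y) k' = k := by
  classical
  haveI : Fact (Nat.Prime 2) := ⟨Nat.prime_two⟩
  haveI : Fact p.Prime := ⟨h.prime⟩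
  set B' := A ⊓ B.comap (QuotientGroup.mk' (Cfsg.pPrimeCore 2 Y)) with hB'
  have hB'2 : IsPGroup 2 B' := (PGroups.elemAb_isPGroup hA).to_le inf_le_left
  let Φ := {z : Y // z ∈ D ∧ (QuotientGroup.mk' (Cfsg.pPrimeCore 2 Y)) z = x}
  obtain ⟨x₀, hx₀D, hx₀⟩ := hxD
  have hmem : ∀ (b : B') (z : Φ), (b : Y) * z * (b : Y)⁻¹ ∈ D ∧ (QuotientGroup.mk' (Cfsg.pPrimeCore 2 Y)) ((b : Y) * z * (b : Y)⁻¹) = x := by
    intro b z
    refine ⟨(mem_normalizer_iff.1 (hAD b.2.1) _).1 z.2.1, ?_⟩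
    rw [map_mul, map_mul, map_inv, z.2.2, mem_centralizer_iff.1 h.cent _ b.2.2, mul_inv_cancel_right]
  letI : MulAction B' Φ :=
    { smul := fun b z => ⟨_, hmem b z⟩
      one_smul := fun z => Subtype.ext (show (1 : Y) * z * (1 : Y)⁻¹ = z by simp)
      mul_smul := fun b c z => Subtype.ext (show ((b : Y) * c) * z * ((b : Y) * c)⁻¹ =
        (b : Y) * ((c : Y) * z * (c : Y)⁻¹) * (b : Y)⁻¹ by group) }
  have hcard : Nat.card Φ = Nat.card ↥((Cfsg.pPrimeCore 2 Y) ⊓ D) := Nat.card_congr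
    { toFun := fun z => ⟨x₀⁻¹ * z, QuotientGroup.eq.1 (hx₀.trans z.2.2.symm),
        D.mul_mem (D.inv_mem hx₀D) z.2.1⟩
      invFun := fun n => ⟨x₀ * n, D.mul_mem hx₀D n.2.2, by
        rw [map_mul, hx₀, show (QuotientGroup.mk' (Cfsg.pPrimeCore 2 Y)) (n : Y) = 1 from (QuotientGroup.eq_one_iff _).2 n.2.1, mul_one]⟩
      left_inv := fun z => Subtype.ext (mul_inv_cancel_left x₀ z.1)
      right_inv := fun n => Subtype.ext (inv_mul_cancel_left x₀ n.1) }
  obtain ⟨⟨x', hx'D, hx'⟩, hfix⟩ := hB'2.nonempty_fixed_point_of_prime_not_dvd_card Φ (by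
    rw [hcard]
    intro h2
    exact (Nat.not_even_iff_odd.2 odd_card_core) (even_iff_two_dvd.2
      (h2.trans (Subgroup.card_dvd_of_le inf_le_left))))
  have hcent : x' ∈ centralizer (B' : Set Y) := mem_centralizer_iff.2 fun b hb =>
    mul_inv_eq_iff_eq_mul.1 (congrArg Subtype.val (hfix ⟨b, hb⟩))
  obtain ⟨a', ha', hae⟩ := h.mem
  obtain ⟨j, hj⟩ := h.zpow
  obtain ⟨i, hi⟩ := h.pow
  set z := ⁅a', x'⁆ ^ j with hz
  have hze : (QuotientGroup.mk' (Cfsg.pPrimeCore 2 Y)) z = k := by rw [hz, map_zpow, map_commutatorElement, hae, hx']; exact hj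
  obtain ⟨k', t, hk', ht, hmul, -, ⟨l, hl⟩, hto⟩ :=
    Lib.Transfer.PResidual.exists_pPart_mul_pPrimePart (p := p) z (isOfFinOrder_of_finite z)
  have hke : (QuotientGroup.mk' (Cfsg.pPrimeCore 2 Y)) k' = k := by
    have h1 : (QuotientGroup.mk' (Cfsg.pPrimeCore 2 Y)) t = 1 := by
      have h2 : orderOf ((QuotientGroup.mk' (Cfsg.pPrimeCore 2 Y)) t) ∣ p ^ i := by
        rw [← hi]
        refine orderOf_dvd_of_mem_zpowers ?_
        rw [← hze]
        obtain ⟨e, he⟩ := ht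
        exact ⟨e, by rw [← he]; exact (map_zpow (QuotientGroup.mk' (Cfsg.pPrimeCore 2 Y)) z e).symm⟩
      exact orderOf_eq_one_iff.1 (Nat.eq_one_of_dvd_coprimes
        (Nat.Coprime.pow_right i hto) (orderOf_map_dvd (QuotientGroup.mk' (Cfsg.pPrimeCore 2 Y)) t) h2)
    rw [← hze, ← hmul, map_mul, h1, mul_one]
  have haxD : ⁅a', x'⁆ ∈ D := by
    rw [commutatorElement_def]
    exact D.mul_mem ((mem_normalizer_iff.1 (hAD ha') _).1 hx'D) (D.inv_mem hx'D)
  refine ⟨a', x', k', ⟨inf_le_left, ha', fun hB => h.not_mem (hae ▸ hB.2), h.prime, h.ne_two, ?_, hcent,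
    zpowers_le.2 (zpow_mem (mem_zpowers _) j) hk', fun h1 => h.ne_one ?_, ?_⟩,
    zpowers_le.2 (D.zpow_mem haxD j) hk', hke⟩
  · obtain ⟨l', -, hl'⟩ := (Nat.dvd_prime_pow h.prime).1 (orderOf_dvd_of_pow_eq_one hl)
    exact ⟨l', hl'⟩
  · rw [← hke, h1, map_one]
  · rw [hB', Subgroup.inf_relIndex_left, Subgroup.relIndex_comap]
    exact h.size

theorem ypropOut (hK : SThreeFree21.SThreeFreeSimple.{u}) : YPropOut.{u} := by
  intro Y _ _ S M r A hAS hA hne
  by_cases hKM : Cfsg.pPrimeCore 2 Y ≤ M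
  · obtain ⟨S', hS', r'⟩ := r.semi_quotient hKM
    obtain ⟨hA', hAS', hne'⟩ := image_core_props hAS hA hne
    obtain ⟨B, a, x, k, p, hp, hk⟩ := r'.exists_pair_out hK (hS'.symm ▸ hAS') hA' hne'
    obtain ⟨a', x', k', hp', -, hke⟩ := lift_core (D := ⊤) hA (fun _ _ => by
      rw [normalizer_eq_top]; trivial) hp (by
      rw [Subgroup.map_top_of_surjective _ (QuotientGroup.mk'_surjective _)]; trivial)
    exact ⟨_, a', x', k', p, hp', fun h => hk ⟨k', h, hke⟩⟩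
  · obtain ⟨B, a, x, k, p, hp, hk, -⟩ := r.exists_pair_of_core hKM hAS hA hne
    exact ⟨B, a, x, k, p, hp, hk⟩

theorem ypropClause (hK : SThreeFree21.SThreeFreeSimple.{u}) : YPropClause.{u} := by
  intro Y _ _ S M r A hAS hA hne hinv
  haveI : Fact (Nat.Prime 2) := ⟨Nat.prime_two⟩
  by_cases hKM : Cfsg.pPrimeCore 2 Y ≤ M
  swap
  · obtain ⟨B, a, x, k, p, hp, -, hB⟩ := r.exists_pair_of_core hKM hAS hA hne
    exact ⟨B, a, x, k, p, hp, fun e he heB => hp.clause hA hB he heB⟩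
  by_cases hAK : A ≤ centralizer (Cfsg.pPrimeCore 2 Y : Set Y)
  swap
  · obtain ⟨B, a, x, k, p, hp, hB⟩ := exists_pair_of_moved r.free (N := Cfsg.pPrimeCore 2 Y) odd_card_core hA hAK
    exact ⟨B, a, x, k, p, hp, fun e he heB => hp.clause hA hB he heB⟩
  set K := Cfsg.pPrimeCore 2 Y
  set π := QuotientGroup.mk' K
  obtain ⟨S', hS', r'⟩ := r.semi_quotient hKM
  obtain ⟨hA', hAS', hne'⟩ := image_core_props hAS hA hne
  have hinv' : ∀ g ∈ normalizer ((S' : Subgroup (Y ⧸ K)) : Set (Y ⧸ K)),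
      (A.map π).map (MulAut.conj g).toMonoidHom = A.map π := by
    intro g hg
    rw [hS'] at hg
    obtain ⟨g', hg', rfl⟩ := PLocal.normalizer_map_le_map_normalizer (p := 2) K (S : Subgroup Y)
      (Cores.pPrimeCore_coprime (G := Y) 2) S.2 hg
    calc (A.map π).map (MulAut.conj (π g')).toMonoidHom
        = (A.map (MulAut.conj g').toMonoidHom).map π := by
          rw [Subgroup.map_map, Subgroup.map_map]
          congr 1
      _ = A.map π := by rw [hinv g' hg']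
  obtain ⟨L, B, a, x, k, p, hL, hp, hxL, hAL, hcl⟩ := r'.exists_pair_clause hK (hS'.symm ▸ hAS') hA' hne' hinv'
  set C := centralizer (K : Set Y)
  set D₀ := L.comap π ⊓ C with hD₀
  set D := ⁅D₀, D₀⁆ with hD
  haveI hRn : (C.map π).Normal :=
    (inferInstance : C.Normal).map π (QuotientGroup.mk'_surjective K)
  have hLR : L ≤ C.map π := r'.le_of_normal hL fun h => hne' (le_bot_iff.1 (h ▸ Subgroup.map_mono hAK))
  have hD₀map : D₀.map π = L := by
    refine le_antisymm ?_ fun l hl => ?_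
    · rintro _ ⟨d, hd, rfl⟩; exact hd.1
    · obtain ⟨c, hc, rfl⟩ := hLR hl
      exact ⟨c, ⟨hl, hc⟩, rfl⟩
  have hDmap : D.map π = L := by
    rw [hD, Subgroup.map_commutator, hD₀map]
    exact Components.Component.commutator_self hL
  have hAD : A ≤ normalizer (D : Set Y) := by
    intro b hb
    have hb₀ : D₀.map (MulAut.conj b).toMonoidHom = D₀ := by
      refine PGroups.map_conj_eq_of_mem_normalizer (mem_normalizer_of_conj_le fun d hd => ⟨?_, ?_⟩)
      · show π (b * d * b⁻¹) ∈ L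
        rw [map_mul, map_mul, map_inv]
        exact (mem_normalizer_iff.1 (hAL ⟨b, hb, rfl⟩) _).1 hd.1
      · exact (inferInstance : C.Normal).conj_mem d hd.2 b
    refine PGroups.mem_normalizer_of_map_conj_eq ?_
    rw [hD, Subgroup.map_commutator, hb₀]
  obtain ⟨a', x', k', hp', hkD, hke⟩ := lift_core hA hAD hp (hDmap.symm ▸ hxL)
  refine ⟨_, a', x', k', p, hp', fun e he heB => ?_⟩
  set H := zpowers e ⊔ A.map (MulAut.conj k').toMonoidHom with hH
  have hkC : k' ∈ C := ((Subgroup.commutator_mono (inf_le_right : D₀ ≤ C) le_rfl).trans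
    (Subgroup.commutator_le_left C D₀)) hkD
  have hHC : H ≤ C := by
    refine sup_le (zpowers_le.2 (hAK he)) ?_
    rintro _ ⟨b, hb, rfl⟩
    exact C.mul_mem (C.mul_mem hkC (hAK hb)) (C.inv_mem hkC)
  have hLH : L ≤ H.map π := by
    have h1 := hcl (π e) ⟨e, he, rfl⟩ fun h => heB ⟨he, h⟩
    refine h1.trans (sup_le (zpowers_le.2 ⟨e, mem_sup_left (mem_zpowers e), rfl⟩) ?_)
    rintro _ ⟨_, ⟨b, hb, rfl⟩, rfl⟩
    refine ⟨k' * b * k'⁻¹, mem_sup_right ⟨b, hb, rfl⟩, ?_⟩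
    rw [map_mul, map_mul, map_inv, hke]
    rfl
  have hsplit : ∀ d ∈ D₀, ∃ h ∈ H, ∃ c ∈ K ⊓ C, d = h * c := by
    intro d hd
    obtain ⟨h, hh, hhd⟩ := hLH (hD₀map ▸ mem_map_of_mem π hd)
    exact ⟨h, hh, h⁻¹ * d, ⟨QuotientGroup.eq.1 hhd, C.mul_mem (C.inv_mem (hHC hh)) hd.2⟩,
      (mul_inv_cancel_left h d).symm⟩
  have hDH : D ≤ H := by
    rw [hD, Subgroup.commutator_le]
    intro d₁ hd₁ d₂ hd₂
    obtain ⟨h₁, hh₁, c₁, hc₁, rfl⟩ := hsplit d₁ hd₁
    obtain ⟨h₂, hh₂, c₂, hc₂, rfl⟩ := hsplit d₂ hd₂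
    have e1 : Commute c₁ h₂ := mem_centralizer_iff.1 (hHC hh₂) c₁ hc₁.1
    have e2 : Commute c₂ h₁ := mem_centralizer_iff.1 (hHC hh₁) c₂ hc₂.1
    have e3 : Commute c₁ c₂ := mem_centralizer_iff.1 hc₂.2 c₁ hc₁.1
    have e : ⁅h₁ * c₁, h₂ * c₂⁆ = ⁅h₁, h₂⁆ := by
      rw [commutatorElement_def, commutatorElement_def]
      calc h₁ * c₁ * (h₂ * c₂) * (h₁ * c₁)⁻¹ * (h₂ * c₂)⁻¹
          = h₁ * (c₁ * (h₂ * c₂) * c₁⁻¹) * h₁⁻¹ * c₂⁻¹ * h₂⁻¹ := by group
        _ = h₁ * h₂ * (c₂ * h₁⁻¹) * c₂⁻¹ * h₂⁻¹ := by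
          rw [(e1.mul_right e3).eq, mul_inv_cancel_right]; group
        _ = h₁ * h₂ * h₁⁻¹ * h₂⁻¹ := by rw [e2.inv_right.eq]; group
    rw [e, commutatorElement_def]
    exact H.mul_mem (H.mul_mem (H.mul_mem hh₁ hh₂) (H.inv_mem hh₁)) (H.inv_mem hh₂)
  exact hDH hkD

/-- Pairs outside the maximal subgroup. -/
theorem propPairOut (hK : SThreeFree21.SThreeFreeSimple.{u}) : PropPairOut.{u} :=
  propPairOut_of (ypropOut hK)

/-- Pairs with the clause. -/
theorem propPairClause (hK : SThreeFree21.SThreeFreeSimple.{u}) : PropPairClause.{u} :=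
  propPairClause_of (ypropClause hK)

end Cfsg.Agent.Lib.Stellmacher55
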