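import Cfsg.Agent.Lib.Stellmacher55.Maximal
import Cfsg.Agent.Lib.Goldschmidt92.Involves
import Cfsg.Agent.Lib.GlaubermanTwo54.Pair
import Cfsg.Agent.Lib.OddOrder.FeitThompson
import Cfsg.Agent.Lib.PLocal.CoprimeGen

/-!
# Pairs in a group with trivial `O₂` and without a section `Sym(3)`

The setting `Red` of `G/O₂(G)`, the data `YPair`, elementary tools, and the pairs coming from the odd core.

Owner: helper55.
-/

set_option autoImplicit false
set_option linter.style.haveILetI false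
set_option linter.unusedSectionVars false

namespace Cfsg.Agent.Lib.Stellmacher55

open Subgroup PLocal
open scoped commutatorElement

universe u

variable {Y : Type u} [Group Y] [Finite Y]

/-- `O₂ = 1`, no section `Sym(3)`, and `M` is the only maximal subgroup over `S`. -/
structure Red (S : Sylow 2 Y) (M : Subgroup Y) : Prop where
  core : Cfsg.pCore 2 Y = ⊥
  free : ¬ Cfsg.Involves (Equiv.Perm (Fin 3)) Y
  le : (S : Subgroup Y) ≤ M
  ne : M ≠ ⊤
  max : ∀ H : Subgroup Y, (S : Subgroup Y) ≤ H → H ≠ ⊤ → H ≤ M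

/-- `a ∈ A` and `k ∈ ⟨[a, x]⟩` of `p`-power order, `x` centralising the small `B ≤ A`. -/
structure YPair (A B : Subgroup Y) (a x k : Y) (p : ℕ) : Prop where
  le : B ≤ A
  mem : a ∈ A
  not_mem : a ∉ B
  prime : p.Prime
  ne_two : p ≠ 2
  pow : ∃ i, orderOf k = p ^ i
  cent : x ∈ centralizer (B : Set Y)
  zpow : k ∈ zpowers ⁅a, x⁆
  ne_one : k ≠ 1
  size : PairSize (B.relIndex A) p

/-- `B` centralises the element of a pair. -/
theorem YPair.comm {A B : Subgroup Y} {a x k : Y} {p : ℕ} (h : YPair A B a x k p)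
    (hA : Cfsg.IsElementaryAbelian 2 A) {b : Y} (hb : b ∈ B) : Commute b k := by
  obtain ⟨i, rfl⟩ := h.zpow
  refine Commute.zpow_right ?_ i
  have h1 : Commute b x := mem_centralizer_iff.1 h.cent b hb
  have h2 : Commute b a := PGroups.elemAb_comm hA (h.le hb) h.mem
  exact ((h2.mul_right h1).mul_right h2.inv_right).mul_right h1.inv_right

/-- An involution inverts its commutators. -/
theorem invert_comm {a x : Y} (ha : a * a = 1) : a * ⁅a, x⁆ * a⁻¹ = ⁅a, x⁆⁻¹ := by
  have hai : a⁻¹ = a := inv_eq_of_mul_eq_one_right ha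
  simp only [commutatorElement_def, _root_.mul_inv_rev, inv_inv, hai]
  simp only [← mul_assoc, ha, one_mul]

theorem YPair.invert {A B : Subgroup Y} {a x k : Y} {p : ℕ} (h : YPair A B a x k p)
    (hA : Cfsg.IsElementaryAbelian 2 A) : a * k * a⁻¹ = k⁻¹ := by
  obtain ⟨i, rfl⟩ := h.zpow
  simp only
  rw [← conj_zpow, invert_comm (by rw [← pow_two]; exact hA.2 a h.mem), inv_zpow]

/-- No element of order a power of 3 is inverted by an involution. -/
theorem ne_three_of_invert (hfree : ¬ Cfsg.Involves (Equiv.Perm (Fin 3)) Y) {a k : Y} {p i : ℕ}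
    (ha : a * a = 1) (hinv : a * k * a⁻¹ = k⁻¹) (hk : orderOf k = p ^ i) (hk1 : k ≠ 1) : p ≠ 3 := by
  rintro rfl
  obtain ⟨j, rfl⟩ : ∃ j, i = j + 1 := by
    rcases Nat.eq_zero_or_pos i with rfl | hi
    · exact absurd (orderOf_eq_one_iff.1 (by rw [hk, pow_zero])) hk1
    · exact ⟨i - 1, by omega⟩
  have hord : orderOf (k ^ 3 ^ j) = 3 := by
    rw [orderOf_pow_of_dvd (by positivity) (by rw [hk]; exact pow_dvd_pow 3 (Nat.le_succ j)), hk, pow_succ,
      Nat.mul_div_cancel_left _ (by positivity)]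
  have hai : a⁻¹ = a := inv_eq_of_mul_eq_one_right ha
  have ha1 : a ≠ 1 := by
    rintro rfl
    rw [one_mul, inv_one, mul_one] at hinv
    have h2 : k * k = 1 := mul_eq_one_iff_eq_inv.2 hinv
    have h3 : orderOf k ∣ 2 := orderOf_dvd_of_pow_eq_one (by rw [pow_two, h2])
    rw [hk] at h3
    have := Nat.le_of_dvd (by norm_num) h3
    have : 3 ≤ 3 ^ (j + 1) := Nat.le_self_pow (by omega) 3
    omega
  refine hfree (Goldschmidt92.involves_S3_of_inverted (x := k ^ 3 ^ j) (t := a) ?_ ?_ ha ha1 ?_)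
  · have h := pow_orderOf_eq_one (k ^ 3 ^ j)
    rwa [hord] at h
  · intro h1; rw [h1, orderOf_one] at hord; omega
  · conv_lhs => arg 2; rw [← hai]
    rw [← conj_pow, hinv, inv_pow]

/-- The size of a pair of index at most two. -/
theorem pairSize_two {f p : ℕ} (hf : f ≤ 2) (hp : p.Prime) (hp3 : p ≠ 3) : PairSize f p := by
  intro n hn h
  refine lt_of_le_of_lt (Nat.pow_le_pow_left hf 2) ?_
  match n, hn with
  | 1, _ =>
    exfalso
    have h1 : p ∣ 2 - 1 := (Nat.modEq_iff_dvd' (by norm_num)).1 h.symm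
    exact hp.one_lt.ne' (Nat.dvd_one.1 h1)
  | 2, _ =>
    exfalso
    have h1 : p ∣ 4 - 1 := (Nat.modEq_iff_dvd' (by norm_num)).1 h.symm
    exact hp3 ((Nat.prime_dvd_prime_iff_eq hp Nat.prime_three).1 h1)
  | m + 3, _ => exact Nat.pow_lt_pow_right (by norm_num) (by omega)

/-- An element outside a subgroup has a primary part outside it. -/
theorem exists_primary {H : Subgroup Y} : ∀ (n : ℕ) (y : Y), orderOf y = n → y ∉ H →
    ∃ (p i : ℕ) (k : Y), p.Prime ∧ k ∈ zpowers y ∧ orderOf k = p ^ i ∧ k ∉ H := by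
  intro n
  induction n using Nat.recOnPrimeCoprime with
  | zero => exact fun y hy _ => absurd hy (orderOf_pos y).ne'
  | prime_pow p i hp => exact fun y hy hne => ⟨p, i, y, hp, mem_zpowers y, hy, hne⟩
  | coprime a b ha hb hab iha ihb =>
    intro y hy hne
    have h1 : orderOf (y ^ b) = a := by
      rw [orderOf_pow_of_dvd (by omega) (by rw [hy]; exact dvd_mul_left _ _), hy,
        Nat.mul_div_cancel _ (by omega)]
    have h2 : orderOf (y ^ a) = b := by
      rw [orderOf_pow_of_dvd (by omega) (by rw [hy]; exact dvd_mul_right _ _), hy,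
        Nat.mul_div_cancel_left _ (by omega)]
    by_cases hb' : y ^ b ∈ H
    · have ha' : y ^ a ∉ H := by
        intro ha'
        apply hne
        have hg := Nat.gcd_eq_gcd_ab a b
        rw [Nat.Coprime.gcd_eq_one hab] at hg
        have e : y = (y ^ a) ^ a.gcdA b * (y ^ b) ^ a.gcdB b := by
          rw [← zpow_natCast y a, ← zpow_natCast y b, ← zpow_mul, ← zpow_mul, ← zpow_add, ← hg]
          simp
        rw [e]
        exact H.mul_mem (H.zpow_mem ha' _) (H.zpow_mem hb' _)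
      obtain ⟨p, i, k, hp, hk, ho, hkH⟩ := ihb _ h2 ha'
      exact ⟨p, i, k, hp, zpowers_le.2 (pow_mem (mem_zpowers y) a) hk, ho, hkH⟩
    · obtain ⟨p, i, k, hp, hk, ho, hkH⟩ := iha _ h1 hb'
      exact ⟨p, i, k, hp, zpowers_le.2 (pow_mem (mem_zpowers y) b) hk, ho, hkH⟩

variable {S : Sylow 2 Y} {M : Subgroup Y}

theorem Red.eq_top_of_sup (r : Red S M) {C : Subgroup Y} (hC : ¬ C ≤ M) : C ⊔ (S : Subgroup Y) = ⊤ := by
  by_contra hne
  exact hC (le_sup_left.trans (r.max _ le_sup_right hne))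

/-- A normal subgroup inside `M` meets `S` trivially. -/
theorem Red.inf_eq_bot (r : Red S M) {C : Subgroup Y} [C.Normal] (hC : C ≤ M) :
    (S : Subgroup Y) ⊓ C = ⊥ := by
  haveI : Fact (Nat.Prime 2) := ⟨Nat.prime_two⟩
  set T := (S : Subgroup Y) ⊓ C
  have hN : normalizer (T : Set Y) = ⊤ := by
    by_contra hne
    have hS : (S : Subgroup Y) ≤ normalizer (T : Set Y) := by
      intro s hs
      refine mem_normalizer_iff.mpr fun x => and_congr ?_ ?_
      · exact mem_normalizer_iff.mp (Subgroup.le_normalizer hs) x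
      · exact mem_normalizer_iff.mp ((normalizer_eq_top (H := C)).ge (mem_top s)) x
    refine r.ne (top_le_iff.mp ?_)
    rw [← normalizer_inf_sup_eq_top S C]
    exact sup_le (r.max _ hS hne) hC
  haveI : T.Normal := normalizer_eq_top_iff.mp hN
  exact le_bot_iff.1 (r.core ▸ Cores.le_pCore (S.2.to_le inf_le_left))

/-- A normal subgroup inside `M` has odd order. -/
theorem Red.odd_of_le (r : Red S M) {C : Subgroup Y} [C.Normal] (hC : C ≤ M) : Odd (Nat.card C) := by
  haveI : Fact (Nat.Prime 2) := ⟨Nat.prime_two⟩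
  have h := not_dvd_relIndex_inf S C
  rw [r.inf_eq_bot hC, Subgroup.relIndex_bot_left] at h
  exact Nat.odd_iff.2 (Nat.two_dvd_ne_zero.1 h)

/-- A normal subgroup outside `M` contains every element of odd order. -/
theorem Red.odd_mem (r : Red S M) {C : Subgroup Y} [C.Normal] (hC : ¬ C ≤ M) {x : Y}
    (hx : Odd (orderOf x)) : x ∈ C := by
  have hx' : x ∈ C ⊔ (S : Subgroup Y) := by rw [r.eq_top_of_sup hC]; trivial
  rw [← SetLike.mem_coe, Subgroup.normal_mul] at hx'
  obtain ⟨c', hc, s, hs, rfl⟩ := hx'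
  obtain ⟨j, hj⟩ := S.2 ⟨s, hs⟩
  refine (QuotientGroup.eq_one_iff _).mp (orderOf_eq_one_iff.mp ?_)
  refine Nat.eq_one_of_dvd_coprimes ((Nat.coprime_two_right.mpr hx).pow_right j)
    (orderOf_map_dvd (QuotientGroup.mk' C) (c' * s)) ?_
  have h1 : ((c' * s : Y) : Y ⧸ C) = (s : Y ⧸ C) := by
    rw [QuotientGroup.mk_mul, (QuotientGroup.eq_one_iff c').mpr hc, one_mul]
  change orderOf ((c' * s : Y) : Y ⧸ C) ∣ 2 ^ j
  rw [h1]
  refine orderOf_dvd_of_pow_eq_one ?_
  rw [← QuotientGroup.mk_pow, show s ^ 2 ^ j = 1 from congrArg Subtype.val hj, QuotientGroup.mk_one]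

/-- If some `[x, a]`, with `x` centralised by the hyperplane `B`, lies in the odd normal subgroup `N`
outside `H`, there is a pair outside `H`. -/
theorem exists_pair_of_comm (hfree : ¬ Cfsg.Involves (Equiv.Perm (Fin 3)) Y) {A B N H : Subgroup Y}
    [N.Normal] (hN : Odd (Nat.card N)) (hA : Cfsg.IsElementaryAbelian 2 A) (hBA : B ≤ A)
    (hB : B.relIndex A ≤ 2) {a x : Y} (ha : a ∈ A) (hx : x ∈ N) (hxB : x ∈ centralizer (B : Set Y))
    (hne : ⁅x, a⁆ ∉ H) : ∃ (k : Y) (p : ℕ), YPair A B a x k p ∧ k ∉ H := by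
  have hy : ⁅a, x⁆ ∉ H := fun h => hne (by rw [← commutatorElement_inv]; exact H.inv_mem h)
  obtain ⟨p, i, k, hp, hk, ho, hkH⟩ := exists_primary _ _ rfl hy
  have hk1 : k ≠ 1 := fun h => hkH (h ▸ H.one_mem)
  have hkN : k ∈ N := (zpowers_le.2 (N.mul_mem ((inferInstance : N.Normal).conj_mem x hx a)
    (N.inv_mem hx))) hk
  have hp2 : p ≠ 2 := by
    rintro rfl
    have h1 := (Subgroup.orderOf_dvd_natCard N hkN)
    rw [ho] at h1
    rcases Nat.eq_zero_or_pos i with rfl | hi
    · exact hk1 (orderOf_eq_one_iff.1 (by rw [ho, pow_zero]))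
    · exact (Nat.not_even_iff_odd.2 (hN.of_dvd_nat h1)) (Nat.even_pow.2 ⟨even_two, hi.ne'⟩)
  have haB : a ∉ B := fun h => hne (by
    rw [commutatorElement_eq_one_iff_mul_comm.2 (mem_centralizer_iff.1 hxB a h).symm]
    exact H.one_mem)
  have ha2 : a * a = 1 := by rw [← pow_two]; exact hA.2 a ha
  have hinv : a * k * a⁻¹ = k⁻¹ := by
    obtain ⟨j, rfl⟩ := hk
    simp only
    rw [← conj_zpow, invert_comm ha2, inv_zpow]
  exact ⟨k, p, ⟨hBA, ha, haB, hp, hp2, ⟨i, ho⟩, hxB, hk, hk1,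
    pairSize_two hB hp (ne_three_of_invert hfree ha2 hinv ho hk1)⟩, hkH⟩

/-- An elementary abelian group moving an odd normal subgroup has a hyperplane pair inside it. -/
theorem exists_pair_of_moved (hfree : ¬ Cfsg.Involves (Equiv.Perm (Fin 3)) Y) {A N : Subgroup Y}
    [N.Normal] (hN : Odd (Nat.card N)) (hA : Cfsg.IsElementaryAbelian 2 A)
    (hne : ¬ A ≤ centralizer (N : Set Y)) :
    ∃ (B : Subgroup Y) (a x k : Y) (p : ℕ), YPair A B a x k p ∧ B.relIndex A ≤ 2 := by
  obtain ⟨a, ha, haN⟩ := SetLike.not_le_iff_exists.1 hne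
  have hAN : A ≤ normalizer (N : Set Y) := by rw [normalizer_eq_top]; exact le_top
  obtain ⟨B, x, hx, hne'⟩ : ∃ (B : {B : Subgroup Y // B ≤ A ∧ B.relIndex A ≤ 2}) (x : Y),
      x ∈ fixOn N (B : Subgroup Y) ∧ a * x ≠ x * a := by
    by_contra hcon
    push Not at hcon
    refine haN (mem_centralizer_iff.2 fun y hy => ?_)
    have hle := (le_iSup_fixOn_hyperplane (p := 2) hA hAN (Nat.coprime_two_right.2 hN)).trans
      (iSup_le fun B => show fixOn N (B : Subgroup Y) ≤ centralizer ({a} : Set Y) from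
        fun z hz => mem_centralizer_singleton_iff.2 (hcon B z hz).symm)
    exact mem_centralizer_singleton_iff.1 (hle hy)
  obtain ⟨k, p, hp, -⟩ := exists_pair_of_comm hfree (H := ⊥) hN hA B.2.1 B.2.2 ha hx.1 hx.2 (fun h => hne'
    (commutatorElement_eq_one_iff_mul_comm.1 (mem_bot.1 h)).symm)
  exact ⟨B, a, x, k, p, hp, B.2.2⟩

/-- An odd normal subgroup outside `M` gives a pair outside `M`. -/
theorem Red.exists_pair_of_core (r : Red S M) (hK : ¬ Cfsg.pPrimeCore 2 Y ≤ M) {A : Subgroup Y}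
    (hAS : A ≤ (S : Subgroup Y)) (hA : Cfsg.IsElementaryAbelian 2 A) (hne : A ≠ ⊥) :
    ∃ (B : Subgroup Y) (a x k : Y) (p : ℕ), YPair A B a x k p ∧ k ∉ M ∧ B.relIndex A ≤ 2 := by
  -- a minimal normal subgroup of the odd core outside `M`
  haveI : (Cfsg.pPrimeCore 2 Y).Normal := inferInstance
  obtain ⟨N, ⟨hN, hNK, hNM⟩, hmin⟩ := (Set.toFinite {N : Subgroup Y |
    N.Normal ∧ N ≤ Cfsg.pPrimeCore 2 Y ∧ ¬ N ≤ M}).exists_minimal ⟨_, inferInstance, le_rfl, hK⟩
  haveI := hN
  have hodd : Odd (Nat.card N) := (Nat.coprime_two_right.1 (Cores.pPrimeCore_coprime (G := Y) 2)).of_dvd_nat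
    (Subgroup.card_dvd_of_le hNK)
  have hN' : ⁅N, N⁆ ≤ M := by
    by_contra hcon
    have heq : N ≤ ⁅N, N⁆ := hmin ⟨inferInstance, (commutator_le_left N N).trans hNK, hcon⟩
      (commutator_le_left N N)
    haveI := OddOrder.FeitThompson.isSolvable_of_odd_card hodd
    haveI : Nontrivial N := (nontrivial_iff_ne_bot N).2 fun h => hNM (h ▸ bot_le)
    refine (Group.IsSolvable.commutator_lt_top_of_nontrivial (G := N)).ne ?_
    apply Subgroup.map_injective N.subtype_injective
    rw [_root_.commutator_def, Subgroup.map_commutator, ← MonoidHom.range_eq_map, Subgroup.range_subtype]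
    exact le_antisymm (commutator_le_left N N) heq
  set N₁ := N ⊓ M with hN₁
  haveI hN₁n : N₁.Normal := by
    rw [← normalizer_eq_top_iff, eq_top_iff, ← r.eq_top_of_sup hNM]
    refine sup_le (fun g hg => ?_) fun g hg => ?_
    · refine mem_normalizer_iff.2 fun x => ?_
      have hc : ∀ g ∈ N, ∀ x ∈ N₁, g * x * g⁻¹ ∈ N₁ := fun g hg x hx => by
        refine ⟨N.mul_mem (N.mul_mem hg hx.1) (N.inv_mem hg), ?_⟩
        rw [show g * x * g⁻¹ = ⁅g, x⁆ * x by simp only [commutatorElement_def]; group]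
        exact M.mul_mem (hN' (commutator_mem_commutator hg hx.1)) hx.2
      refine ⟨hc g hg x, fun h => ?_⟩
      have := hc g⁻¹ (N.inv_mem hg) _ h
      simpa [mul_assoc] using this
    · refine mem_normalizer_iff.2 fun x => and_congr ?_ ?_
      · exact mem_normalizer_iff.1 ((normalizer_eq_top (H := N)).ge (mem_top g)) x
      · exact mem_normalizer_iff.1 (Subgroup.le_normalizer (r.le hg)) x
  -- `A` moves `N / N₁`
  obtain ⟨a, ha, x₀, hx₀, hax⟩ : ∃ a ∈ A, ∃ x ∈ N, ⁅x, a⁆ ∉ N₁ := by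
    by_contra hcon
    push Not at hcon
    set C : Subgroup Y := (centralizer (N.map (QuotientGroup.mk' N₁) : Set (Y ⧸ N₁))).comap
      (QuotientGroup.mk' N₁) with hC
    have hmemC : ∀ y : Y, y ∈ C ↔ ∀ x ∈ N, ⁅x, y⁆ ∈ N₁ := by
      intro y
      rw [hC, mem_comap, mem_centralizer_iff]
      simp only [Subgroup.coe_map, Set.forall_mem_image, ← map_commutatorElement,
        ← commutatorElement_eq_one_iff_mul_comm]
      exact forall₂_congr fun x _ => QuotientGroup.eq_one_iff _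
    haveI hCn : C.Normal := by rw [hC]; infer_instance
    have hAC : A ≤ C := fun y hy => (hmemC y).2 (hcon y hy)
    set H := N₁ ⊔ ((S : Subgroup Y) ⊓ C) with hH
    haveI : H.Normal := by
      rw [← normalizer_eq_top_iff, eq_top_iff, ← r.eq_top_of_sup hNM]
      refine sup_le (fun g hg => ?_) fun g hg => ?_
      · refine PGroups.mem_normalizer_of_map_conj_eq (Subgroup.eq_of_le_of_card_ge ?_
          (Subgroup.card_map_of_injective (MulAut.conj g).injective).ge)
        rw [hH, Subgroup.map_sup]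
        refine sup_le (le_trans ?_ le_sup_left) ?_
        · rintro _ ⟨z, hz, rfl⟩; exact hN₁n.conj_mem z hz g
        · rintro _ ⟨s, hs, rfl⟩
          show g * s * g⁻¹ ∈ _
          rw [show g * s * g⁻¹ = ⁅g, s⁆ * s by simp only [commutatorElement_def]; group]
          exact mul_mem (mem_sup_left ((hmemC s).1 hs.2 g hg)) (mem_sup_right hs)
      · refine PGroups.mem_normalizer_of_map_conj_eq (Subgroup.eq_of_le_of_card_ge ?_
          (Subgroup.card_map_of_injective (MulAut.conj g).injective).ge)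
        rw [hH, Subgroup.map_sup]
        refine sup_le (le_trans ?_ le_sup_left) (le_trans ?_ le_sup_right)
        · rintro _ ⟨z, hz, rfl⟩; exact hN₁n.conj_mem z hz g
        · rintro _ ⟨s, hs, rfl⟩
          exact ⟨(S : Subgroup Y).mul_mem ((S : Subgroup Y).mul_mem hg hs.1) ((S : Subgroup Y).inv_mem hg),
            hCn.conj_mem s hs.2 g⟩
    have hHM : H ≤ M := sup_le inf_le_right (inf_le_left.trans r.le)
    refine hne (le_bot_iff.1 ?_)
    rw [← r.inf_eq_bot hHM]
    exact le_inf hAS fun y hy => mem_sup_right ⟨hAS hy, hAC hy⟩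
  obtain ⟨B, x, hx, hne'⟩ : ∃ (B : {B : Subgroup Y // B ≤ A ∧ B.relIndex A ≤ 2}) (x : Y),
      x ∈ fixOn N (B : Subgroup Y) ∧ ⁅x, a⁆ ∉ N₁ := by
    by_contra hcon
    push Not at hcon
    refine hax ?_
    have hle := (le_iSup_fixOn_hyperplane (p := 2) (K := N) hA (by rw [normalizer_eq_top]; exact le_top)
      (Nat.coprime_two_right.2 hodd)).trans (iSup_le fun B => show fixOn N (B : Subgroup Y) ≤
        (centralizer ({QuotientGroup.mk' N₁ a} : Set (Y ⧸ N₁))).comap (QuotientGroup.mk' N₁) from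
        fun z hz => mem_centralizer_singleton_iff.2 (by
          have := (QuotientGroup.eq_one_iff _).2 (hcon B z hz)
          rw [← QuotientGroup.mk'_apply, map_commutatorElement,
            commutatorElement_eq_one_iff_mul_comm] at this
          exact this))
    have h1 := mem_centralizer_singleton_iff.1 (hle hx₀)
    rw [← QuotientGroup.eq_one_iff, ← QuotientGroup.mk'_apply, map_commutatorElement,
      commutatorElement_eq_one_iff_mul_comm]
    exact h1
  have hxaN : ⁅x, a⁆ ∈ N := by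
    rw [show ⁅x, a⁆ = x * (a * x⁻¹ * a⁻¹) by simp only [commutatorElement_def]; group]
    exact N.mul_mem hx.1 (hN.conj_mem _ (N.inv_mem hx.1) a)
  obtain ⟨k, p, hp, hk⟩ := exists_pair_of_comm r.free (H := M) hodd hA B.2.1 B.2.2 ha hx.1 hx.2
    fun h => hne' ⟨hxaN, h⟩
  exact ⟨B, a, x, k, p, hp, hk, B.2.2⟩

/-- For a pair of index at most two the clause is automatic. -/
theorem YPair.clause {A B : Subgroup Y} {a x k : Y} {p : ℕ} (h : YPair A B a x k p)
    (hA : Cfsg.IsElementaryAbelian 2 A) (hB : B.relIndex A ≤ 2) {e : Y} (he : e ∈ A) (heB : e ∉ B) :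
    k ∈ zpowers e ⊔ A.map (MulAut.conj k).toMonoidHom := by
  set H := zpowers e ⊔ A.map (MulAut.conj k).toMonoidHom
  have hidx : B.relIndex A = 2 := by
    refine le_antisymm hB (Nat.lt_of_le_of_ne ?_ fun h1 => heB (Subgroup.relIndex_eq_one.1 h1.symm he))
    exact Nat.pos_of_ne_zero Subgroup.index_ne_zero_of_finite
  have heab : e⁻¹ * a ∈ B := by
    have h2 : (⟨e, he⟩ : A)⁻¹ * ⟨a, h.mem⟩ ∈ B.subgroupOf A := by
      rw [Subgroup.mul_mem_iff_of_index_two hidx, inv_mem_iff]
      exact iff_of_false heB h.not_mem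
    exact h2
  have hka : k * a * k⁻¹ ∈ H := mem_sup_right ⟨a, h.mem, rfl⟩
  have hb : e⁻¹ * a ∈ H := by
    refine mem_sup_right ⟨e⁻¹ * a, A.mul_mem (A.inv_mem he) h.mem, ?_⟩
    show k * (e⁻¹ * a) * k⁻¹ = e⁻¹ * a
    rw [← (h.comm hA heab).eq, mul_inv_cancel_right]
  have haH : a ∈ H := by
    rw [show a = e * (e⁻¹ * a) by group]; exact H.mul_mem (mem_sup_left (mem_zpowers e)) hb
  have hk2 : k ^ 2 ∈ H := by
    have e2 : k * a * k⁻¹ * a⁻¹ = k * k := by
      rw [show k * a * k⁻¹ * a⁻¹ = k * (a * k * a⁻¹)⁻¹ by group, h.invert hA, inv_inv]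
    rw [pow_two, ← e2]
    exact H.mul_mem hka (H.inv_mem haH)
  obtain ⟨i, hi⟩ := h.pow
  obtain ⟨j, hj⟩ := exists_pow_eq_self_of_coprime (n := 2) (x := k)
    (by rw [hi]; exact Nat.Coprime.pow_right i ((Nat.coprime_primes Nat.prime_two h.prime).2 h.ne_two.symm))
  rw [← hj]
  exact H.pow_mem hk2 j

end Cfsg.Agent.Lib.Stellmacher55
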