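import Cfsg.Agent.Lib.Stellmacher55.PairsOut

/-!
# Pairs of an `N(S)`-invariant elementary abelian subgroup from a component

The subgroup normalises every component and induces all involutions of `Z(S ∩ L)` on `L`.

Owner: helper55.
-/

set_option autoImplicit false
set_option linter.style.haveILetI false
set_option linter.unusedSectionVars false

namespace Cfsg.Agent.Lib.Stellmacher55

open Subgroup PLocal
open scoped commutatorElement

universe u

variable {Y : Type u} [Group Y] [Finite Y] {S : Sylow 2 Y} {M L : Subgroup Y}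

theorem mem_normalizer_of_conj_le {T : Subgroup Y} {g : Y} (h : ∀ t ∈ T, g * t * g⁻¹ ∈ T) :
    g ∈ normalizer (T : Set Y) := by
  refine PGroups.mem_normalizer_of_map_conj_eq (Subgroup.eq_of_le_of_card_ge ?_
    (Subgroup.card_map_of_injective (MulAut.conj g).injective).ge)
  rintro _ ⟨t, ht, rfl⟩
  exact h t ht

theorem conj_mem_inf {g u : Y} (hg : g ∈ normalizer (((S : Subgroup Y) ⊓ L : Subgroup Y) : Set Y))
    (hu : u ∈ (S : Subgroup Y) ⊓ L) : g * u * g⁻¹ ∈ (S : Subgroup Y) ⊓ L :=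
  (mem_normalizer_iff.1 hg u).1 hu

/-- An element of `N_L(S ∩ L)` acts on the involutions of `S ∩ L` as an element of `N(S)` normalising `L`. -/
theorem Semi.exists_lift (r : Semi S M) {q p : ℕ} (hL : Cfsg.IsComponent L) (hz : SzLike L q p) {g : Y}
    (hg : g ∈ L) (hgn : g ∈ normalizer (((S : Subgroup Y) ⊓ L : Subgroup Y) : Set Y)) :
    ∃ h ∈ normalizer ((S : Subgroup Y) : Set Y), h ∈ normalizer (L : Set Y) ∧
      ∀ d ∈ (S : Subgroup Y) ⊓ L, d * d = 1 → h * d * h⁻¹ = g * d * g⁻¹ := by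
  classical
  set V := vJoin S L with hV
  set N := normalizer (V : Set Y) with hN
  have hSN : (S : Subgroup Y) ≤ N := le_normalizer_vJoin L
  have hgN : g ∈ N := mem_normalizer_vJoin hL hg hgn
  haveI : (V.subgroupOf N).Normal := Subgroup.normal_in_normalizer
  set π := QuotientGroup.mk' (V.subgroupOf N)
  have hπ : ∀ x y : N, π x = π y ↔ (x : Y)⁻¹ * (y : Y) ∈ V := fun x y => by
    rw [QuotientGroup.mk'_apply, QuotientGroup.mk'_apply, QuotientGroup.eq, Subgroup.mem_subgroupOf]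
    simp
  -- an element of `S` normalising `L` centralises `g` modulo `S ∩ L`
  have hstab : ∀ s ∈ (S : Subgroup Y), s ∈ normalizer (L : Set Y) →
      s * g * s⁻¹ * g⁻¹ ∈ (S : Subgroup Y) ⊓ L := by
    intro s hs hsN
    obtain ⟨d, hd, hact⟩ := r.exists_inner hL hz hs hsN
    rw [hact g hg, show d * g * d⁻¹ * g⁻¹ = d * (g * d⁻¹ * g⁻¹) by group]
    exact mul_mem hd (conj_mem_inf hgn (inv_mem hd))
  let Ω := {K : Subgroup Y // ∃ s : (S : Subgroup Y), conjOf (s : Y) L = K}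
  haveI : Fintype Ω := Fintype.ofFinite Ω
  let sel : Ω → ↥(S : Subgroup Y) := fun K => K.2.choose
  have hsel : ∀ K : Ω, conjOf ((sel K : (S : Subgroup Y)) : Y) L = K.1 := fun K => K.2.choose_spec
  let F : Ω → ↥N ⧸ V.subgroupOf N := fun K =>
    π ⟨(sel K : Y) * g * (sel K : Y)⁻¹, N.mul_mem (N.mul_mem (hSN (sel K).2) hgN) (N.inv_mem (hSN (sel K).2))⟩
  have hcomm : ∀ K K' : Ω, Commute (F K) (F K') := by
    intro K K'
    by_cases hKK : K = K'
    · rw [hKK]
    refine Commute.map ?_ π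
    refine Subtype.ext (mem_centralizer_iff.1 (Components.Component.le_centralizer_of_ne
      (Components.Component.conj hL (sel K' : Y)) (Components.Component.conj hL (sel K : Y)) (fun h => hKK ?_)
      (conj_mem_conjOf hg)) _ (conj_mem_conjOf hg))
    exact Subtype.ext ((hsel K).symm.trans (h.symm.trans (hsel K')))
  let σ : ↥(S : Subgroup Y) → Ω → Ω := fun t K => ⟨conjOf (t : Y) K.1, t * sel K, by
    rw [← hsel K, Subgroup.coe_mul, conjOf_mul]⟩
  have hσinj : ∀ t, Function.Injective (σ t) := fun t K K' h => Subtype.ext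
    (Subgroup.map_injective (MulAut.conj (t : Y)).injective (congrArg Subtype.val h))
  have hequiv : ∀ (t : (S : Subgroup Y)) (K : Ω),
      π ⟨t, hSN t.2⟩ * F K * (π ⟨t, hSN t.2⟩)⁻¹ = F (σ t K) := by
    intro t K
    set s' := sel (σ t K) with hs'
    set r0 := (s' : Y)⁻¹ * (t * sel K : Y) with hr0
    have hr0S : r0 ∈ (S : Subgroup Y) :=
      mul_mem (inv_mem s'.2) (mul_mem t.2 (sel K).2)
    have hr0N : r0 ∈ normalizer (L : Set Y) := by
      refine conjOf_eq_iff.1 ?_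
      rw [hr0, conjOf_mul, conjOf_mul, hsel K]
      have h1 : conjOf (t : Y) K.1 = conjOf (s' : Y) L := (hsel (σ t K)).symm
      rw [h1, ← conjOf_mul, inv_mul_cancel, conjOf_one]
    rw [← map_inv, ← map_mul, ← map_mul]
    refine (hπ _ _).2 ?_
    simp only [Subgroup.coe_mul, Subgroup.coe_inv]
    have h2 : (s' : Y) * (g⁻¹ * (r0 * g * r0⁻¹ * g⁻¹)⁻¹ * g) * (s' : Y)⁻¹ ∈ V := by
      have h3 : g⁻¹ * (r0 * g * r0⁻¹ * g⁻¹)⁻¹ * g ∈ (S : Subgroup Y) ⊓ L := by
        have := conj_mem_inf ((normalizer _).inv_mem hgn) (inv_mem (hstab r0 hr0S hr0N))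
        simpa using this
      exact (mem_normalizer_iff.1 (hSN s'.2) _).1 (inf_le_vJoin L h3)
    convert h2 using 1
    rw [hr0]; show _ = _; simp only [← hs']; group
  set hbar := Finset.univ.noncommProd F (fun K _ K' _ _ => hcomm K K') with hhbar
  obtain ⟨h, hh⟩ := QuotientGroup.mk'_surjective (V.subgroupOf N) hbar
  -- `h` normalises `S`
  have hfix : ∀ t : (S : Subgroup Y), π ⟨t, hSN t.2⟩ * hbar * (π ⟨t, hSN t.2⟩)⁻¹ = hbar := by
    intro t
    have e := Finset.map_noncommProd Finset.univ F (fun K _ K' _ _ => hcomm K K')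
      (MulAut.conj (π ⟨t, hSN t.2⟩))
    rw [← hhbar, MulAut.conj_apply] at e
    rw [e, hhbar]
    have hms : (Finset.univ : Finset Ω).val.map (fun K => F (σ t K)) = (Finset.univ : Finset Ω).val.map F := by
      rw [show (fun K => F (σ t K)) = F ∘ σ t from rfl, ← Multiset.map_map F (σ t),
        show Multiset.map (σ t) (Finset.univ : Finset Ω).val = (Finset.univ : Finset Ω).val from
          Multiset.map_univ_val_equiv (Equiv.ofBijective (σ t) (Finite.injective_iff_bijective.1 (hσinj t)))]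
    unfold Finset.noncommProd
    congr 1
    rw [← hms]
    exact Multiset.map_congr rfl fun K _ => by rw [MulAut.conj_apply]; exact hequiv t K
  have hhS : (h : Y) ∈ normalizer ((S : Subgroup Y) : Set Y) := by
    refine mem_normalizer_of_conj_le fun t ht => ?_
    have h1 := hfix ⟨t, ht⟩
    have h2 : π (h * ⟨t, hSN ht⟩ * h⁻¹) = π ⟨t, hSN ht⟩ := by
      rw [map_mul, map_mul, map_inv, hh]
      calc hbar * π ⟨t, hSN ht⟩ * hbar⁻¹
          = (π ⟨t, hSN ht⟩ * hbar * (π ⟨t, hSN ht⟩)⁻¹) * π ⟨t, hSN ht⟩ * hbar⁻¹ := by rw [h1]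
        _ = π ⟨t, hSN ht⟩ := by group
    have h3 := (hπ _ _).1 h2.symm
    simp only [Subgroup.coe_mul, Subgroup.coe_inv] at h3
    have := (S : Subgroup Y).mul_mem ht (vJoin_le L h3)
    simpa [mul_assoc] using this
  -- its action on `L`
  let K₀ : Ω := ⟨L, 1, by rw [Subgroup.coe_one, conjOf_one]⟩
  set P := ((centralizer (L : Set Y)).subgroupOf N).map π with hP
  have hrest : (Finset.univ.erase K₀).noncommProd F (fun K _ K' _ _ => hcomm K K') ∈ P := by
    refine Subgroup.noncommProd_mem P _ fun K hK => ?_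
    refine ⟨⟨(sel K : Y) * g * (sel K : Y)⁻¹, _⟩, Subgroup.mem_subgroupOf.2 ?_, rfl⟩
    refine conjOf_le_centralizer hL (fun hn => (Finset.mem_erase.1 hK).1 (Subtype.ext ?_)) (conj_mem_conjOf hg)
    exact (hsel K).symm.trans (conjOf_eq_iff.2 hn)
  obtain ⟨z, hz', hze⟩ := hrest
  have hsplit : F K₀ * π z = π h := by
    rw [hze, hh, hhbar]
    exact Finset.mul_noncommProd_erase Finset.univ (Finset.mem_univ K₀) F (fun K _ K' _ _ => hcomm K K')
  rw [← map_mul, hπ] at hsplit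
  simp only [Subgroup.coe_mul] at hsplit
  set s₀ := (sel K₀ : Y)
  set g₀ := s₀ * g * s₀⁻¹
  set v := (g₀ * (z : Y))⁻¹ * (h : Y) with hv
  have he : (h : Y) = g₀ * z * v := by rw [hv]; group
  have hs₀N : s₀ ∈ normalizer (L : Set Y) := conjOf_eq_iff.1 (hsel K₀)
  have hg₀ : g₀ ∈ L := (mem_normalizer_iff.1 hs₀N g).1 hg
  have hVle : V ≤ ((S : Subgroup Y) ⊓ L) ⊔ centralizer (L : Set Y) := iSup_le fun s => by
    by_cases hs : (s : Y) ∈ normalizer (L : Set Y)
    · rw [conjOf_inf L s.2, conjOf_eq_iff.2 hs]; exact le_sup_left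
    · exact ((Subgroup.map_mono inf_le_right).trans (conjOf_le_centralizer hL hs)).trans le_sup_right
  have hhL : (h : Y) ∈ normalizer (L : Set Y) := by
    rw [he]
    refine mul_mem (mul_mem (Subgroup.le_normalizer hg₀)
      (Subgroup.centralizer_le_normalizer _ (Subgroup.mem_subgroupOf.1 hz'))) ?_
    exact sup_le (inf_le_right.trans Subgroup.le_normalizer) (Subgroup.centralizer_le_normalizer _)
      (hVle hsplit)
  obtain ⟨U, hU⟩ := exists_sylow S hL
  have hcent : ∀ d ∈ (S : Subgroup Y) ⊓ L, d * d = 1 → ∀ u ∈ (S : Subgroup Y) ⊓ L, Commute u d := by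
    intro d hd hd2 u hu
    have := hz.inv_central U ⟨d, hd.2⟩ (hU ▸ Subgroup.mem_subgroupOf.2 hd.1) (Subtype.ext hd2)
    exact congrArg Subtype.val (mem_centralizer_iff.1 this ⟨u, hu.2⟩ (hU ▸ Subgroup.mem_subgroupOf.2 hu.1))
  refine ⟨h, hhS, hhL, fun d hd hd2 => ?_⟩
  have hcv : Commute v d := by
    have h1 : ((S : Subgroup Y) ⊓ L) ⊔ centralizer (L : Set Y) ≤ centralizer ({d} : Set Y) :=
      sup_le (fun u hu => mem_centralizer_singleton_iff.2 (hcent d hd hd2 u hu).eq)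
        (Subgroup.centralizer_le (Set.singleton_subset_iff.2 hd.2))
    exact mem_centralizer_singleton_iff.1 (h1 (hVle hsplit))
  have hcz : Commute (z : Y) d := (mem_centralizer_iff.1 (Subgroup.mem_subgroupOf.1 hz') d hd.2).symm
  have hd' : g * d * g⁻¹ ∈ (S : Subgroup Y) ⊓ L := conj_mem_inf hgn hd
  have hd'2 : (g * d * g⁻¹) * (g * d * g⁻¹) = 1 := by
    rw [← pow_two, conj_pow, pow_two, hd2]; group
  have hu₀ : g₀ * g⁻¹ ∈ (S : Subgroup Y) ⊓ L := hstab s₀ (sel K₀).2 hs₀N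
  calc (h : Y) * d * (h : Y)⁻¹ = g₀ * (z * (v * d * v⁻¹) * (z : Y)⁻¹) * g₀⁻¹ := by rw [he]; group
    _ = g₀ * (z * d * (z : Y)⁻¹) * g₀⁻¹ := by rw [hcv.eq, mul_inv_cancel_right]
    _ = (g₀ * g⁻¹) * (g * d * g⁻¹) * (g₀ * g⁻¹)⁻¹ := by rw [hcz.eq, mul_inv_cancel_right]; group
    _ = g * d * g⁻¹ := by rw [(hcent _ hd' hd'2 _ hu₀).eq, mul_inv_cancel_right]

/-- An `N(S)`-invariant elementary abelian subgroup normalises every component. -/
theorem Semi.le_normalizer_comp (r : Semi S M) {q p : ℕ} (hL : Cfsg.IsComponent L) (hz : SzLike L q p)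
    {A : Subgroup Y} (hA : Cfsg.IsElementaryAbelian 2 A)
    (hinv : ∀ g ∈ normalizer ((S : Subgroup Y) : Set Y), A.map (MulAut.conj g).toMonoidHom = A) :
    A ≤ normalizer (L : Set Y) := by
  intro a ha
  by_contra hn
  obtain ⟨U, hU⟩ := exists_sylow S hL
  obtain ⟨u, hu, hu2⟩ := hz.not_elem U
  rw [hU] at hu
  have huS : (u : Y) ∈ (S : Subgroup Y) := Subgroup.mem_subgroupOf.1 hu
  have hm : a * u * a⁻¹ * (u : Y)⁻¹ ∈ A := by
    rw [show a * u * a⁻¹ * (u : Y)⁻¹ = a * (u * a⁻¹ * (u : Y)⁻¹) by group]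
    exact A.mul_mem ha ((hinv u (Subgroup.le_normalizer huS)).le (conj_mem_conjOf (A.inv_mem ha)))
  have hC : a * u * a⁻¹ ∈ centralizer (L : Set Y) := conjOf_le_centralizer hL hn (conj_mem_conjOf u.2)
  have hcomm : Commute (a * u * a⁻¹) (u : Y)⁻¹ :=
    (mem_centralizer_iff.1 hC (u : Y)⁻¹ (L.inv_mem u.2)).symm
  have h1 := hA.2 _ hm
  rw [hcomm.mul_pow, inv_pow, mul_inv_eq_one] at h1
  refine hu2 (Subtype.ext ?_)
  show (u : Y) * u = 1
  refine r.eq_one hL (L.mul_mem u.2 u.2) ?_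
  rw [← pow_two, ← h1]
  exact pow_mem hC 2

/-- A pair with the clause. -/
theorem Semi.exists_pair_clause (r : Semi S M) (hK : SThreeFree21.SThreeFreeSimple.{u}) {A : Subgroup Y}
    (hAS : A ≤ (S : Subgroup Y)) (hA : Cfsg.IsElementaryAbelian 2 A) (hne : A ≠ ⊥)
    (hinv : ∀ g ∈ normalizer ((S : Subgroup Y) : Set Y), A.map (MulAut.conj g).toMonoidHom = A) :
    ∃ (L B : Subgroup Y) (a x k : Y) (p : ℕ), Cfsg.IsComponent L ∧ YPair A B a x k p ∧ x ∈ L ∧
      A ≤ normalizer (L : Set Y) ∧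
      ∀ e ∈ A, e ∉ B → L ≤ zpowers e ⊔ A.map (MulAut.conj k).toMonoidHom := by
  obtain ⟨L, hL, hLA⟩ := r.exists_comp_moved hne
  obtain ⟨q, p, hz⟩ := r.szLike hK hL
  haveI := r.isSimple hL
  have hAN := r.le_normalizer_comp hL hz hA hinv
  obtain ⟨a, ha, haC⟩ := SetLike.not_le_iff_exists.1 hLA
  obtain ⟨x, k, hk, hkM, hbot⟩ := r.pair_inner hL hz (D := ⊥) hAS hA bot_le
    (fun e he => ⟨e, ⟨he, hAN he⟩, 1, one_mem _, (mul_one e).symm⟩) ha (hAN ha) haC
    (fun c hc _ => Subgroup.mem_bot.1 hc)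
  obtain ⟨hxL, hkL⟩ := hbot rfl
  refine ⟨L, _, a, x, k, p, hL, hk, hxL, hAN, fun e he heB => ?_⟩
  obtain ⟨U, hU⟩ := exists_sylow S hL
  have hUmem : ∀ d : L, d ∈ (U : Subgroup L) ↔ (d : Y) ∈ (S : Subgroup Y) ⊓ L := fun d => by
    rw [hU, Subgroup.mem_subgroupOf]; exact ⟨fun h => ⟨h, d.2⟩, fun h => h.1⟩
  have hinner : ∀ b ∈ A, ∃ d ∈ (S : Subgroup Y) ⊓ L, d * d = 1 ∧ ∀ y ∈ L, b * y * b⁻¹ = d * y * d⁻¹ := by
    intro b hb
    obtain ⟨d, hd, hact⟩ := r.exists_inner hL hz (hAS hb) (hAN hb)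
    refine ⟨d, hd, r.inner_unique hL (L.mul_mem hd.2 hd.2) L.one_mem fun y hy => ?_, hact⟩
    calc d * d * y * (d * d)⁻¹ = d * (d * y * d⁻¹) * d⁻¹ := by group
      _ = b * (b * y * b⁻¹) * b⁻¹ := by
        rw [hact y hy, hact _ (L.mul_mem (L.mul_mem hd.2 hy) (L.inv_mem hd.2))]
      _ = 1 * y * 1⁻¹ := by
        calc b * (b * y * b⁻¹) * b⁻¹ = (b * b) * y * (b * b)⁻¹ := by group
          _ = _ := by rw [← pow_two, hA.2 b hb]
  obtain ⟨da, hda, hda2, hdact⟩ := hinner a ha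
  have hda1 : da ≠ 1 := by
    rintro rfl
    exact haC (mem_centralizer_iff.2 fun y hy => by
      have := hdact y hy
      simp only [one_mul, inv_one, mul_one] at this
      exact (mul_inv_eq_iff_eq_mul.1 this).symm)
  -- every involution of `S ∩ L` is induced by `A`
  have hfull : ∀ d ∈ (S : Subgroup Y) ⊓ L, d * d = 1 →
      ∃ b ∈ A, b⁻¹ * d ∈ centralizer (L : Set Y) := by
    intro d hd hd2
    by_cases hd1 : d = 1
    · exact ⟨1, A.one_mem, by rw [hd1, inv_one, one_mul]; exact one_mem _⟩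
    obtain ⟨g, hg, hgd⟩ := hz.inv_conj U ⟨da, hda.2⟩ ((hUmem _).2 hda) ⟨d, hd.2⟩ ((hUmem _).2 hd)
      (Subtype.ext hda2) (Subtype.ext hd2) (fun h => hda1 (congrArg Subtype.val h))
      (fun h => hd1 (congrArg Subtype.val h))
    have hgn : (g : Y) ∈ normalizer (((S : Subgroup Y) ⊓ L : Subgroup Y) : Set Y) :=
      mem_normalizer_of_conj_le fun u hu =>
        (hUmem (g * ⟨u, hu.2⟩ * g⁻¹)).1 ((mem_normalizer_iff.1 hg _).1 ((hUmem ⟨u, hu.2⟩).2 hu))
    obtain ⟨h, hhS, hhL, hhd⟩ := r.exists_lift hL hz g.2 hgn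
    refine ⟨h * a * h⁻¹, (hinv h hhS).le (conj_mem_conjOf ha), mem_centralizer_iff.2 fun y hy => ?_⟩
    have hy' : h⁻¹ * y * h ∈ L := by
      have := (mem_normalizer_iff.1 ((normalizer (L : Set Y)).inv_mem hhL) y).1 hy
      simpa using this
    have e1 : (h * a * h⁻¹) * y * (h * a * h⁻¹)⁻¹ = d * y * d⁻¹ := by
      calc (h * a * h⁻¹) * y * (h * a * h⁻¹)⁻¹ = h * (a * (h⁻¹ * y * h) * a⁻¹) * h⁻¹ := by group
        _ = (h * da * h⁻¹) * y * (h * da * h⁻¹)⁻¹ := by rw [hdact _ hy']; group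
        _ = d * y * d⁻¹ := by
          rw [hhd da hda hda2, show (g : Y) * da * (g : Y)⁻¹ = d from congrArg Subtype.val hgd]
    calc y * ((h * a * h⁻¹)⁻¹ * d)
        = (h * a * h⁻¹)⁻¹ * ((h * a * h⁻¹) * y * (h * a * h⁻¹)⁻¹) * d := by group
      _ = (h * a * h⁻¹)⁻¹ * d * y := by rw [e1]; group
  set H := zpowers e ⊔ A.map (MulAut.conj k).toMonoidHom with hH
  have hHN : H ≤ normalizer (L : Set Y) := by
    refine sup_le (zpowers_le.2 (hAN he)) ?_
    rintro _ ⟨b, hb, rfl⟩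
    exact mul_mem (mul_mem (Subgroup.le_normalizer hkL) (hAN hb)) (inv_mem (Subgroup.le_normalizer hkL))
  obtain ⟨de, hde, hde2, hdeact⟩ := hinner e he
  have hde1 : de ≠ 1 := by
    rintro rfl
    refine heB (mem_sup_left ⟨he, mem_centralizer_iff.2 fun y hy => ?_⟩)
    have := hdeact y hy
    simp only [one_mul, inv_one, mul_one] at this
    exact (mul_inv_eq_iff_eq_mul.1 this).symm
  -- the conjugate Sylow subgroup
  let U' : Sylow 2 L := U.mapSurjective (f := (MulAut.conj (⟨k, hkL⟩ : L)).toMonoidHom)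
    (MulAut.conj (⟨k, hkL⟩ : L)).surjective
  have hne' : U ≠ U' := fun h => hkM (r.normalizer_inf_le hL ⟨mem_normalizer_of_conj_le fun u hu => by
    refine (hUmem ((⟨k, hkL⟩ : L) * ⟨u, hu.2⟩ * (⟨k, hkL⟩ : L)⁻¹)).1 ?_
    rw [h]
    exact ⟨⟨u, hu.2⟩, (hUmem ⟨u, hu.2⟩).2 hu, rfl⟩, hkL⟩)
  have hgen : ∀ Z : Subgroup L, (⟨de, hde.2⟩ : L) ∈ Z →
      (∀ u ∈ (S : Subgroup Y) ⊓ L, ∀ hu : k * u * k⁻¹ ∈ L, u * u = 1 → (⟨_, hu⟩ : L) ∈ Z) → Z = ⊤ := by
    intro Z h1 h2
    refine hz.gen U U' hne' ⟨de, hde.2⟩ ((hUmem _).2 hde) (Subtype.ext hde2)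
      (fun h => hde1 (congrArg Subtype.val h)) Z h1 ?_
    rintro _ ⟨u, hu, rfl⟩ hu2
    rw [← map_mul] at hu2
    have hu2' : u * u = 1 := (MulAut.conj (⟨k, hkL⟩ : L)).injective (hu2.trans (map_one _).symm)
    exact h2 u ((hUmem u).1 hu) (L.mul_mem (L.mul_mem hkL u.2) (L.inv_mem hkL)) (congrArg Subtype.val hu2')
  have hLH : L ≤ H ⊔ centralizer (L : Set Y) := by
    rw [← Subgroup.subgroupOf_eq_top]
    refine hgen _ (Subgroup.mem_subgroupOf.2 ?_) fun u hu hu' hu2 => Subgroup.mem_subgroupOf.2 ?_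
    · show de ∈ _
      rw [show de = e * (e⁻¹ * de) by group]
      refine mul_mem (mem_sup_left (mem_sup_left (mem_zpowers e)))
        (mem_sup_right (mem_centralizer_iff.2 fun y hy => ?_))
      calc y * (e⁻¹ * de) = e⁻¹ * (e * y * e⁻¹) * de := by group
        _ = e⁻¹ * de * y := by rw [hdeact y hy]; group
    · obtain ⟨b, hb, hbu⟩ := hfull u hu hu2
      show k * u * k⁻¹ ∈ _
      rw [show k * u * k⁻¹ = (k * b * k⁻¹) * (k * (b⁻¹ * u) * k⁻¹) by group]
      refine mul_mem (mem_sup_left (mem_sup_right ⟨b, hb, rfl⟩)) (mem_sup_right ?_)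
      have hc : (b⁻¹ * u) * k = k * (b⁻¹ * u) := (mem_centralizer_iff.1 hbu k hkL).symm
      rwa [← hc, mul_inv_cancel_right]
  haveI hnorm : (H.subgroupOf L).Normal := by
    refine ⟨fun n hn g => Subgroup.mem_subgroupOf.2 ?_⟩
    have hg := hLH g.2
    have hle : H ⊔ centralizer (L : Set Y) ≤ normalizer ((H ⊓ L : Subgroup Y) : Set Y) := by
      refine sup_le (fun t ht => ?_) (le_trans (Subgroup.centralizer_le inf_le_right)
        (Subgroup.centralizer_le_normalizer _))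
      exact mem_normalizer_iff.2 fun y => and_congr (mem_normalizer_iff.1 (Subgroup.le_normalizer ht) y)
        (mem_normalizer_iff.1 (hHN ht) y)
    exact ((mem_normalizer_iff.1 (hle hg) n).1 ⟨Subgroup.mem_subgroupOf.1 hn, n.2⟩).1
  -- a commutator in `H ∩ L`
  obtain ⟨b, hb, hw⟩ : ∃ b ∈ A, ¬ Commute e (k * b * k⁻¹) := by
    by_contra hcon
    push Not at hcon
    have hc := hgen (centralizer ({(⟨de, hde.2⟩ : L)} : Set L)) (mem_centralizer_singleton_iff.2 rfl) ?_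
    · refine hde1 (r.eq_one hL hde.2 (mem_centralizer_iff.2 fun y hy => ?_))
      have hy' : (⟨y, hy⟩ : L) ∈ centralizer ({(⟨de, hde.2⟩ : L)} : Set L) := by rw [hc]; exact mem_top _
      have h := congrArg Subtype.val (mem_centralizer_singleton_iff.1 hy')
      exact h
    intro u hu hu' hu2
    refine mem_centralizer_singleton_iff.2 (Subtype.ext ?_)
    show k * u * k⁻¹ * de = de * (k * u * k⁻¹)
    obtain ⟨b, hb, hbu⟩ := hfull u hu hu2
    have h1 : e * (k * u * k⁻¹) * e⁻¹ = k * u * k⁻¹ := by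
      have h2 : Commute e (k * b * k⁻¹) := hcon b hb
      have h3 : Commute (b⁻¹ * u) k := (mem_centralizer_iff.1 hbu k hkL).symm
      have h4 : k * u * k⁻¹ = (k * b * k⁻¹) * (b⁻¹ * u) := by
        calc k * u * k⁻¹ = (k * b * k⁻¹) * (k * (b⁻¹ * u) * k⁻¹) := by group
          _ = _ := by rw [← h3.eq, mul_inv_cancel_right]
      set c := b⁻¹ * u
      set t := k * u * k⁻¹ with ht
      have ht' : e * t * e⁻¹ = (k * b * k⁻¹) * (e * c * e⁻¹) := by
        rw [h4]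
        calc e * (k * b * k⁻¹ * c) * e⁻¹ = (e * (k * b * k⁻¹) * e⁻¹) * (e * c * e⁻¹) := by group
          _ = _ := by rw [h2.eq, mul_inv_cancel_right]
      have hec : e * c * e⁻¹ ∈ centralizer (L : Set Y) := mem_centralizer_iff.2 fun y hy => by
        have h5 := mem_centralizer_iff.1 hbu (e⁻¹ * y * e) (by
          have := (mem_normalizer_iff.1 ((normalizer (L : Set Y)).inv_mem (hAN he)) y).1 hy
          simpa using this)
        calc y * (e * c * e⁻¹) = e * ((e⁻¹ * y * e) * c) * e⁻¹ := by group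
          _ = e * (c * (e⁻¹ * y * e)) * e⁻¹ := by rw [h5]
          _ = _ := by group
      refine (r.inner_unique hL ((mem_normalizer_iff.1 (hAN he) t).1 hu') hu' fun y hy => ?_)
      rw [ht', h4]
      calc k * b * k⁻¹ * (e * c * e⁻¹) * y * (k * b * k⁻¹ * (e * c * e⁻¹))⁻¹
          = k * b * k⁻¹ * ((e * c * e⁻¹) * y * (e * c * e⁻¹)⁻¹) * (k * b * k⁻¹)⁻¹ := by group
        _ = k * b * k⁻¹ * y * (k * b * k⁻¹)⁻¹ := by
          rw [← mem_centralizer_iff.1 hec y hy, mul_inv_cancel_right]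
        _ = k * b * k⁻¹ * (c * y * c⁻¹) * (k * b * k⁻¹)⁻¹ := by
          rw [← mem_centralizer_iff.1 hbu y hy, mul_inv_cancel_right]
        _ = _ := by group
    rw [hdeact _ hu'] at h1
    exact (mul_inv_eq_iff_eq_mul.1 h1).symm
  have hwL : ⁅e, k * b * k⁻¹⁆ ∈ L := by
    have hm : ⁅k, b⁆ ∈ L := by
      rw [commutatorElement_def, show k * b * k⁻¹ * b⁻¹ = k * (b * k⁻¹ * b⁻¹) by group]
      exact L.mul_mem hkL ((mem_normalizer_iff.1 (hAN hb) _).1 (L.inv_mem hkL))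
    have heb : Commute e b := PGroups.elemAb_comm hA he hb
    have e1 : ⁅e, k * b * k⁻¹⁆ = (e * ⁅k, b⁆ * e⁻¹) * ⁅k, b⁆⁻¹ := by
      rw [show k * b * k⁻¹ = ⁅k, b⁆ * b by rw [commutatorElement_def]; group]
      generalize ⁅k, b⁆ = m
      rw [commutatorElement_def]
      calc e * (m * b) * e⁻¹ * (m * b)⁻¹ = (e * m * e⁻¹) * (e * b * e⁻¹) * b⁻¹ * m⁻¹ := by group
        _ = _ := by rw [heb.eq, mul_inv_cancel_right, mul_inv_cancel_right]
    rw [e1]
    exact L.mul_mem ((mem_normalizer_iff.1 (hAN he) _).1 hm) (L.inv_mem hm)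
  have hwH : ⁅e, k * b * k⁻¹⁆ ∈ H := by
    have h1 : e ∈ H := mem_sup_left (mem_zpowers e)
    have h2 : k * b * k⁻¹ ∈ H := mem_sup_right ⟨b, hb, rfl⟩
    rw [commutatorElement_def]
    exact mul_mem (mul_mem (mul_mem h1 h2) (inv_mem h1)) (inv_mem h2)
  refine Subgroup.subgroupOf_eq_top.1 (hnorm.eq_bot_or_eq_top.resolve_left fun h => hw ?_)
  have h1 : (⟨_, hwL⟩ : L) ∈ H.subgroupOf L := Subgroup.mem_subgroupOf.2 hwH
  rw [h, Subgroup.mem_bot] at h1
  exact commutatorElement_eq_one_iff_mul_comm.1 (congrArg Subtype.val h1)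

end Cfsg.Agent.Lib.Stellmacher55
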