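import Cfsg.Agent.Lib.Stellmacher55.Comp

/-!
# Pairs outside the maximal subgroup from a component

Owner: helper55.
-/

set_option autoImplicit false
set_option linter.style.haveILetI false
set_option linter.unusedSectionVars false

namespace Cfsg.Agent.Lib.Stellmacher55

open Subgroup PLocal
open scoped commutatorElement

universe u

variable {Y : Type u} [Group Y] [Finite Y] {S : Sylow 2 Y} {M L : Subgroup Y}

theorem PairSize.mono {f f' p : ℕ} (h : PairSize f' p) (hf : f ≤ f') : PairSize f p := fun n hn hm =>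
  lt_of_le_of_lt (Nat.pow_le_pow_left hf 2) (h n hn hm)

/-- Few representatives bound the index. -/
theorem relIndex_le_of_cover {ι : Type*} [Finite ι] {A B : Subgroup Y} (f : ι → Y)
    (h : ∀ e ∈ A, ∃ i, (f i)⁻¹ * e ∈ B) : B.relIndex A ≤ Nat.card ι := by
  have h' : ∀ z : ↥A ⧸ B.subgroupOf A, ∃ i, ∀ e : A, (QuotientGroup.mk e : ↥A ⧸ B.subgroupOf A) = z →
      (f i)⁻¹ * (e : Y) ∈ B := by
    intro z
    obtain ⟨e, rfl⟩ := QuotientGroup.mk_surjective z
    obtain ⟨i, hi⟩ := h e e.2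
    refine ⟨i, fun e' he' => ?_⟩
    have h1 := Subgroup.mem_subgroupOf.1 (QuotientGroup.eq.1 he'.symm)
    have := B.mul_mem hi h1
    simpa [mul_assoc] using this
  choose g hg using h'
  refine Nat.card_le_card_of_injective g fun z z' hzz => ?_
  obtain ⟨e, rfl⟩ := QuotientGroup.mk_surjective z
  obtain ⟨e', rfl⟩ := QuotientGroup.mk_surjective z'
  refine QuotientGroup.eq.2 (Subgroup.mem_subgroupOf.2 ?_)
  have h1 := hg _ e rfl
  have h2 := hg _ e' rfl
  rw [← hzz] at h2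
  have h3 := B.mul_mem (B.inv_mem h1) h2
  simpa [mul_assoc] using h3

/-- A complement in an elementary abelian group. -/
theorem exists_compl {A A₀ : Subgroup Y} (hA : Cfsg.IsElementaryAbelian 2 A) :
    ∃ D : Subgroup Y, D ≤ A ∧ D ⊓ A₀ = ⊥ ∧ ∀ e ∈ A, ∃ b ∈ A₀, ∃ c ∈ D, e = b * c := by
  obtain ⟨D, ⟨hDA, hD⟩, hmax⟩ := (Set.toFinite {D : Subgroup Y | D ≤ A ∧ D ⊓ A₀ = ⊥}).exists_maximal
    ⟨⊥, bot_le, bot_inf_eq _⟩
  refine ⟨D, hDA, hD, fun e he => ?_⟩
  by_cases heD : e ∈ D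
  · exact ⟨1, one_mem _, e, heD, (one_mul e).symm⟩
  have hne : ¬ (D ⊔ zpowers e) ⊓ A₀ = ⊥ := fun h =>
    heD (hmax ⟨sup_le hDA (zpowers_le.2 he), h⟩ le_sup_left (mem_sup_right (mem_zpowers e)))
  obtain ⟨⟨w, hw, hw0⟩, hw1⟩ : ∃ w : ↥((D ⊔ zpowers e) ⊓ A₀), w ≠ 1 := by
    by_contra hcon
    push Not at hcon
    exact hne ((Subgroup.eq_bot_iff_forall _).2 fun x hx => congrArg Subtype.val (hcon ⟨x, hx⟩))
  have hn : zpowers e ≤ normalizer (D : Set Y) := zpowers_le.2 (Subgroup.centralizer_le_normalizer _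
    (mem_centralizer_iff.2 fun d hd => PGroups.elemAb_comm hA (hDA hd) he))
  have hw' : w ∈ ((D ⊔ zpowers e : Subgroup Y) : Set Y) := hw
  rw [Subgroup.coe_mul_of_right_le_normalizer_left _ _ hn] at hw'
  obtain ⟨d, hd, _, ⟨i, rfl⟩, rfl⟩ := hw'
  simp only at hw0 hw1
  have he2 : e ^ (2 : ℤ) = 1 := by rw [zpow_ofNat]; exact hA.2 e he
  rcases Int.emod_two_eq_zero_or_one i with hi | hi
  · exfalso
    have h1 : e ^ i = 1 := by
      obtain ⟨m, rfl⟩ : (2 : ℤ) ∣ i := Int.dvd_of_emod_eq_zero hi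
      rw [zpow_mul, he2, one_zpow]
    rw [h1, mul_one] at hw0
    have h2 : d ∈ D ⊓ A₀ := ⟨hd, hw0⟩
    rw [hD, Subgroup.mem_bot] at h2
    exact hw1 (Subtype.ext (by simp [h1, h2]))
  · have h1 : e ^ i = e := by
      rw [← Int.mul_ediv_add_emod i 2, hi, zpow_add, zpow_mul, he2, one_zpow, one_mul, zpow_one]
    rw [h1] at hw0
    refine ⟨d * e, hw0, d, hd, ?_⟩
    have hd2 : d * d = 1 := by rw [← pow_two]; exact hA.2 d (hDA hd)
    rw [mul_assoc, PGroups.elemAb_comm hA he (hDA hd), ← mul_assoc, hd2, one_mul]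

/-- An element of a component extends to one centralised by `D`, which moves the component. -/
theorem exists_fixed (hL : Cfsg.IsComponent L) {A : Subgroup Y} (hA : Cfsg.IsElementaryAbelian 2 A)
    (s : Finset Y) (hs : ∀ c ∈ s, c ∈ A)
    (hfree : ∀ c ∈ Subgroup.closure (s : Set Y), c ∈ normalizer (L : Set Y) → c = 1) {y : Y} (hy : y ∈ L) :
    ∃ x, x ∈ (⨆ c : Subgroup.closure (s : Set Y), conjOf (c : Y) L) ∧
      x ∈ centralizer ((Subgroup.closure (s : Set Y) : Subgroup Y) : Set Y) ∧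
      x * y⁻¹ ∈ centralizer (L : Set Y) := by
  classical
  induction s using Finset.induction_on with
  | empty =>
    refine ⟨y, Subgroup.mem_iSup_of_mem 1 (by rw [Subgroup.coe_one, conjOf_one]; exact hy), ?_,
      by rw [mul_inv_cancel]; exact one_mem _⟩
    rw [Finset.coe_empty, Subgroup.closure_empty]
    exact mem_centralizer_iff.2 fun z hz => by rw [SetLike.mem_coe, Subgroup.mem_bot] at hz; simp [hz]
  | insert c s hc ih =>
    set D' := Subgroup.closure (s : Set Y) with hD'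
    set D := Subgroup.closure ((insert c s : Finset Y) : Set Y) with hD
    have hDD : D' ≤ D := Subgroup.closure_mono (by simp)
    have hcD : c ∈ D := Subgroup.subset_closure (by simp)
    have hDA : D ≤ A := (Subgroup.closure_le _).2 hs
    have hsup : D = D' ⊔ zpowers c := by
      rw [hD, Finset.coe_insert, Set.insert_eq, Subgroup.closure_union, ← zpowers_eq_closure, sup_comm]
    obtain ⟨x, hxW, hxC, hxy⟩ := ih (fun d hd => hs d (Finset.mem_insert_of_mem hd))
      (fun d hd => hfree d (hDD hd))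
    by_cases hcD' : c ∈ D'
    · have e : D = D' := by rw [hsup]; exact sup_eq_left.2 (zpowers_le.2 hcD')
      rw [e]
      exact ⟨x, hxW, hxC, hxy⟩
    set W := ⨆ d : D', conjOf (d : Y) L
    have hWD : W ≤ ⨆ d : D, conjOf (d : Y) L :=
      iSup_le fun d => le_iSup (fun d : D => conjOf (d : Y) L) ⟨d, hDD d.2⟩
    have hcW : conjOf c W ≤ (⨆ d : D, conjOf (d : Y) L) ⊓ centralizer (W : Set Y) := by
      rw [conjOf, Subgroup.map_iSup]
      refine iSup_le fun d => ?_
      show conjOf c (conjOf (d : Y) L) ≤ _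
      rw [← conjOf_mul]
      refine le_inf (le_iSup (fun d : D => conjOf (d : Y) L) ⟨c * d, D.mul_mem hcD (hDD d.2)⟩) ?_
      refine Subgroup.le_centralizer_iff.1 (iSup_le fun d' => ?_)
      refine Components.Component.le_centralizer_of_ne (Components.Component.conj hL d')
        (Components.Component.conj hL (c * d)) fun h => hcD' ?_
      have h1 : ((d' : Y)⁻¹ * (c * d)) ∈ normalizer (L : Set Y) := by
        refine conjOf_eq_iff.1 ?_
        rw [conjOf_mul, ← h, ← conjOf_mul, inv_mul_cancel, conjOf_one]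
      have h2 := hfree _ (D.mul_mem (D.inv_mem (hDD d'.2)) (D.mul_mem hcD (hDD d.2))) h1
      rw [inv_mul_eq_one] at h2
      rw [show c = (d' : Y) * (d : Y)⁻¹ by rw [h2]; group]
      exact D'.mul_mem d'.2 (D'.inv_mem d.2)
    have hx' : c * x * c⁻¹ ∈ conjOf c W := conj_mem_conjOf hxW
    have hcomm : Commute x (c * x * c⁻¹) := mem_centralizer_iff.1 (hcW hx').2 x hxW
    have hc2 : c * c = 1 := by rw [← pow_two]; exact hA.2 c (hDA hcD)
    refine ⟨x * (c * x * c⁻¹), mul_mem (hWD hxW) (hcW hx').1, ?_, ?_⟩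
    · rw [hsup]
      refine Subgroup.le_centralizer_iff.1 (sup_le ?_ ?_) (mem_zpowers (x * (c * x * c⁻¹))) <;>
        refine Subgroup.le_centralizer_iff.1 (zpowers_le.2 ?_)
      · refine mem_centralizer_iff.2 fun d hd => ?_
        have h1 : Commute d x := mem_centralizer_iff.1 hxC d hd
        have h2 : Commute d c := PGroups.elemAb_comm hA (hDA (hDD hd)) (hDA hcD)
        exact (h1.mul_right ((h2.mul_right h1).mul_right h2.inv_right)).eq
      · refine mem_centralizer_iff.2 fun d hd => ?_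
        obtain ⟨i, rfl⟩ := hd
        refine (Commute.zpow_left ?_ i).eq
        have e : c⁻¹ = c := inv_eq_of_mul_eq_one_right hc2
        show c * (x * (c * x * c⁻¹)) = x * (c * x * c⁻¹) * c
        calc c * (x * (c * x * c⁻¹)) = (c * x * c⁻¹) * ((c * c) * x * (c * c)⁻¹) * c := by group
          _ = (c * x * c⁻¹) * x * c := by rw [hc2]; group
          _ = x * (c * x * c⁻¹) * c := by rw [hcomm.eq]
    · have h1 : c * x * c⁻¹ ∈ centralizer (L : Set Y) := by
        refine Subgroup.centralizer_le ?_ (hcW hx').2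
        exact le_trans (b := conjOf ((1 : D') : Y) L) (by rw [Subgroup.coe_one, conjOf_one])
          (le_iSup (fun d : D' => conjOf (d : Y) L) 1)
      have h2 : (c * x * c⁻¹) * y⁻¹ = y⁻¹ * (c * x * c⁻¹) :=
        (mem_centralizer_iff.1 h1 y⁻¹ (L.inv_mem hy)).symm
      rw [mul_assoc, h2, ← mul_assoc]
      exact mul_mem hxy h1

/-- The end of a pair: `[a, x]` congruent to an element of `L` of order divisible by `p`. -/
theorem Semi.pair_of_congr (r : Semi S M) {q p : ℕ} (hL : Cfsg.IsComponent L) (hz : SzLike L q p)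
    {A B : Subgroup Y} (hBA : B ≤ A) {a x w : Y} (ha : a ∈ A) (haB : a ∉ B)
    (hx : x ∈ centralizer (B : Set Y)) (hw : w ∈ L) (hwx : w⁻¹ * ⁅a, x⁆ ∈ centralizer (L : Set Y))
    (hdvd : p ∣ orderOf w) (hB : B.relIndex A ≤ q) :
    ∃ k, YPair A B a x k p ∧ k ∉ M ∧ (⁅a, x⁆ ∈ L → k ∈ L) := by
  have hp := hz.prime
  set v := ⁅a, x⁆
  set n := orderOf v with hn
  have hn0 : n ≠ 0 := (orderOf_pos v).ne'
  set m := n / p ^ n.factorization p with hm
  have hmp : ¬ p ∣ m := Nat.not_dvd_ordCompl hp hn0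
  have hmdvd : m ∣ n := Nat.ordCompl_dvd n p
  have hcomm : Commute w (w⁻¹ * v) := mem_centralizer_iff.1 hwx w hw
  have hpow : ∀ i : ℕ, (w ^ i)⁻¹ * v ^ i ∈ centralizer (L : Set Y) := fun i => by
    rw [show v = w * (w⁻¹ * v) by group, hcomm.mul_pow, inv_mul_cancel_left]
    exact pow_mem hwx i
  have hwn : orderOf w ∣ n := by
    refine orderOf_dvd_of_pow_eq_one (r.eq_one hL (L.pow_mem hw n) ?_)
    have := hpow n
    rw [hn, pow_orderOf_eq_one, mul_one] at this
    rw [hn]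
    exact inv_mem_iff.1 this
  have hk : orderOf (v ^ m) = p ^ n.factorization p := by
    rw [orderOf_pow_of_dvd (fun h => hmp (by rw [h]; exact dvd_zero p)) hmdvd, ← hn, hm,
      Nat.div_div_self (Nat.ordProj_dvd n p) hn0]
  have hk0 : p ∣ orderOf (w ^ m) := by
    rw [orderOf_pow' w (fun h => hmp (by rw [h]; exact dvd_zero p))]
    refine Nat.Coprime.dvd_of_dvd_mul_right (n := (orderOf w).gcd m) ?_ ?_
    · exact ((hp.coprime_iff_not_dvd).2 fun h => hmp (h.trans (Nat.gcd_dvd_right _ _)))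
    · rw [Nat.div_mul_cancel (Nat.gcd_dvd_left _ _)]; exact hdvd
  have hkM : v ^ m ∉ M := r.not_mem_of_congr hL hz (L.pow_mem hw m) (hpow m) hk0
  exact ⟨v ^ m, ⟨hBA, ha, haB, hp, hz.ne_two, ⟨_, hk⟩, hx, pow_mem (mem_zpowers _) m,
    fun h => hkM (h ▸ M.one_mem), hz.size.mono hB⟩, hkM, fun h => L.pow_mem h m⟩

theorem Semi.exists_comp_moved (r : Semi S M) {A : Subgroup Y} (hne : A ≠ ⊥) :
    ∃ L : Subgroup Y, Cfsg.IsComponent L ∧ ¬ A ≤ centralizer (L : Set Y) := by
  by_contra hcon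
  push Not at hcon
  obtain ⟨L, hL⟩ := r.exists_component
  exact hne ((Subgroup.eq_bot_iff_forall _).2 fun x hx => r.eq_one_of_forall hL fun s _ =>
    hcon _ (Components.Component.conj hL s) hx)

/-- The pair at a component normalised, but not centralised, by `a`, for a complement `D` to `A ∩ N(L)`. -/
theorem Semi.pair_inner (r : Semi S M) {q p : ℕ} (hL : Cfsg.IsComponent L) (hz : SzLike L q p)
    {A D : Subgroup Y} (hAS : A ≤ (S : Subgroup Y)) (hA : Cfsg.IsElementaryAbelian 2 A) (hDA : D ≤ A)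
    (hcov : ∀ e ∈ A, ∃ b ∈ A ⊓ normalizer (L : Set Y), ∃ c ∈ D, e = b * c) {a : Y} (ha : a ∈ A)
    (haN : a ∈ normalizer (L : Set Y)) (haC : a ∉ centralizer (L : Set Y))
    (hfree : ∀ c ∈ D, c ∈ normalizer (L : Set Y) → c = 1) :
    ∃ (x k : Y), YPair A ((A ⊓ centralizer (L : Set Y)) ⊔ D) a x k p ∧ k ∉ M ∧
      (D = ⊥ → x ∈ L ∧ k ∈ L) := by
  classical
  set B := (A ⊓ centralizer (L : Set Y)) ⊔ D with hB
  -- the elements of `S ∩ L` acting as the elements of `A ∩ N(L)`
  set E : Set Y := {d | d ∈ (S : Subgroup Y) ⊓ L ∧ ∃ b ∈ A, b ∈ normalizer (L : Set Y) ∧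
    ∀ y ∈ L, b * y * b⁻¹ = d * y * d⁻¹} with hE
  have hEsq : ∀ d ∈ E, d * d = 1 := by
    rintro d ⟨hd, b, hb, -, hact⟩
    refine r.eq_one hL (L.mul_mem hd.2 hd.2) (mem_centralizer_iff.2 fun y hy => ?_)
    have h1 : b * (b * y * b⁻¹) * b⁻¹ = d * (d * y * d⁻¹) * d⁻¹ := by
      rw [hact y hy, hact _ (L.mul_mem (L.mul_mem hd.2 hy) (L.inv_mem hd.2))]
    have h2 : b * (b * y * b⁻¹) * b⁻¹ = y := by
      calc b * (b * y * b⁻¹) * b⁻¹ = (b * b) * y * (b * b)⁻¹ := by group
        _ = y := by rw [← pow_two, hA.2 b hb]; group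
    rw [h2] at h1
    calc y * (d * d) = d * (d * y * d⁻¹) * d⁻¹ * (d * d) := by rw [← h1]
      _ = d * d * y := by group
  have hEcard : Nat.card E ≤ q := by
    obtain ⟨U, hU⟩ := exists_sylow S hL
    let D₁ : Subgroup L := Subgroup.closure {d : L | (d : Y) ∈ E}
    have hD₁ : Cfsg.IsElementaryAbelian 2 D₁ := by
      have hmemU : ∀ d : L, (d : Y) ∈ E → d ∈ (U : Subgroup L) := fun d hd =>
        hU ▸ Subgroup.mem_subgroupOf.2 hd.1.1
      have hcentral : ∀ d : L, (d : Y) ∈ E → d ∈ centralizer ((U : Subgroup L) : Set L) := fun d hd =>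
        hz.inv_central U d (hmemU d hd) (Subtype.ext (hEsq _ hd))
      have hcl : D₁ ≤ (U : Subgroup L) ⊓ centralizer (D₁ : Set L) := by
        refine (Subgroup.closure_le _).2 fun d hd => ⟨hmemU d hd, ?_⟩
        exact Subgroup.centralizer_le ((Subgroup.closure_le _).2 fun d' hd' => hmemU d' hd') (hcentral d hd)
      refine PGroups.elemAb_mk (fun x hx y hy => mem_centralizer_iff.1 (hcl hy).2 x hx) fun x hx => ?_
      induction hx using Subgroup.closure_induction with
      | mem x hx => rw [pow_two]; exact Subtype.ext (hEsq _ hx)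
      | one => exact one_pow _
      | mul x y hx hy h1 h2 =>
        rw [(show Commute x y from mem_centralizer_iff.1 (hcl hy).2 x hx).mul_pow, h1, h2, one_mul]
      | inv x _ h1 => rw [inv_pow, h1, inv_one]
    refine le_trans ?_ (hz.card_le D₁ hD₁)
    exact Nat.card_le_card_of_injective
      (fun d : E => (⟨⟨d.1, d.2.1.2⟩, Subgroup.subset_closure d.2⟩ : D₁))
      fun d d' h => Subtype.ext (congrArg (fun z : D₁ => ((z : L) : Y)) h)
  have hBidx : B.relIndex A ≤ q := by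
    refine le_trans ?_ hEcard
    refine relIndex_le_of_cover (fun d : E => d.2.2.choose) fun e he => ?_
    obtain ⟨b, hb, c, hc, rfl⟩ := hcov e he
    obtain ⟨d, hd, hact⟩ := r.exists_inner hL hz (hAS hb.1) hb.2
    have hdE : d ∈ E := ⟨hd, b, hb.1, hb.2, hact⟩
    refine ⟨⟨d, hdE⟩, ?_⟩
    obtain ⟨hrA, -, hract⟩ := hdE.2.choose_spec
    set rep := hdE.2.choose
    rw [← mul_assoc]
    refine B.mul_mem (mem_sup_left ⟨A.mul_mem (A.inv_mem hrA) hb.1, mem_centralizer_iff.2 fun y hy => ?_⟩)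
      (mem_sup_right hc)
    calc y * (rep⁻¹ * b) = rep⁻¹ * (rep * y * rep⁻¹) * b := by group
      _ = rep⁻¹ * (b * y * b⁻¹) * b := by rw [hract y hy, hact y hy]
      _ = rep⁻¹ * b * y := by group
  obtain ⟨d, hd, hact⟩ := r.exists_inner hL hz (hAS ha) haN
  have hd1 : d ≠ 1 := by
    rintro rfl
    exact haC (mem_centralizer_iff.2 fun y hy => by
      have := hact y hy
      simp only [one_mul, inv_one, mul_one] at this
      exact (mul_inv_eq_iff_eq_mul.1 this).symm)
  have hd2 : d * d = 1 := hEsq d ⟨hd, a, ha, haN, hact⟩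
  obtain ⟨g, hg⟩ := hz.pair ⟨d, hd.2⟩ (by
    rw [← Subgroup.orderOf_coe]; exact orderOf_eq_prime (by rw [pow_two, hd2]) hd1)
  rw [← Subgroup.orderOf_coe] at hg
  simp only [Subgroup.coe_mul, Subgroup.coe_inv] at hg
  obtain ⟨s, hs⟩ : ∃ s : Finset Y, Subgroup.closure (s : Set Y) = D :=
    ⟨(Set.toFinite (D : Set Y)).toFinset, by rw [Set.Finite.coe_toFinset, Subgroup.closure_eq]⟩
  obtain ⟨x, hxW, hxC, hxy⟩ := exists_fixed hL hA s
    (fun c hc => hDA (hs ▸ Subgroup.subset_closure hc)) (by rw [hs]; exact hfree) (g.2 : (g : Y) ∈ L)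
  rw [hs] at hxW hxC
  have hxB : x ∈ centralizer (B : Set Y) := by
    rw [hB]
    refine Subgroup.le_centralizer_iff.1 (sup_le ?_ ?_) (mem_zpowers x) <;>
      refine Subgroup.le_centralizer_iff.1 (zpowers_le.2 ?_)
    · refine (iSup_le fun c => ?_ : (⨆ c : D, conjOf (c : Y) L) ≤ _) hxW
      rintro _ ⟨l, hl, rfl⟩
      refine mem_centralizer_iff.2 fun b hb => ?_
      have h1 : Commute b (c : Y) := PGroups.elemAb_comm hA hb.1 (hDA c.2)
      have h2 : Commute b l := (mem_centralizer_iff.1 hb.2 l hl).symm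
      exact ((h1.mul_right h2).mul_right h1.inv_right).eq
    · exact hxC
  have hgC : (g : Y)⁻¹ * x ∈ centralizer (L : Set Y) := by
    have h1 : x * (g : Y)⁻¹ * g = g * (x * (g : Y)⁻¹) := (mem_centralizer_iff.1 hxy g g.2).symm
    rw [inv_mul_cancel_right] at h1
    have h2 : (g : Y)⁻¹ * x = x * (g : Y)⁻¹ := by
      conv_lhs => rw [h1]
      group
    rwa [h2]
  -- the commutator
  set w := d * ((g : Y) * d * (g : Y)⁻¹) with hw
  have hwa : w = a * (g : Y) * a⁻¹ * (g : Y)⁻¹ := by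
    rw [hact g g.2, hw, inv_eq_of_mul_eq_one_right hd2]; group
  have hwx : w⁻¹ * ⁅a, x⁆ ∈ centralizer (L : Set Y) := by
    set c := (g : Y)⁻¹ * x with hc
    have hx' : x = g * c := by rw [hc, mul_inv_cancel_left]
    have hac : a * c * a⁻¹ * c⁻¹ ∈ centralizer (L : Set Y) := by
      refine mul_mem ?_ (inv_mem hgC)
      refine mem_centralizer_iff.2 fun y hy => ?_
      have h1 := mem_centralizer_iff.1 hgC (a⁻¹ * y * a) (by
        have := (mem_normalizer_iff.1 ((normalizer (L : Set Y)).inv_mem haN) y).1 hy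
        simpa using this)
      calc y * (a * c * a⁻¹) = a * ((a⁻¹ * y * a) * c) * a⁻¹ := by group
        _ = a * (c * (a⁻¹ * y * a)) * a⁻¹ := by rw [h1]
        _ = a * c * a⁻¹ * y := by group
    have h3 : (g : Y) * (a * c * a⁻¹ * c⁻¹) * (g : Y)⁻¹ = a * c * a⁻¹ * c⁻¹ := by
      rw [mul_inv_eq_iff_eq_mul]; exact mem_centralizer_iff.1 hac g g.2
    have e : w⁻¹ * ⁅a, x⁆ = (g : Y) * (a * c * a⁻¹ * c⁻¹) * (g : Y)⁻¹ := by
      rw [hwa, hx']; simp only [commutatorElement_def, _root_.mul_inv_rev, inv_inv]; group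
    rw [e, h3]; exact hac
  have haB : a ∉ B := by
    intro h
    have hn : D ≤ normalizer ((A ⊓ centralizer (L : Set Y) : Subgroup Y) : Set Y) := fun c hc =>
      Subgroup.centralizer_le_normalizer _ (mem_centralizer_iff.2 fun z hz => PGroups.elemAb_comm hA hz.1 (hDA hc))
    rw [hB, ← SetLike.mem_coe, Subgroup.coe_mul_of_right_le_normalizer_left _ _ hn] at h
    obtain ⟨b, hb, c, hc, rfl⟩ := h
    have hc1 : c = 1 := hfree c hc (by
      have := (normalizer (L : Set Y)).mul_mem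
        ((normalizer (L : Set Y)).inv_mem (Subgroup.centralizer_le_normalizer _ hb.2)) haN
      simpa using this)
    exact haC (by simp only [hc1, mul_one]; exact hb.2)
  obtain ⟨k, hk, hkM, hkL⟩ := r.pair_of_congr hL hz
    (sup_le inf_le_left hDA) ha haB hxB
    (L.mul_mem hd.2 (L.mul_mem (L.mul_mem g.2 hd.2) (L.inv_mem g.2))) hwx hg hBidx
  refine ⟨x, k, hk, hkM, fun hbot => ?_⟩
  have hxL : x ∈ L := by
    subst hbot
    refine (iSup_le fun c => ?_ : (⨆ c : (⊥ : Subgroup Y), conjOf (c : Y) L) ≤ L) hxW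
    rw [Subgroup.mem_bot.1 c.2, conjOf_one]
  refine ⟨hxL, hkL ?_⟩
  rw [commutatorElement_def]
  exact L.mul_mem ((mem_normalizer_iff.1 haN x).1 hxL) (L.inv_mem hxL)

/-- A pair outside the maximal subgroup. -/
theorem Semi.exists_pair_out (r : Semi S M) (hK : SThreeFree21.SThreeFreeSimple.{u}) {A : Subgroup Y}
    (hAS : A ≤ (S : Subgroup Y)) (hA : Cfsg.IsElementaryAbelian 2 A) (hne : A ≠ ⊥) :
    ∃ (B : Subgroup Y) (a x k : Y) (p : ℕ), YPair A B a x k p ∧ k ∉ M := by
  classical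
  obtain ⟨L, hL, hLA⟩ := r.exists_comp_moved hne
  obtain ⟨q, p, hz⟩ := r.szLike hK hL
  set A₀ := A ⊓ normalizer (L : Set Y) with hA₀
  by_cases hA₀C : A₀ ≤ centralizer (L : Set Y)
  · -- every element of `A` normalising `L` centralises it
    obtain ⟨a, ha, haC⟩ := SetLike.not_le_iff_exists.1 hLA
    have haN : a ∉ normalizer (L : Set Y) := fun h => haC (hA₀C ⟨ha, h⟩)
    obtain ⟨D, hDA, hD, hcov⟩ := exists_compl (A₀ := A₀ ⊔ zpowers a) hA
    set B := A₀ ⊔ D with hB
    have hn : zpowers a ≤ normalizer (A₀ : Set Y) := zpowers_le.2 (Subgroup.centralizer_le_normalizer _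
      (mem_centralizer_iff.2 fun z hz => PGroups.elemAb_comm hA hz.1 ha))
    have hfree : ∀ c ∈ D, c ∈ normalizer (L : Set Y) → c = 1 := fun c hc hcN => by
      have h : c ∈ D ⊓ (A₀ ⊔ zpowers a) := ⟨hc, mem_sup_left ⟨hDA hc, hcN⟩⟩
      rwa [hD, Subgroup.mem_bot] at h
    have hac : ∀ c ∈ D, a * c ∉ normalizer (L : Set Y) := fun c hc h => by
      have h1 : c ∈ D ⊓ (A₀ ⊔ zpowers a) := ⟨hc, by
        rw [show c = a⁻¹ * (a * c) by group]
        exact mul_mem (mem_sup_right (inv_mem (mem_zpowers a))) (mem_sup_left ⟨A.mul_mem ha (hDA hc), h⟩)⟩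
      rw [hD, Subgroup.mem_bot] at h1
      rw [h1, mul_one] at h
      exact haN h
    have haB : a ∉ B := by
      intro h
      have hn' : D ≤ normalizer (A₀ : Set Y) := fun c hc => Subgroup.centralizer_le_normalizer _
        (mem_centralizer_iff.2 fun z hz => PGroups.elemAb_comm hA hz.1 (hDA hc))
      rw [hB, ← SetLike.mem_coe, Subgroup.coe_mul_of_right_le_normalizer_left _ _ hn'] at h
      obtain ⟨b, hb, c, hc, rfl⟩ := h
      refine hac c hc ?_
      simp only [mul_assoc]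
      rw [← pow_two, hA.2 c (hDA hc), mul_one]
      exact hb.2
    have hBidx : B.relIndex A ≤ q := by
      refine le_trans (le_trans (relIndex_le_of_cover (fun i : Fin 2 => a ^ (i : ℕ)) fun e he => ?_)
        (le_of_eq (Nat.card_fin 2))) hz.two_le
      obtain ⟨b, hb, c, hc, he'⟩ := hcov e he
      rw [← SetLike.mem_coe, Subgroup.coe_mul_of_right_le_normalizer_left _ _ hn] at hb
      obtain ⟨b₀, hb₀, _, ⟨i, rfl⟩, rfl⟩ := hb
      have hi : a ^ i = 1 ∨ a ^ i = a := by
        have ha2 : a ^ (2 : ℤ) = 1 := by rw [zpow_ofNat]; exact hA.2 a ha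
        rcases Int.emod_two_eq_zero_or_one i with h | h
        · left; rw [← Int.mul_ediv_add_emod i 2, h, add_zero, zpow_mul, ha2, one_zpow]
        · right; rw [← Int.mul_ediv_add_emod i 2, h, zpow_add, zpow_mul, ha2, one_zpow, one_mul, zpow_one]
      simp only at he'
      have hbc : b₀ * c ∈ B := mul_mem (mem_sup_left hb₀) (mem_sup_right hc)
      rcases hi with hi | hi <;> rw [hi] at he'
      · exact ⟨0, by simpa [he'] using hbc⟩
      · refine ⟨1, ?_⟩
        rw [he', Fin.val_one, pow_one, ← mul_assoc, PGroups.elemAb_comm hA hb₀.1 ha, inv_mul_cancel_left]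
        exact hbc
    haveI := Fact.mk hz.prime
    obtain ⟨U, hU⟩ := exists_sylow S hL
    obtain ⟨u, hu, hu2, -⟩ := r.exists_central hL
    obtain ⟨g, hg⟩ := hz.pair ⟨u, hu.2⟩ (by rw [Subgroup.orderOf_mk, hu2])
    obtain ⟨y, hy⟩ := exists_prime_orderOf_dvd_card' (G := L) p (hg.trans (orderOf_dvd_natCard _))
    obtain ⟨s, hs⟩ : ∃ s : Finset Y, Subgroup.closure (s : Set Y) = D :=
      ⟨(Set.toFinite (D : Set Y)).toFinset, by rw [Set.Finite.coe_toFinset, Subgroup.closure_eq]⟩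
    obtain ⟨x, hxW, hxC, hxy⟩ := exists_fixed hL hA s
      (fun c hc => hDA (hs ▸ Subgroup.subset_closure hc)) (by rw [hs]; exact hfree) (y.2 : (y : Y) ∈ L)
    rw [hs] at hxW hxC
    have hxB : x ∈ centralizer (B : Set Y) := by
      rw [hB]
      refine Subgroup.le_centralizer_iff.1 (sup_le ?_ ?_) (mem_zpowers x) <;>
        refine Subgroup.le_centralizer_iff.1 (zpowers_le.2 ?_)
      · refine (iSup_le fun c => ?_ : (⨆ c : D, conjOf (c : Y) L) ≤ _) hxW
        rintro _ ⟨l, hl, rfl⟩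
        refine mem_centralizer_iff.2 fun b hb => ?_
        have h1 : Commute b (c : Y) := PGroups.elemAb_comm hA hb.1 (hDA c.2)
        have h2 : Commute b l := (mem_centralizer_iff.1 (hA₀C hb) l hl).symm
        exact ((h1.mul_right h2).mul_right h1.inv_right).eq
      · exact hxC
    have haxa : a * x * a⁻¹ ∈ centralizer (L : Set Y) := by
      refine ((Subgroup.map_iSup (f := (MulAut.conj a).toMonoidHom) _).le.trans (iSup_le fun c => ?_) :
        conjOf a (⨆ c : D, conjOf (c : Y) L) ≤ centralizer (L : Set Y)) (conj_mem_conjOf hxW)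
      show conjOf a (conjOf (c : Y) L) ≤ _
      rw [← conjOf_mul]
      exact conjOf_le_centralizer hL (hac c c.2)
    obtain ⟨k, hk, hkM, -⟩ := r.pair_of_congr hL hz (p := p) (sup_le inf_le_left hDA) ha haB hxB
      (w := (y : Y)⁻¹) (L.inv_mem y.2) (by
        rw [commutatorElement_def, inv_inv,
          show (y : Y) * (a * x * a⁻¹ * x⁻¹) = ((y : Y) * (a * x * a⁻¹)) * x⁻¹ by group,
          mem_centralizer_iff.1 haxa y y.2, mul_assoc]
        exact mul_mem haxa (by rw [show (y : Y) * x⁻¹ = (x * (y : Y)⁻¹)⁻¹ by group]; exact inv_mem hxy))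
      (by rw [orderOf_inv, Subgroup.orderOf_coe, hy]) hBidx
    exact ⟨B, a, x, k, p, hk, hkM⟩
  · obtain ⟨a, ⟨ha, haN⟩, haC⟩ := SetLike.not_le_iff_exists.1 hA₀C
    obtain ⟨D, hDA, hD, hcov⟩ := exists_compl (A₀ := A₀) hA
    obtain ⟨x, k, hk, hkM, -⟩ := r.pair_inner hL hz hAS hA hDA hcov ha haN haC (fun c hc hcN => by
        have h : c ∈ D ⊓ A₀ := ⟨hc, hDA hc, hcN⟩
        rwa [hD, Subgroup.mem_bot] at h)
    exact ⟨_, a, x, k, p, hk, hkM⟩

end Cfsg.Agent.Lib.Stellmacher55
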