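import Cfsg.Agent.Lib.Stellmacher55.Basic
import Cfsg.Agent.Lib.GlaubermanTwo54.Closure54
import Cfsg.Agent.Lib.PGroups.Omega

/-!
# Stellmacher's functor: iterated closures, the strict non-offender property, configurations

`Reach S n W`: `W` is obtained from `Ω₁Z(S)` by `n` normal closures in good minimal groups over `S`.

Owner: helper21.
-/

set_option autoImplicit false
set_option linter.style.haveILetI false
set_option linter.unusedSectionVars false

namespace Cfsg.Agent.Lib.Stellmacher55

open PLocal
open scoped commutatorElement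

universe u

/-- All proper overgroups of `S` lie in one proper subgroup. -/
def MinOver {G : Type*} [Group G] (S : Subgroup G) : Prop :=
  ∃ M : Subgroup G, M ≠ ⊤ ∧ ∀ U : Subgroup G, S ≤ U → U ≠ ⊤ → U ≤ M

/-- A good minimal group over `S`. -/
structure GoodStep {S : Type u} [Group S] (G : Type u) [Group G] (τ : S →* G) : Prop where
  inj : Function.Injective τ
  syl : ∃ P : Sylow 2 G, (P : Subgroup G) = τ.range
  free : ¬ Cfsg.Involves (Equiv.Perm (Fin 4)) G
  c2 : Subgroup.centralizer (Cfsg.pCore 2 G : Set G) ≤ Cfsg.pCore 2 G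
  min : MinOver τ.range
  good : (Cfsg.thompsonSubgroupOf 2 τ.range).Normal

/-- `W` arises from `Ω₁Z(S)` by `n` closures. -/
inductive Reach (S : Type u) [Group S] : ℕ → Subgroup S → Prop
  | base : Reach S 0 (Cfsg.omegaOne 2 (Subgroup.center S))
  | step {n : ℕ} {W : Subgroup S} (G : Type u) [Group G] [Finite G] (τ : S →* G) :
      Reach S n W → GoodStep G τ →
        Reach S (n + 1) ((Subgroup.normalClosure (W.map τ : Set G)).comap τ)

/-- `R` centralises every closure with fewer than `n` steps. -/
def Cent {S : Type u} [Group S] (n : ℕ) (R : Subgroup S) : Prop :=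
  ∀ m < n, ∀ W : Subgroup S, Reach S m W → R ≤ Subgroup.centralizer (W : Set S)

section Reach

variable {S : Type u} [Group S] [Finite S]

/-- `Ω₁Z(J(S))`. -/
abbrev topZJ (S : Type u) [Group S] : Subgroup S := Cfsg.omegaOne 2 (Cfsg.centerThompsonOf 2 (⊤ : Subgroup S))

theorem map_topZJ {G : Type u} [Group G] (τ : S →* G) (hτ : Function.Injective τ) :
    (topZJ S).map τ = Cfsg.omegaOne 2 (Cfsg.centerThompsonOf 2 τ.range) := by
  rw [topZJ, PGroups.map_omegaOne_of_injective τ hτ, PGroups.map_centerThompsonOf τ hτ,
    ← MonoidHom.range_eq_map]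

theorem elemAb_topZJ : Cfsg.IsElementaryAbelian 2 (topZJ S) := by
  refine PGroups.elemAb_omegaOne (IsMulCommutative.of_comm fun a b => Subtype.ext ?_)
  exact Subgroup.mem_centralizer_iff.1 b.2.2 a a.2.1

theorem omega_center_le_topZJ : Cfsg.omegaOne 2 (Subgroup.center S) ≤ topZJ S := by
  haveI : Fact (Nat.Prime 2) := ⟨Nat.prime_two⟩
  refine (Subgroup.closure_le _).2 ?_
  rintro x ⟨hx, hx2⟩
  exact Subgroup.subset_closure ⟨PGroups.mem_centerThompsonOf_of_center (Subgroup.mem_top x)
    (fun y _ => (Subgroup.mem_center_iff.1 hx y).symm) hx2, hx2⟩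

/-- In a good group the closure of a part of `Ω₁Z(J(S))` stays inside it. -/
theorem GoodStep.normalClosure_le {G : Type u} [Group G] [Finite G] {τ : S →* G} (h : GoodStep G τ)
    {W : Subgroup S} (hW : W ≤ topZJ S) :
    Subgroup.normalClosure (W.map τ : Set G) ≤ (topZJ S).map τ := by
  haveI : ((topZJ S).map τ).Normal := by
    rw [map_topZJ τ h.inj]
    haveI := h.good
    haveI : (Cfsg.centerThompsonOf 2 τ.range).Normal := by
      rw [Cfsg.centerThompsonOf]
      haveI : (Subgroup.centralizer (Cfsg.thompsonSubgroupOf 2 τ.range : Set G)).Normal :=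
        Subgroup.normal_centralizer
      exact Subgroup.normal_inf_normal _ _
    exact PGroups.omegaOne_normal
  exact Subgroup.normalClosure_le_normal (Subgroup.map_mono hW)

theorem Reach.le_topZJ {n : ℕ} {W : Subgroup S} (h : Reach S n W) : W ≤ topZJ S := by
  induction h with
  | base => exact omega_center_le_topZJ
  | step G τ _ hg ih =>
    refine (Subgroup.comap_mono (hg.normalClosure_le ih)).trans ?_
    rw [Subgroup.comap_map_eq_self_of_injective hg.inj]

theorem Reach.elemAb {n : ℕ} {W : Subgroup S} (h : Reach S n W) : Cfsg.IsElementaryAbelian 2 W :=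
  PGroups.elemAb_mono elemAb_topZJ h.le_topZJ

theorem Reach.comm {n m : ℕ} {W W' : Subgroup S} (h : Reach S n W) (h' : Reach S m W') :
    W ≤ Subgroup.centralizer (W' : Set S) := fun _ hx =>
  Subgroup.mem_centralizer_iff.2 fun _ hy =>
    PGroups.elemAb_comm elemAb_topZJ (h'.le_topZJ hy) (h.le_topZJ hx)

theorem Reach.normal {n : ℕ} {W : Subgroup S} (h : Reach S n W) : W.Normal := by
  induction h with
  | base => exact PGroups.omegaOne_normal
  | step G τ _ _ _ => exact Subgroup.normalClosure_normal.comap τ

theorem Reach.map_step {n : ℕ} {W : Subgroup S} (h : Reach S n W) {G : Type u} [Group G] [Finite G]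
    {τ : S →* G} (hg : GoodStep G τ) :
    ((Subgroup.normalClosure (W.map τ : Set G)).comap τ).map τ = Subgroup.normalClosure (W.map τ : Set G) :=
  Subgroup.map_comap_eq_self ((hg.normalClosure_le h.le_topZJ).trans (Subgroup.map_le_range _ _))

theorem GoodStep.twist {G : Type u} [Group G] {τ : S →* G} (h : GoodStep G τ) (α : S ≃* S) :
    GoodStep G (τ.comp α.toMonoidHom) := by
  have hr : (τ.comp α.toMonoidHom).range = τ.range := by
    rw [MonoidHom.range_comp, MonoidHom.range_eq_top.2 α.surjective, ← MonoidHom.range_eq_map]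
  exact ⟨h.inj.comp α.injective, hr.symm ▸ h.syl, h.free, h.c2, hr.symm ▸ h.min, hr.symm ▸ h.good⟩

/-- Automorphisms of `S` permute the closures. -/
theorem Reach.map {n : ℕ} {W : Subgroup S} (h : Reach S n W) (α : S ≃* S) :
    Reach S n (W.map α.toMonoidHom) := by
  induction h with
  | base =>
    have e : (Cfsg.omegaOne 2 (Subgroup.center S)).map α.toMonoidHom = Cfsg.omegaOne 2 (Subgroup.center S) := by
      rw [PGroups.map_omegaOne_of_injective _ α.injective,
        Subgroup.characteristic_iff_map_eq.1 inferInstance α]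
    rw [e]; exact Reach.base
  | @step m W G _ _ τ hW hg ih =>
    have := Reach.step G (τ.comp α.symm.toMonoidHom) ih (hg.twist α.symm)
    have e1 : (W.map α.toMonoidHom).map (τ.comp α.symm.toMonoidHom) = W.map τ := by
      rw [Subgroup.map_map, MonoidHom.comp_assoc]
      congr 1
      ext x; simp
    rw [e1] at this
    have e2 : ((Subgroup.normalClosure (W.map τ : Set G)).comap τ).map α.toMonoidHom =
        (Subgroup.normalClosure (W.map τ : Set G)).comap (τ.comp α.symm.toMonoidHom) := by
      rw [← Subgroup.comap_comap]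
      exact Subgroup.map_equiv_eq_comap_symm' α _
    rw [e2]; exact this

end Reach

end Cfsg.Agent.Lib.Stellmacher55
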