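import Cfsg.Agent.Lib.Stellmacher55.Functor
import Cfsg.Agent.Lib.Stellmacher18.Row5282
import Cfsg.Prelude.Def_EvenType
import Cfsg.Prelude.Def_FusionReduction

/-!
# The statements S0665, S1927, S5237, S5190 modulo the pairs and `SThreeFreeSimple`

`W(S)` controls fusion by the reduction to constrained sections, and is normal in a fusion system without `Sym(4)`
because such a system is constrained and its model has no section `Sym(4)`.

Owner: helper21.
-/

set_option autoImplicit false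
set_option linter.style.haveILetI false
set_option linter.unusedSectionVars false

namespace Cfsg.Agent.Lib.Stellmacher55

open Cfsg Cfsg.Agent.Lib
open Cfsg.Agent.Lib.ConjFunctor.Reach
open Cfsg.Agent.Lib.ConjFunctor.Local
open Cfsg.Agent.Lib.ConjFunctor.Section
open Cfsg.FusionSystem Cfsg.Agent.Lib.FS Cfsg.Agent.Lib.FS.Control

universe u

section Normal

variable {G : Type u} [Group G] [Finite G]

/-- `W(T)` is normal in a constrained group without `Sym(4)`, for a Sylow subgroup `T`, trivial or not. -/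
theorem wFun_sylow_normal (hK : SThreeFree21.SThreeFreeSimple.{u}) (hpo : PropPairOut.{u})
    (hpc : PropPairClause.{u}) {S : Type u} [Group S] [Finite S] (hS : IsPGroup 2 S) (τ : S →* G)
    (hτ : Function.Injective τ) (hsyl : ∃ P : Sylow 2 G, (P : Subgroup G) = τ.range)
    (hfree : ¬ Cfsg.Involves (Equiv.Perm (Fin 4)) G)
    (hc2 : Subgroup.centralizer (Cfsg.pCore 2 G : Set G) ≤ Cfsg.pCore 2 G) : ((wFun S).map τ).Normal := by
  rcases subsingleton_or_nontrivial S with h | h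
  · rw [show wFun S = ⊥ from Subsingleton.elim _ _, Subgroup.map_bot]; infer_instance
  · exact wFun_normal hK hpo hpc hS _ G rfl τ hτ hsyl hfree hc2

end Normal

/-- Statement S0665. -/
theorem row0665 (hK : SThreeFree21.SThreeFreeSimple.{u}) (hpo : PropPairOut.{u}) (hpc : PropPairClause.{u})
    {S : Type u} [Group S] [Finite S] [Nontrivial S] (hS : IsPGroup 2 S) :
    ∃ W : Subgroup S, W ≠ ⊥ ∧ W.Characteristic ∧ ∀ (G : Type u) [Group G] [Finite G] (τ : S →* G),
      Function.Injective τ → (∃ P : Sylow 2 G, (P : Subgroup G) = τ.range) →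
      (¬ ∃ (K R : Subgroup G) (hR : (R.subgroupOf K).Normal),
        Nonempty ((K ⧸ R.subgroupOf K) ≃* Equiv.Perm (Fin 4))) →
      Subgroup.centralizer (Cfsg.pCore 2 G : Set G) ≤ Cfsg.pCore 2 G → (W.map τ).Normal :=
  exists_char hK hpo hpc hS

/-- `W` as a functor. -/
def wW : ∀ (Q : Type u) [Group Q], Subgroup Q := fun Q _ => wFun Q

/-- `W` as a set of functors. -/
def wOne : Set (∀ (Q : Type u) [Group Q], Subgroup Q) := {wW}

theorem wFun_ne_bot' (Q : Type u) [Group Q] [Finite Q] (hQ : IsPGroup 2 Q) (hn : Nontrivial Q) : wFun Q ≠ ⊥ :=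
  haveI := hn
  wFun_ne_bot hQ

theorem wFun_map' (Q R : Type u) [Group Q] [Group R] [Finite Q] (_ : IsPGroup 2 Q) (φ : Q ≃* R) :
    (wFun Q).map φ.toMonoidHom = wFun R :=
  haveI : Finite R := Finite.of_equiv Q φ.toEquiv
  map_wFun φ

theorem isCharPFunctor_wOne : ∀ W ∈ (wOne : Set (∀ (Q : Type u) [Group Q], Subgroup Q)),
    Cfsg.IsCharPFunctor.{u} 2 W := by
  rintro W rfl
  exact ⟨wFun_ne_bot', wFun_map'⟩

section Fusion

variable {G : Type u} [Group G] [Finite G]

theorem mem_steps_wOne {T : Subgroup G} {x : G} :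
    x ∈ stepSet (nFam (indSet wOne G)) ⊤ T ↔
      x ∈ Subgroup.normalizer (((wFun ↥T).map T.subtype : Subgroup G) : Set G) := by
  rw [mem_stepSet_nFam]
  constructor
  · rintro ⟨_, ⟨W, rfl, rfl⟩, -, hx⟩; exact hx
  · intro hx; exact ⟨_, ⟨_, rfl, rfl⟩, trivial, hx⟩

/-- A chain of steps in a subgroup is one step. -/
theorem chain_mem {X : Set G} {H T : Subgroup G} (hX : X ⊆ H) {A : Set G} {h : G} (c : Chain X T A h) :
    ∃ x ∈ H, ∀ a ∈ A, x * a * x⁻¹ = h * a * h⁻¹ := by
  induction c with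
  | @refl h' _ e => exact ⟨1, H.one_mem, fun a ha => by rw [e a ha]; simp⟩
  | @step x g h' _ hx _ e ih =>
    obtain ⟨y, hy, hye⟩ := ih
    refine ⟨x * y, H.mul_mem (hX hx) hy, fun a ha => (Eq.trans ?_ (e a ha))⟩
    calc x * y * a * (x * y)⁻¹ = x * (y * a * y⁻¹) * x⁻¹ := by group
      _ = x * (g * a * g⁻¹) * x⁻¹ := by rw [hye a ha]
      _ = x * g * a * (x * g)⁻¹ := by group

/-- `N(W(T))` controls strong fusion. -/
theorem sf_wOne (hK : SThreeFree21.SThreeFreeSimple.{u}) (hpo : PropPairOut.{u}) (hpc : PropPairClause.{u})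
    (hfree : ¬ Cfsg.Involves (Equiv.Perm (Fin 4)) G) : SF wOne 2 G := by
  haveI : Fact (Nat.Prime 2) := ⟨Nat.prime_two⟩
  refine ConjFunctor.Main.sf_of_loc isCharPFunctor_wOne (fun K R _ hc => ?_) G (IsSection.refl G)
  intro T A x _ hA hxA
  haveI : ((wFun ↥(T : Subgroup (↥K ⧸ R.subgroupOf K))).map
      (T : Subgroup (↥K ⧸ R.subgroupOf K)).subtype).Normal :=
    wFun_sylow_normal hK hpo hpc T.2 _ (Subgroup.subtype_injective _)
      ⟨T, (Subgroup.range_subtype _).symm⟩ (GlaubermanTwo54.free_quotient hfree K _) hc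
  exact Chain.single (mem_steps_wOne.2 (by rw [Subgroup.normalizer_eq_top]; trivial)) hA hxA

/-- Statement S1927. -/
theorem row1927 (hK : SThreeFree21.SThreeFreeSimple.{u}) (hpo : PropPairOut.{u}) (hpc : PropPairClause.{u})
    (hfree : ¬ Cfsg.Involves (Equiv.Perm (Fin 4)) G) (S : Sylow 2 G) :
    ∃ W : Subgroup ↥(S : Subgroup G), W.Characteristic ∧
      Cfsg.omegaOne 2 ((Subgroup.center ↥(S : Subgroup G)).map (S : Subgroup G).subtype) ≤
        W.map (S : Subgroup G).subtype ∧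
      W.map (S : Subgroup G).subtype ≤ Cfsg.omegaOne 2 (Cfsg.centerThompsonOf 2 (S : Subgroup G)) ∧
      ∀ A : Set G, A ⊆ (S : Subgroup G) → Cfsg.ControlsStrongFusionOf
        (Subgroup.normalizer ((W.map (S : Subgroup G).subtype : Subgroup G) : Set G)) (S : Subgroup G) A := by
  refine ⟨wFun _, wFun_characteristic, ?_, ?_, fun A hA => ⟨hA, fun g hg => ?_⟩⟩
  · rw [← PGroups.map_omegaOne_of_injective _ (Subgroup.subtype_injective _)]
    exact Subgroup.map_mono omega_center_le_wFun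
  · refine (Subgroup.map_mono wFun_le_topZJ).trans ?_
    rw [map_topZJ _ (Subgroup.subtype_injective _), Subgroup.range_subtype]
  · obtain ⟨x, hx, hxe⟩ :=
      chain_mem (fun y hy => mem_steps_wOne.1 hy) (sf_wOne hK hpo hpc hfree S A g trivial hA hg)
    exact ⟨x, hx, fun a ha => (hxe a ha).symm⟩

end Fusion

section Systems

variable {Ω : Type u} [Group Ω] {S : Subgroup Ω} [Finite S]

/-- `W(S)` is normal in a saturated system without `Sym(4)`. -/
theorem wOf_wFun_isNormal (hK : SThreeFree21.SThreeFreeSimple.{u}) (hpo : PropPairOut.{u})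
    (hpc : PropPairClause.{u}) (hS : IsPGroup 2 S) {F : Cfsg.FusionSystem S} (hF : F.IsSaturated 2)
    (hfree : F.IsSectionFree 2 (Equiv.Perm (Fin 4))) : F.IsNormal (wOf wW S) := by
  haveI : Fact (Nat.Prime 2) := ⟨Nat.prime_two⟩
  have h3 := Stellmacher18.threeFree_of_sectionFree hS hF hfree
  obtain ⟨G, _, ι, hM⟩ :=
    FusionAlperin.Model.exists_model_of_constrained hS (Stellmacher18.isConstrained hK hS hF h3)
  haveI := hM.1
  have hh := Stellmacher18.hyp_of_model hK hS h3 hM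
  haveI : ((wFun ↥S).map ι).Normal :=
    wFun_sylow_normal hK hpo hpc hS ι hM.2.1.1 hM.2.2.1 hh.free hM.2.2.2
  refine isNormal_of_all (wOf_le S) fun P φ hφ => ?_
  obtain ⟨g, hg⟩ := (hM.2.1.2 P (src_le hφ) φ (apply_mem hφ)).1 hφ
  refine Stellmacher18.mem_normalizerHom_of_model le_rfl (fun _ => subset_rfl) hM.2.1 (wOf_le S)
    (le_normalizer_wOf wFun_map' hS) hφ g hg ?_
  rw [wOf, Subgroup.subgroupOf, Subgroup.comap_map_eq_self_of_injective S.subtype_injective,
    Subgroup.normalizer_eq_top]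
  trivial

/-- Statement S5237. -/
theorem row5237 (hK : SThreeFree21.SThreeFreeSimple.{u}) (hpo : PropPairOut.{u}) (hpc : PropPairClause.{u})
    (hS : IsPGroup 2 S) (hS1 : S ≠ ⊥) :
    ∃ W : Subgroup Ω, W ≤ S ∧ W ≠ ⊥ ∧ (W.subgroupOf S).Characteristic ∧
      ∀ F : Cfsg.FusionSystem S, F.IsSaturated 2 → F.IsSectionFree 2 (Equiv.Perm (Fin 4)) → F.IsNormal W := by
  haveI : Fact (Nat.Prime 2) := ⟨Nat.prime_two⟩
  refine ⟨wOf wW S, wOf_le S, wOf_ne_bot wFun_ne_bot' hS hS1, ?_,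
    fun F hF hfree => wOf_wFun_isNormal hK hpo hpc hS hF hfree⟩
  rw [wOf, Subgroup.subgroupOf, Subgroup.comap_map_eq_self_of_injective S.subtype_injective]
  exact wFun_characteristic

/-- Statement S5190. -/
theorem row5190 (hK : SThreeFree21.SThreeFreeSimple.{u}) (hpo : PropPairOut.{u}) (hpc : PropPairClause.{u})
    (p : ℕ) [Fact p.Prime] (hS : IsPGroup p S) (hS1 : S ≠ ⊥) (F : Cfsg.FusionSystem S)
    (hF : F.IsSaturated p)
    (hfree : ∀ Q : Subgroup Ω, F.IsCentric Q → F.IsFullyNormalized Q →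
      ∀ E : Cfsg.FusionSystem (Cfsg.FusionSystem.normalizerIn S Q), F.IsNormalizerSystem Q E →
        ∀ (G : Type u) (_ : Group G) (ι : ↥(Cfsg.FusionSystem.normalizerIn S Q) →* G),
          E.IsModel p G ι → ¬ Cfsg.Involves ↥(Cfsg.qd p) G) :
    ∃ W : Subgroup Ω, W ≤ S ∧ W ≠ ⊥ ∧ (W.subgroupOf S).Characteristic ∧ F.IsNormal W := by
  rcases eq_or_ne p 2 with rfl | hp
  · obtain ⟨W, h1, h2, h3, h4⟩ := row5237 hK hpo hpc hS hS1
    refine ⟨W, h1, h2, h3, h4 F hF fun Q hQn hQc N hN L _ ι hM h6 => ?_⟩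
    obtain ⟨e⟩ := Cfsg.Agent.S2761.result
    obtain ⟨K, φ, hφ⟩ := Transfer.InvolvesS4.exists_hom_of_involves h6
    exact hfree Q hQc hQn N hN L inferInstance ι hM (Transfer.InvolvesS4.involves_of_hom K
      (e.symm.toMonoidHom.comp φ) (e.symm.surjective.comp hφ))
  have hW1 : ∀ (Q : Type u) [Group Q] [Finite Q], IsPGroup p Q → Nontrivial Q →
      Stellmacher18.zjFun Q ≠ ⊥ := fun Q _ _ hQ hn =>
    FusionP3.GT.centerThompsonAOf_ne_bot (S := (⊤ : Subgroup Q)) (hQ.to_subgroup _) le_rfl top_ne_bot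
  have hW2 : ∀ (Q R : Type u) [Group Q] [Group R] [Finite Q], IsPGroup p Q → ∀ φ : Q ≃* R,
      (Stellmacher18.zjFun Q).map φ.toMonoidHom = Stellmacher18.zjFun R := by
    intro Q R _ _ _ _ φ
    rw [Stellmacher18.zjFun, Stellmacher18.zjFun, ZJ.map_centerThompsonAOf φ.toMonoidHom φ.injective,
      Subgroup.map_top_of_surjective φ.toMonoidHom φ.surjective]
  refine ⟨wOf Stellmacher18.zjFun S, wOf_le S, wOf_ne_bot hW1 hS hS1, ?_,
    wOf_isNormal hp hW1 hW2 (fun L _ _ P hc hinv => by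
      rw [Stellmacher18.wOf_zjFun]
      exact Cfsg.Agent.S0664.result hp hinv (hc.le.trans inf_le_left) P) _ _ F rfl rfl hS hF
      (SectionFree.not_qdPair hp hS hF fun Q hQn hQc N hN L _ ι hM => hfree Q hQc hQn N hN L inferInstance ι hM)⟩
  rw [wOf, Subgroup.subgroupOf, Subgroup.comap_map_eq_self_of_injective S.subtype_injective]
  exact Subgroup.characteristic_iff_map_eq.2 fun φ => hW2 _ _ hS φ

end Systems

end Cfsg.Agent.Lib.Stellmacher55
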