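import Cfsg.Agent.Lib.Stellmacher55.PairsBasic
import Cfsg.Agent.S2247
import Cfsg.Agent.Lib.SzSubgroups.Trichotomy
import Cfsg.Agent.Lib.SzTori.Basic
import Cfsg.Agent.Lib.CycZFactor60.Basic

/-!
# The facts used about the Suzuki groups

Owner: helper55.
-/

set_option autoImplicit false
set_option linter.style.haveILetI false
set_option linter.unusedSectionVars false

namespace Cfsg.Agent.Lib.Stellmacher55

open Subgroup

universe u

/-- What is used about `Sz(q)`: a Sylow 2-subgroup lies in a unique maximal subgroup, its involutions are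
central and conjugate in its normaliser, `p` is a primitive prime divisor of `q⁴ - 1`, and an involution
generates with the involutions of another Sylow 2-subgroup. -/
structure SzLike (L : Type u) [Group L] (q p : ℕ) : Prop where
  sylow_ne : ∀ P : Sylow 2 L, (P : Subgroup L) ≠ ⊥
  normalizer_ne : ∀ P : Sylow 2 L, normalizer ((P : Subgroup L) : Set L) ≠ ⊤
  overgroup : ∀ (P : Sylow 2 L) (H : Subgroup L), (P : Subgroup L) ≤ H → H ≠ ⊤ →
    H ≤ normalizer ((P : Subgroup L) : Set L)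
  inv_central : ∀ (P : Sylow 2 L), ∀ x ∈ (P : Subgroup L), x * x = 1 →
    x ∈ centralizer ((P : Subgroup L) : Set L)
  inv_conj : ∀ (P : Sylow 2 L), ∀ x ∈ (P : Subgroup L), ∀ y ∈ (P : Subgroup L), x * x = 1 → y * y = 1 →
    x ≠ 1 → y ≠ 1 → ∃ g ∈ normalizer ((P : Subgroup L) : Set L), g * x * g⁻¹ = y
  not_elem : ∀ P : Sylow 2 L, ∃ u ∈ (P : Subgroup L), u * u ≠ 1
  card_le : ∀ D : Subgroup L, Cfsg.IsElementaryAbelian 2 D → Nat.card D ≤ q
  two_le : 2 ≤ q
  prime : p.Prime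
  ne_two : p ≠ 2
  not_dvd : ∀ P : Sylow 2 L, ¬ p ∣ Nat.card (normalizer ((P : Subgroup L) : Set L))
  size : PairSize q p
  pair : ∀ d : L, orderOf d = 2 → ∃ g, p ∣ orderOf (d * (g * d * g⁻¹))
  inner : ∀ θ : MulAut L, (∃ j : ℕ, θ ^ 2 ^ j = 1) → θ ∈ (MulAut.conj (G := L)).range
  gen : ∀ P P' : Sylow 2 L, P ≠ P' → ∀ d ∈ (P : Subgroup L), d * d = 1 → d ≠ 1 → ∀ H : Subgroup L,
    d ∈ H → (∀ x ∈ (P' : Subgroup L), x * x = 1 → x ∈ H) → H = ⊤

section Suzuki

open Cfsg.Agent.Lib.LieTwisted.Suzuki Cfsg.Agent.Lib.SzElements.Basic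

variable {F : Type} [Field F] [Fintype F] {m : ℕ}

theorem exists_coord (h : IsSzField F m) (hm : 1 ≤ m) {P : Sylow 2 (Cfsg.Sz F m)} {g : Cfsg.Sz F m}
    (hg : (P : Subgroup (Cfsg.Sz F m)) = (unip h).map (MulAut.conj g).toMonoidHom) {x : Cfsg.Sz F m}
    (hx : x ∈ (P : Subgroup (Cfsg.Sz F m))) (hx2 : x * x = 1) : ∃ b : F, x = g * uS h 0 b * g⁻¹ := by
  obtain ⟨_, ⟨a, b, rfl⟩, hab⟩ := hg.le hx
  have hab' : g * uS h a b * g⁻¹ = x := hab
  rw [← hab', ← pow_two, conj_pow, mul_inv_eq_one, mul_eq_left] at hx2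
  exact ⟨b, by rw [← hab', eq_zero_of_sq h hx2]⟩

theorem card_elem_le (h : IsSzField F m) (hm : 1 ≤ m) {D : Subgroup (Cfsg.Sz F m)}
    (hD : Cfsg.IsElementaryAbelian 2 D) : Nat.card D ≤ Fintype.card F := by
  haveI : Fact (Nat.Prime 2) := ⟨Nat.prime_two⟩
  obtain ⟨P, hP⟩ := (PGroups.elemAb_isPGroup hD).exists_le_sylow
  obtain ⟨g, hg⟩ := h.conj_sylow hm P
  choose β hβ using fun z : D => exists_coord h hm hg (hP z.2) (by rw [← pow_two]; exact hD.2 _ z.2)
  rw [← Nat.card_eq_fintype_card]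
  exact Nat.card_le_card_of_injective β fun z w hzw => Subtype.ext (by rw [hβ z, hβ w, hzw])

theorem primitive_prime (h : IsSzField F m) (hm : 1 ≤ m) :
    ∃ r : ℕ, r.Prime ∧ r ≠ 2 ∧ r ∣ Fintype.card F ^ 2 + 1 ∧ PairSize (Fintype.card F) r := by
  obtain ⟨r, hr, hro⟩ := Cfsg.Agent.Lib.NumberTheory.exists_primitive_prime (q := 2) (n := 4 * (2 * m + 1))
    le_rfl (by omega) (fun h6 => by omega) (fun h2 => by omega)
  haveI : Fact r.Prime := ⟨hr⟩
  have h4n : (2 : ZMod r) ^ (4 * (2 * m + 1)) = 1 := by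
    have := pow_orderOf_eq_one ((2 : ℕ) : ZMod r)
    rw [hro] at this
    simpa using this
  have hr2 : r ≠ 2 := by
    rintro rfl
    rw [show (2 : ZMod 2) = 0 from rfl, zero_pow (by omega)] at h4n
    exact zero_ne_one h4n
  refine ⟨r, hr, hr2, ?_, fun n hn hmod => ?_⟩
  · rw [h.card, ← ZMod.natCast_eq_zero_iff]
    push_cast
    have h1 : (((2 : ZMod r) ^ (2 * m + 1)) ^ 2 - 1) * (((2 : ZMod r) ^ (2 * m + 1)) ^ 2 + 1) = 0 := by
      have : (((2 : ZMod r) ^ (2 * m + 1)) ^ 2 - 1) * (((2 : ZMod r) ^ (2 * m + 1)) ^ 2 + 1) =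
          (2 : ZMod r) ^ (4 * (2 * m + 1)) - 1 := by ring
      rw [this, h4n, sub_self]
    refine (mul_eq_zero.mp h1).resolve_left fun h2 => ?_
    rw [sub_eq_zero, ← pow_mul] at h2
    have := Nat.le_of_dvd (show 0 < (2 * m + 1) * 2 by omega)
      (hro ▸ orderOf_dvd_of_pow_eq_one (x := ((2 : ℕ) : ZMod r)) (by simpa using h2))
    omega
  · rw [h.card, ← pow_mul]
    refine Nat.pow_lt_pow_right (by norm_num) (lt_of_lt_of_le (b := 4 * (2 * m + 1)) (by omega) ?_)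
    rw [← hro]
    refine Nat.le_of_dvd hn (orderOf_dvd_of_pow_eq_one ?_)
    have := (ZMod.natCast_eq_natCast_iff _ _ _).mpr hmod
    simpa using this

theorem gen_sz (h : IsSzField F m) (hm : 1 ≤ m) (P P' : Sylow 2 (Cfsg.Sz F m)) (hne : P ≠ P')
    {d : Cfsg.Sz F m} (hd : d ∈ (P : Subgroup (Cfsg.Sz F m))) (hd2 : d * d = 1) (hd1 : d ≠ 1)
    {H : Subgroup (Cfsg.Sz F m)} (hdH : d ∈ H)
    (hH : ∀ x ∈ (P' : Subgroup (Cfsg.Sz F m)), x * x = 1 → x ∈ H) : H = ⊤ := by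
  haveI : Fact (Nat.Prime 2) := ⟨Nat.prime_two⟩
  by_contra hcon
  -- a Sylow subgroup is determined by any of its involutions
  have hTI : ∀ (Q Q' : Sylow 2 (Cfsg.Sz F m)) (x : Cfsg.Sz F m), x ∈ (Q : Subgroup (Cfsg.Sz F m)) →
      x ∈ (Q' : Subgroup (Cfsg.Sz F m)) → x * x = 1 → x ≠ 1 → Q = Q' := by
    intro Q Q' x hxQ hxQ' hx2 hx1
    obtain ⟨g, hg⟩ := h.conj_sylow hm Q
    obtain ⟨g', hg'⟩ := h.conj_sylow hm Q'
    obtain ⟨b, rfl⟩ := exists_coord h hm hg hxQ hx2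
    obtain ⟨b', hb'⟩ := exists_coord h hm hg' hxQ' hx2
    have hk : g'⁻¹ * g * uS h 0 b * (g'⁻¹ * g)⁻¹ = uS h 0 b' := by
      calc g'⁻¹ * g * uS h 0 b * (g'⁻¹ * g)⁻¹ = g'⁻¹ * (g * uS h 0 b * g⁻¹) * g' := by group
        _ = uS h 0 b' := by rw [hb']; group
    have hb : ¬ ((0 : F) = 0 ∧ b = 0) := fun z => hx1 (by rw [z.2, h.uS_zero, mul_one, mul_inv_cancel])
    have hb0 : ¬ ((0 : F) = 0 ∧ b' = 0) := fun z => hx1 (by rw [hb', z.2, h.uS_zero, mul_one, mul_inv_cancel])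
    obtain ⟨c, e, f, hcef⟩ := borel_of_conj h hm hb hb0 hk
    have hn : g'⁻¹ * g ∈ normalizer (unip h : Set (Cfsg.Sz F m)) := by
      rw [h.normalizer_unip hm, ← opt_none (m := m), MulAction.mem_stabilizer_iff, hcef, mul_smul,
        h.dS_smul_none, h.uS_smul_none]
    refine Sylow.ext ?_
    rw [hg, hg']
    conv_rhs => rw [← PGroups.map_conj_eq_of_mem_normalizer hn, Subgroup.map_map]
    congr 1
    ext z
    simp only [MonoidHom.comp_apply, MulEquiv.coe_toMonoidHom, MulAut.conj_apply]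
    group
  obtain ⟨g', hg'⟩ := h.conj_sylow hm P'
  set Z : Subgroup (Cfsg.Sz F m) := (unipCenter h).map (MulAut.conj g').toMonoidHom with hZ
  have hZmem : ∀ b : F, g' * uS h 0 b * g'⁻¹ ∈ Z := fun b => ⟨uS h 0 b, ⟨b, rfl⟩, rfl⟩
  have hZ2 : ∀ x ∈ Z, x * x = 1 ∧ x ∈ (P' : Subgroup (Cfsg.Sz F m)) := by
    rintro _ ⟨_, ⟨b, rfl⟩, rfl⟩
    refine ⟨?_, hg'.ge ⟨uS h 0 b, h.uS_mem 0 b, rfl⟩⟩
    rw [← map_mul, ← pow_two, h.uS_sq, sg_zero, mul_zero, h.uS_zero, map_one]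
  have hZcard : Nat.card Z = Fintype.card F := by
    rw [hZ, Subgroup.card_map_of_injective (MulAut.conj g').injective, ← Nat.card_eq_fintype_card]
    refine (Nat.card_congr (Equiv.ofBijective (fun b : F => (⟨uS h 0 b, b, rfl⟩ : unipCenter h)) ⟨?_, ?_⟩)).symm
    · intro b b' hb
      exact (h.uS_coords_inj (congrArg Subtype.val hb)).2
    · rintro ⟨x, b, rfl⟩; exact ⟨b, rfl⟩
  have hZH : Z ≤ H := fun x hx => hH x (hZ2 x hx).2 (hZ2 x hx).1
  have hZel : Cfsg.IsElementaryAbelian 2 Z := by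
    refine PGroups.elemAb_mk ?_ fun x hx => by rw [pow_two]; exact (hZ2 x hx).1
    rintro _ ⟨_, ⟨b, rfl⟩, rfl⟩ _ ⟨_, ⟨b', rfl⟩, rfl⟩
    rw [← map_mul, ← map_mul, h.uS_center_comm]
  have h8 : 8 ≤ Fintype.card F := by
    rw [h.card]
    calc 8 = 2 ^ 3 := by norm_num
      _ ≤ _ := Nat.pow_le_pow_right (by norm_num) (by omega)
  obtain ⟨z, hz, hz1⟩ : ∃ z ∈ Z, z ≠ 1 := by
    by_contra hall
    push Not at hall
    have : Z = ⊥ := (Subgroup.eq_bot_iff_forall Z).2 hall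
    rw [this, Subgroup.card_bot] at hZcard
    omega
  rcases SzSubgroups.trichotomy h hm hcon with ⟨Q, hQ⟩ | ⟨U, hU, hUc, hHU⟩ |
      ⟨K, _, _, k, hk1, hkm, hK, -, S₀, ⟨e⟩, hHS⟩
  · -- a Borel subgroup
    have hin : ∀ x ∈ H, x * x = 1 → x ∈ (Q : Subgroup (Cfsg.Sz F m)) := by
      intro x hx hx2
      haveI : ((Q : Subgroup (Cfsg.Sz F m)).subgroupOf (normalizer ((Q : Subgroup (Cfsg.Sz F m)) : Set _))).Normal :=
        Subgroup.normal_in_normalizer
      have hp : IsPGroup 2 ↥(zpowers x) := by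
        intro y
        obtain ⟨i, hi⟩ := y.2
        refine ⟨1, Subtype.ext ?_⟩
        rw [pow_one, Subgroup.coe_pow, ← hi, ← zpow_natCast, ← zpow_mul, mul_comm, zpow_mul]
        simp [pow_two, hx2, zpow_ofNat]
      have hle : zpowers x ⊔ (Q : Subgroup (Cfsg.Sz F m)) = Q := by
        refine Q.3 (IsPGroup.to_sup_of_normal_right' hp Q.2 ?_) le_sup_right
        exact zpowers_le.2 (hQ hx)
      exact hle ▸ mem_sup_left (mem_zpowers x)
    have h1 := hTI Q P' z (hin z (hZH hz) (hZ2 z hz).1) (hZ2 z hz).2 (hZ2 z hz).1 hz1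
    exact hne (hTI P P' d hd (h1 ▸ hin d hdH hd2) hd2 hd1)
  · -- the normaliser of a torus
    have hUo : Odd (Nat.card U) ∧ 1 < Nat.card U := by
      have hq : 2 ^ (2 * m + 1) = 2 * (2 ^ m * 2 ^ m) := by rw [← pow_add, ← pow_succ']; congr 1; omega
      have hr : 2 ^ (m + 1) = 2 * 2 ^ m := pow_succ' 2 m
      have h2m : 2 ≤ 2 ^ m := Nat.le_self_pow (by omega) 2
      have h3m : 2 * 2 ^ m ≤ 2 ^ m * 2 ^ m := Nat.mul_le_mul_right _ h2m
      rw [hq, hr] at hUc
      simp only [Set.mem_insert_iff, Set.mem_singleton_iff] at hUc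
      rw [Nat.odd_iff]
      omega
    obtain ⟨r, hr, hrd⟩ := Nat.exists_prime_and_dvd hUo.2.ne'
    haveI : Fact r.Prime := ⟨hr⟩
    obtain ⟨u', hu'⟩ := exists_prime_orderOf_dvd_card' r hrd
    set u : Cfsg.Sz F m := (u' : Cfsg.Sz F m) with hu
    have huo : orderOf u = r := by rw [hu, Subgroup.orderOf_coe, hu']
    have hr2 : r ≠ 2 := by
      rintro rfl
      exact (Nat.not_even_iff_odd.2 hUo.1) (even_iff_two_dvd.2 hrd)
    have hnc : ∀ x ∈ Z, x ≠ 1 → ¬ Commute x u := by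
      intro x hx hx1 hc
      obtain ⟨g, hg⟩ := h.conj_sylow hm P'
      obtain ⟨b, rfl⟩ := exists_coord h hm hg (hZ2 x hx).2 (hZ2 x hx).1
      have h1 : g⁻¹ * u * g ∈ centralizer ({uS h 0 b} : Set (Cfsg.Sz F m)) := by
        refine mem_centralizer_singleton_iff.2 ?_
        calc g⁻¹ * u * g * uS h 0 b = g⁻¹ * (u * (g * uS h 0 b * g⁻¹)) * g := by group
          _ = g⁻¹ * ((g * uS h 0 b * g⁻¹) * u) * g := by rw [hc.eq]
          _ = uS h 0 b * (g⁻¹ * u * g) := by group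
      have h2 := SzTori.centralizer_unip_le h hm (h.uS_mem 0 b)
        (fun e => hx1 (by rw [e, mul_one, mul_inv_cancel])) h1
      have h3 := SzTori.pow_four_of_mem h hm h2
      rw [show g⁻¹ * u * g = g⁻¹ * u * (g⁻¹)⁻¹ by group, conj_pow, mul_inv_eq_one, mul_eq_left] at h3
      have h4 := orderOf_dvd_of_pow_eq_one h3
      rw [huo] at h4
      exact hr2 ((Nat.prime_dvd_prime_iff_eq hr Nat.prime_two).1 (hr.dvd_of_dvd_pow (m := 2) (n := 2) h4))
    -- every involution of `Z` inverts `u`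
    have hact : ∀ x ∈ Z, ∃ e : ℕ, x * u * x⁻¹ = u ^ e := by
      intro x hx
      have h1 : x * u * x⁻¹ ∈ U := (mem_normalizer_iff.1 (hHU (hZH hx)) u).1 u'.2
      haveI := hU
      have h2 : zpowers (⟨_, h1⟩ : U) = zpowers u' := by
        refine CycZFactor60.subgroup_eq_of_card_eq ?_
        rw [Nat.card_zpowers, Nat.card_zpowers, hu']
        rw [← Subgroup.orderOf_coe]
        show orderOf (x * u * x⁻¹) = r
        rw [← huo]; exact (MulAut.conj x).orderOf_eq u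
      obtain ⟨e, he⟩ := (isOfFinOrder_of_finite u').mem_powers_iff_mem_zpowers.2
        (h2 ▸ mem_zpowers (⟨_, h1⟩ : U))
      exact ⟨e, (congrArg Subtype.val he).symm⟩
    obtain ⟨z', hz', hz'1, hz'z⟩ : ∃ z' ∈ Z, z' ≠ 1 ∧ z' ≠ z := by
      by_contra hall
      push Not at hall
      have hle : Nat.card Z ≤ 2 := by
        classical
        refine (Nat.card_le_card_of_injective (fun w : Z => decide ((w : Cfsg.Sz F m) = 1)) fun w w' hw => ?_).trans
          (by simp)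
        simp only [decide_eq_decide] at hw
        by_cases h1 : (w : Cfsg.Sz F m) = 1
        · exact Subtype.ext (h1.trans (hw.1 h1).symm)
        · exact Subtype.ext ((hall w w.2 h1).trans (hall w' w'.2 (fun h2 => h1 (hw.2 h2))).symm)
      omega
    have hinv : ∀ x ∈ Z, x ≠ 1 → x * u * x⁻¹ = u⁻¹ := by
      intro x hx hx1
      obtain ⟨e, he⟩ := hact x hx
      have h2 : u ^ (e * e) = u := by
        rw [pow_mul, ← he, conj_pow, ← he]
        calc x * (x * u * x⁻¹) * x⁻¹ = (x * x) * u * (x * x)⁻¹ := by group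
          _ = u := by rw [(hZ2 x hx).1]; group
      have h3 : ((e : ZMod r)) * e = 1 := by
        have h4 : u ^ (e * e) = u ^ 1 := by rw [h2, pow_one]
        rw [pow_eq_pow_iff_modEq, huo, ← ZMod.natCast_eq_natCast_iff] at h4
        simpa using h4
      rcases mul_self_eq_one_iff.1 h3 with h5 | h5
      · exfalso
        refine hnc x hx hx1 (mul_inv_eq_iff_eq_mul.1 ?_)
        rw [he]
        conv_rhs => rw [← pow_one u]
        rw [pow_eq_pow_iff_modEq, huo, ← ZMod.natCast_eq_natCast_iff]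
        simpa using h5
      · rw [he]
        refine eq_inv_of_mul_eq_one_left ?_
        rw [← pow_succ, ← orderOf_dvd_iff_pow_eq_one, huo, ← ZMod.natCast_eq_zero_iff]
        push_cast; rw [h5]; ring
    refine hnc (z * z') (Z.mul_mem hz hz') (fun h1 => hz'z ?_) (mul_inv_eq_iff_eq_mul.1 ?_)
    · rw [eq_inv_of_mul_eq_one_right h1, inv_eq_of_mul_eq_one_right (hZ2 z hz).1]
    · calc z * z' * u * (z * z')⁻¹ = z * (z' * u * z'⁻¹) * z⁻¹ := by group
        _ = u := by rw [hinv z' hz' hz'1, ← conj_inv, hinv z hz hz1, inv_inv]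
  · -- a subfield group
    have hK' : LieTwisted.Suzuki.IsSzField K k := ⟨hK⟩
    have h1 := card_elem_le hK' hk1 (PGroups.elemAb_map e.toMonoidHom
      (PGroups.elemAb_subgroupOf hZel S₀))
    rw [Subgroup.card_map_of_injective e.injective,
      Nat.card_congr (Subgroup.subgroupOfEquivOfLe (hZH.trans hHS)).toEquiv, hZcard, hK, h.card] at h1
    have := (Nat.pow_le_pow_iff_right (by norm_num : 1 < 2)).1 h1
    omega

/-- The facts for `Sz(q)`. -/
theorem szLike_sz (h : IsSzField F m) (hm : 1 ≤ m) : ∃ p, SzLike (Cfsg.Sz F m) (Fintype.card F) p := by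
  haveI : Fact (Nat.Prime 2) := ⟨Nat.prime_two⟩
  obtain ⟨r, hr, hr2, hrd, hsize⟩ := primitive_prime h hm
  haveI : Fact r.Prime := ⟨hr⟩
  refine ⟨r, ⟨?_, fun P => (Cfsg.Agent.S2247.result hm h.card P).1.1, ?_, ?_, ?_, ?_,
    fun D hD => card_elem_le h hm hD, (h.two_lt_card hm).le, hr, hr2, ?_, hsize, ?_, ?_,
    fun P P' hne d hd hd2 hd1 H hdH hH => gen_sz h hm P P' hne hd hd2 hd1 hdH hH⟩⟩
  · intro P hP
    obtain ⟨g, hg⟩ := h.conj_sylow hm P
    have hc : Nat.card (P : Subgroup (Cfsg.Sz F m)) = Fintype.card F ^ 2 := by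
      rw [hg, Subgroup.card_map_of_injective (MulAut.conj g).injective, h.card_unip]
    rw [hP, Subgroup.card_bot] at hc
    have := h.two_lt_card hm
    nlinarith
  · intro P H hPH hH
    obtain ⟨M, hM, hHM⟩ := (eq_top_or_exists_le_coatom H).resolve_left hH
    exact hHM.trans ((Cfsg.Agent.S2247.result hm h.card P).2 M hM (hPH.trans hHM)).le
  · intro P x hx hx2
    obtain ⟨g, hg⟩ := h.conj_sylow hm P
    obtain ⟨b, rfl⟩ := exists_coord h hm hg hx hx2
    refine mem_centralizer_iff.2 fun y hy => ?_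
    obtain ⟨_, ⟨a, d, rfl⟩, rfl⟩ := hg.le hy
    show MulAut.conj g (uS h a d) * MulAut.conj g (uS h 0 b) = MulAut.conj g (uS h 0 b) * MulAut.conj g (uS h a d)
    rw [← map_mul, ← map_mul, h.uS_center_comm]
  · intro P x hx y hy hx2 hy2 hx1 hy1
    obtain ⟨g, hg⟩ := h.conj_sylow hm P
    obtain ⟨b, rfl⟩ := exists_coord h hm hg hx hx2
    obtain ⟨c, rfl⟩ := exists_coord h hm hg hy hy2
    have hb : b ≠ 0 := fun e => hx1 (by rw [e, h.uS_zero, mul_one, mul_inv_cancel])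
    have hc : c ≠ 0 := fun e => hy1 (by rw [e, h.uS_zero, mul_one, mul_inv_cancel])
    obtain ⟨e, he⟩ := scalar_surjective h (l := c / b) (div_ne_zero hc hb)
    refine ⟨g * (uS h 0 0 * dS h e) * g⁻¹, ?_, ?_⟩
    · rw [hg]
      refine Subgroup.le_normalizer_map _ ⟨_, ?_, rfl⟩
      rw [h.normalizer_unip hm, ← opt_none (m := m), SetLike.mem_coe, MulAction.mem_stabilizer_iff, mul_smul,
        h.dS_smul_none, h.uS_smul_none]
    · calc g * (uS h 0 0 * dS h e) * g⁻¹ * (g * uS h 0 b * g⁻¹) * (g * (uS h 0 0 * dS h e) * g⁻¹)⁻¹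
          = g * (uS h 0 0 * dS h e * uS h 0 b * (uS h 0 0 * dS h e)⁻¹) * g⁻¹ := by group
        _ = _ := by rw [conj_center, he, div_mul_cancel₀ c hb]
  · intro P
    obtain ⟨g, hg⟩ := h.conj_sylow hm P
    refine ⟨g * uS h 1 0 * g⁻¹, hg.ge ⟨_, h.uS_mem 1 0, rfl⟩, fun h1 => ?_⟩
    rw [← pow_two, conj_pow, mul_inv_eq_one, mul_eq_left] at h1
    exact one_ne_zero (eq_zero_of_sq h h1)
  · intro P hdvd
    obtain ⟨g, hg⟩ := h.conj_sylow hm P
    rw [hg, show normalizer (((unip h).map (MulAut.conj g).toMonoidHom : Subgroup _) : Set _) =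
      (normalizer (unip h : Set (Cfsg.Sz F m))).map (MulAut.conj g).toMonoidHom from
        (Subgroup.map_equiv_normalizer_eq _ _).symm,
      Subgroup.card_map_of_injective (MulAut.conj g).injective, h.normalizer_unip hm,
      h.card_stabilizer hm] at hdvd
    exact hr.one_lt.ne' (Nat.eq_one_of_dvd_coprimes (SzTori.coprime_card h hm) hrd hdvd)
  · intro d hd
    obtain ⟨g, y, hy, hyo⟩ := LAEven65.SuzukiConj.exists_pair h hm hd hrd
    have hds : orderOf (g * d * g⁻¹) = 2 := (Involutions.Basic.orderOf_conj_eq g d).trans hd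
    refine ⟨g, ?_⟩
    rcases (Involutions.Basic.mem_closure_pair (Involutions.Basic.invol_mul_self hd)
      (Involutions.Basic.invol_mul_self hds)).1 hy with ⟨k, hk | hk⟩
    · rw [← hyo, hk]
      exact orderOf_dvd_of_mem_zpowers ⟨k, rfl⟩
    · exfalso
      have hy2 : y * y = 1 := by
        rw [hk]
        exact Involutions.Basic.mul_zpow_sq (Involutions.Basic.invol_mul_self hd)
          (Involutions.Basic.invol_mul_self hds) k
      have : r ∣ 2 := hyo ▸ orderOf_dvd_of_pow_eq_one (by rw [pow_two]; exact hy2)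
      exact hr2 ((Nat.prime_dvd_prime_iff_eq hr Nat.prime_two).1 this)
  · rintro θ ⟨j, hj⟩
    have hout : Nat.card (Cfsg.Out (Cfsg.Sz F m)) = 2 * m + 1 := h.card_out hm
    haveI : Finite (Cfsg.Out (Cfsg.Sz F m)) := Nat.finite_of_card_ne_zero (by omega)
    have h1 : orderOf (QuotientGroup.mk θ : Cfsg.Out (Cfsg.Sz F m)) ∣ 2 ^ j :=
      orderOf_dvd_of_pow_eq_one (by rw [← QuotientGroup.mk_pow, hj, QuotientGroup.mk_one])
    have h2 : orderOf (QuotientGroup.mk θ : Cfsg.Out (Cfsg.Sz F m)) ∣ 2 * m + 1 := hout ▸ orderOf_dvd_natCard _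
    exact (QuotientGroup.eq_one_iff θ).1 (orderOf_eq_one_iff.1
      (Nat.eq_one_of_dvd_coprimes (Nat.Coprime.pow_left j (Nat.coprime_two_left.2 (odd_two_mul_add_one m)))
        h1 h2))

end Suzuki

end Cfsg.Agent.Lib.Stellmacher55
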