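import Cfsg.Agent.Lib.Stellmacher55.Reach
import Cfsg.Agent.Lib.Stellmacher55.Maximal

/-!
# Small tools for the descent

Owner: helper21.
-/

set_option autoImplicit false
set_option linter.style.haveILetI false
set_option linter.unusedSectionVars false

namespace Cfsg.Agent.Lib.Stellmacher55

open PLocal GlaubermanTwo54
open scoped commutatorElement

universe u

variable {G : Type u} [Group G]

/-- The configuration of the descent: `IsBad` for an elementary abelian `R`, in commutator-subgroup form. -/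
structure Config (P Pm R : Subgroup G) : Prop where
  lt : Pm < P
  comm : ⁅P, R⁆ ≤ Pm
  quad : ⁅⁅Pm, R⁆, R⁆ = ⊥
  fill : ∀ e ∈ P, e ∉ Pm → ∀ v ∈ Pm, ∃ r ∈ R, v⁻¹ * ⁅e, r⁆ ∈ Subgroup.centralizer (R : Set G)
  sep : ∀ e ∈ P, e ∉ Pm → ∀ r ∈ R, ⁅e, r⁆ ∈ Subgroup.centralizer (R : Set G) →
    r ∈ Subgroup.centralizer (P : Set G)
  moved : ¬ R ≤ Subgroup.centralizer (P : Set G)

theorem config_map {H : Type u} [Group H] (f : G →* H) (hf : Function.Injective f) {P Pm R : Subgroup G}
    (h : Config P Pm R) : Config (P.map f) (Pm.map f) (R.map f) where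
  lt := lt_of_le_not_ge (Subgroup.map_mono h.lt.le) fun hle =>
    h.lt.not_ge ((Subgroup.map_le_map_iff_of_injective hf).1 hle)
  comm := by rw [← Subgroup.map_commutator]; exact Subgroup.map_mono h.comm
  quad := by rw [← Subgroup.map_commutator, ← Subgroup.map_commutator, h.quad, Subgroup.map_bot]
  fill := by
    rintro _ ⟨e, he, rfl⟩ hne _ ⟨v, hv, rfl⟩
    obtain ⟨r, hr, hc⟩ := h.fill e he (fun hm => hne ⟨e, hm, rfl⟩) v hv
    refine ⟨f r, ⟨r, hr, rfl⟩, ?_⟩
    rw [← map_commutatorElement, ← map_inv, ← map_mul, mem_centralizer_map_iff f hf]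
    exact hc
  sep := by
    rintro _ ⟨e, he, rfl⟩ hne _ ⟨r, hr, rfl⟩ hc
    rw [← map_commutatorElement, mem_centralizer_map_iff f hf] at hc
    rw [mem_centralizer_map_iff f hf]
    exact h.sep e he (fun hm => hne ⟨e, hm, rfl⟩) r hr hc
  moved := by rw [GlaubermanTwo54.le_centralizer_map_iff f hf]; exact h.moved

theorem config_of_map {H : Type u} [Group H] (f : G →* H) (hf : Function.Injective f) {P Pm R : Subgroup G}
    (h : Config (P.map f) (Pm.map f) (R.map f)) : Config P Pm R where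
  lt := lt_of_le_not_ge ((Subgroup.map_le_map_iff_of_injective hf).1 h.lt.le) fun hle =>
    h.lt.not_ge (Subgroup.map_mono hle)
  comm := by
    have := h.comm
    rwa [← Subgroup.map_commutator, Subgroup.map_le_map_iff_of_injective hf] at this
  quad := by
    have := h.quad
    rwa [← Subgroup.map_commutator, ← Subgroup.map_commutator, Subgroup.map_eq_bot_iff_of_injective _ hf]
      at this
  fill := by
    intro e he hne v hv
    obtain ⟨_, ⟨r, hr, rfl⟩, hc⟩ := h.fill (f e) ⟨e, he, rfl⟩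
      (fun hm => hne ((Subgroup.mem_map_iff_mem hf).1 hm)) (f v) ⟨v, hv, rfl⟩
    rw [← map_commutatorElement, ← map_inv, ← map_mul, mem_centralizer_map_iff f hf] at hc
    exact ⟨r, hr, hc⟩
  sep := by
    intro e he hne r hr hc
    have := h.sep (f e) ⟨e, he, rfl⟩ (fun hm => hne ((Subgroup.mem_map_iff_mem hf).1 hm)) (f r) ⟨r, hr, rfl⟩
      (by rwa [← map_commutatorElement, mem_centralizer_map_iff f hf])
    rwa [mem_centralizer_map_iff f hf] at this
  moved := fun hle => h.moved ((GlaubermanTwo54.le_centralizer_map_iff f hf R P).2 hle)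

/-- Commuting operators on an abelian group: `[[v,t],s] = [[v,s],t]`. -/
theorem comm_comm_swap {P : Subgroup G} (hP : IsMulCommutative P) {v t s : G} (hv : v ∈ P)
    (ht : t ∈ Subgroup.normalizer (P : Set G)) (hs : s ∈ Subgroup.normalizer (P : Set G))
    (hts : t * s = s * t) : ⁅⁅v, t⁆, s⁆ = ⁅⁅v, s⁆, t⁆ := by
  set A := t * v⁻¹ * t⁻¹ with hA
  set B := s * v⁻¹ * s⁻¹ with hB
  set C := (t * s) * v * (t * s)⁻¹ with hC
  have hAP : A ∈ P := (Subgroup.mem_normalizer_iff.1 ht _).1 (inv_mem hv)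
  have hBP : B ∈ P := (Subgroup.mem_normalizer_iff.1 hs _).1 (inv_mem hv)
  have hCP : C ∈ P := (Subgroup.mem_normalizer_iff.1 (mul_mem ht hs) _).1 hv
  have e1 : ⁅⁅v, t⁆, s⁆ = v * A * (C * B) := by
    rw [hC, hts, hA, hB]; simp only [commutatorElement_def]; group
  have e2 : ⁅⁅v, s⁆, t⁆ = v * B * (C * A) := by
    rw [hC, hA, hB]; simp only [commutatorElement_def]; group
  have hc : ∀ x ∈ P, ∀ y ∈ P, x * y = y * x := fun x hx y hy =>
    congrArg Subtype.val (hP.is_comm.comm ⟨x, hx⟩ ⟨y, hy⟩)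
  rw [e1, e2]
  calc v * A * (C * B) = v * (A * (C * B)) := mul_assoc _ _ _
    _ = v * ((C * B) * A) := by rw [hc A hAP _ (mul_mem hCP hBP)]
    _ = v * ((B * C) * A) := by rw [hc C hCP B hBP]
    _ = _ := by group

/-- An involution acts quadratically on an elementary abelian 2-group. -/
theorem comm_comm_self {P : Subgroup G} (hP : Cfsg.IsElementaryAbelian 2 P) {v t : G} (hv : v ∈ P)
    (ht : t ∈ Subgroup.normalizer (P : Set G)) (ht2 : t * t = 1) : ⁅⁅v, t⁆, t⁆ = 1 := by
  have hA : t * v⁻¹ * t⁻¹ ∈ P := (Subgroup.mem_normalizer_iff.1 ht _).1 (inv_mem hv)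
  have hti : t⁻¹ = t := inv_eq_of_mul_eq_one_right ht2
  have e : ⁅⁅v, t⁆, t⁆ = (v * (t * v⁻¹ * t⁻¹)) * ((t * t) * v * (t * t)⁻¹ * (t * v⁻¹ * t⁻¹)) := by
    simp only [commutatorElement_def]; group
  rw [e, ht2, inv_one, one_mul, mul_one, ← pow_two]
  exact hP.2 _ (mul_mem hv hA)

/-- Commutators with a fixed operator are multiplicative in the operand. -/
theorem comm_mul_left {P : Subgroup G} (hP : IsMulCommutative P) {v w t : G} (hv : v ∈ P) (hw : w ∈ P)
    (ht : t ∈ Subgroup.normalizer (P : Set G)) : ⁅v * w, t⁆ = ⁅v, t⁆ * ⁅w, t⁆ :=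
  commutatorElement_mul_of_comm hP ht hv hw

theorem comm_mul_right (v t s : G) : ⁅v, t * s⁆ = ⁅v, t⁆ * (t * ⁅v, s⁆ * t⁻¹) := by
  simp only [commutatorElement_def]; group

/-- The pairing bound: if `(v, t) ↦ [v, t]` maps into `D` with `|D : Hy| ≤ 2`, modulo `Hy` the left kernel has
index at most the index of the right kernel. -/
theorem pairing_le [Finite G] {P V R R₀ L D Hy : Subgroup G} (hP : Cfsg.IsElementaryAbelian 2 P) (hVP : V ≤ P)
    (hHD : Hy ≤ D) (hD : Hy.relIndex D ≤ 2) (hR : R ≤ Subgroup.normalizer (P : Set G))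
    (hVR : ∀ v ∈ V, ∀ t ∈ R, ⁅v, t⁆ ∈ D) (hsec : ∀ d ∈ D, ∀ t ∈ R, ⁅d, t⁆ ∈ Hy) (hR₀R : R₀ ≤ R)
    (hR₀ : ∀ v ∈ V, ∀ t ∈ R₀, ⁅v, t⁆ ∈ Hy)
    (hL : ∀ v ∈ V, (∀ t ∈ R, ⁅v, t⁆ ∈ Hy) → v ∈ L) : L.relIndex V ≤ R₀.relIndex R := by
  classical
  have hc : ∀ x ∈ P, ∀ y ∈ P, x * y = y * x := fun x hx y hy => PGroups.elemAb_comm hP hx hy
  -- the elements of `V` pairing trivially with `U`
  let K : ∀ U : Subgroup G, U ≤ R → Subgroup G := fun U hU =>
    { carrier := {v | v ∈ V ∧ ∀ t ∈ U, ⁅v, t⁆ ∈ Hy}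
      one_mem' := ⟨one_mem _, fun t _ => by rw [commutatorElement_one_left]; exact one_mem _⟩
      mul_mem' := fun {x y} hx hy => ⟨mul_mem hx.1 hy.1, fun t ht => by
        rw [comm_mul_left hP.1 (hVP hx.1) (hVP hy.1) (hR (hU ht))]
        exact mul_mem (hx.2 t ht) (hy.2 t ht)⟩
      inv_mem' := fun {x} hx => ⟨inv_mem hx.1, fun t ht => by
        have e : ⁅x⁻¹, t⁆ = (⁅x, t⁆)⁻¹ := by
          refine eq_inv_of_mul_eq_one_left ?_
          rw [← comm_mul_left hP.1 (inv_mem (hVP hx.1)) (hVP hx.1) (hR (hU ht)), inv_mul_cancel,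
            commutatorElement_one_left]
        rw [e]; exact inv_mem (hx.2 t ht)⟩ }
  have key : ∀ n : ℕ, ∀ (U : Subgroup G) (hU : U ≤ R), R₀ ≤ U → Nat.card U = n →
      (K U hU).relIndex V ≤ R₀.relIndex U := by
    intro n
    induction n using Nat.strong_induction_on with
    | _ n ih =>
      intro U hU hR₀U hn
      by_cases hUB : U ≤ R₀
      · rw [Subgroup.relIndex_eq_one.2 hUB, Subgroup.relIndex_eq_one.2 (show V ≤ K U hU from
          fun v hv => ⟨hv, fun t ht => hR₀ v hv t (hUB ht)⟩)]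
      obtain ⟨U', ⟨hB', hlt⟩, hmax⟩ := (Set.toFinite {X : Subgroup G | R₀ ≤ X ∧ X < U}).exists_maximal
        ⟨R₀, le_rfl, lt_of_le_not_ge hR₀U hUB⟩
      obtain ⟨r, hrU, hrU'⟩ := SetLike.not_le_iff_exists.1 (not_le_of_gt hlt)
      have hgen : U' ⊔ Subgroup.zpowers r = U := by
        by_contra h
        exact hrU' ((hmax ⟨hB'.trans le_sup_left,
          lt_of_le_of_ne (sup_le hlt.le (Subgroup.zpowers_le.2 hrU)) h⟩ le_sup_left)
          (Subgroup.mem_sup_right (Subgroup.mem_zpowers r)))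
      have hih := ih (Nat.card U') (hn ▸ lt_of_le_of_ne (Subgroup.card_le_of_le hlt.le)
        fun e => hlt.ne (Subgroup.eq_of_le_of_card_ge hlt.le e.ge)) U' (hlt.le.trans hU) hB' rfl
      -- one more operator
      let φ : V →* G :=
        { toFun := fun v => ⁅(v : G), r⁆
          map_one' := commutatorElement_one_left r
          map_mul' := fun x y => comm_mul_left hP.1 (hVP x.2) (hVP y.2) (hR (hU hrU)) }
      set M := (Hy.comap φ).map V.subtype with hM
      have hM2 : M.relIndex V ≤ 2 := by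
        have h1 : (Hy.comap φ).relIndex ⊤ = Hy.relIndex φ.range := by
          rw [Subgroup.relIndex_comap, ← MonoidHom.range_eq_map]
        have h2 : M.relIndex V = (Hy.comap φ).relIndex ⊤ := by
          rw [hM, ← Subgroup.relIndex_map_map_of_injective _ ⊤ V.subtype_injective, ← MonoidHom.range_eq_map,
            Subgroup.range_subtype]
        rw [h2, h1]
        refine (Subgroup.relIndex_le_of_le_right ?_ Subgroup.index_ne_zero_of_finite).trans hD
        rintro _ ⟨v, rfl⟩
        exact hVR v v.2 r (hU hrU)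
      have hsup : K U' (hlt.le.trans hU) ⊓ M ≤ K U hU := by
        rintro v ⟨⟨hv, h1⟩, ⟨w, hw, rfl⟩⟩
        refine ⟨w.2, ?_⟩
        -- the operators pairing trivially with `v`
        let St : Subgroup G :=
          { carrier := {t | t ∈ R ∧ ⁅(w : G), t⁆ ∈ Hy}
            one_mem' := ⟨one_mem _, by rw [commutatorElement_one_right]; exact one_mem _⟩
            mul_mem' := fun {x y} hx hy => ⟨mul_mem hx.1 hy.1, by
              rw [comm_mul_right]
              refine mul_mem hx.2 ?_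
              have e : x * ⁅(w : G), y⁆ * x⁻¹ = ⁅⁅(w : G), y⁆, x⁆⁻¹ * ⁅(w : G), y⁆ := by
                simp only [commutatorElement_def]; group
              rw [e]
              exact mul_mem (inv_mem (hsec _ (hHD hy.2) x hx.1)) hy.2⟩
            inv_mem' := fun {x} hx => ⟨inv_mem hx.1, by
              have h0 : ⁅(w : G), x⁻¹⁆ = x⁻¹ * ⁅(w : G), x⁆⁻¹ * x⁻¹⁻¹ := by
                simp only [commutatorElement_def]; group
              rw [h0, conj_eq_commutator_inv_mul]
              exact mul_mem (inv_mem (hsec _ (hHD (inv_mem hx.2)) _ (inv_mem hx.1))) (inv_mem hx.2)⟩ }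
        have hle : U ≤ St := by
          rw [← hgen]
          exact sup_le (fun t ht => ⟨hU (hlt.le ht), h1 t ht⟩) (Subgroup.zpowers_le.2 ⟨hU hrU, hw⟩)
        exact fun t ht => (hle ht).2
      calc (K U hU).relIndex V ≤ (K U' (hlt.le.trans hU) ⊓ M).relIndex V :=
            Subgroup.relIndex_le_of_le_left hsup Subgroup.index_ne_zero_of_finite
        _ ≤ (K U' (hlt.le.trans hU)).relIndex V * M.relIndex V := Subgroup.relIndex_inf_le
        _ ≤ R₀.relIndex U' * U'.relIndex U := by
            refine Nat.mul_le_mul hih (hM2.trans ?_)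
            have h0 : U'.relIndex U ≠ 0 := Subgroup.index_ne_zero_of_finite
            have h1 : U'.relIndex U ≠ 1 := fun e => not_le_of_gt hlt (Subgroup.relIndex_eq_one.1 e)
            omega
        _ = _ := Subgroup.relIndex_mul_relIndex _ _ _ hB' hlt.le
  have hKL : K R le_rfl ≤ L := fun v hv => hL v hv.1 hv.2
  exact (Subgroup.relIndex_le_of_le_left hKL Subgroup.index_ne_zero_of_finite).trans
    (key _ R le_rfl hR₀R rfl)

/-- A fixed-point-free module of a `p`-element inverted by an involution `a`: `|W : C_W(a)| > f`. -/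
theorem size_fpf [Finite G] {W : Subgroup G} (hW : Cfsg.IsElementaryAbelian 2 W) {a k : G}
    (hk : k ∈ Subgroup.normalizer (W : Set G)) (hinv : a * k * a⁻¹ = k⁻¹) {p : ℕ} (hp : p.Prime) (hp2 : p ≠ 2)
    (hkp : IsPGroup p (Subgroup.zpowers k)) (hfpf : ∀ w ∈ W, k * w = w * k → w = 1) (hne : W ≠ ⊥) {f : ℕ}
    (hf : PairSize f p) : f < (Subgroup.centralizer (Subgroup.zpowers a : Set G)).relIndex W := by
  haveI : Fact (Nat.Prime 2) := ⟨Nat.prime_two⟩
  haveI : Fact p.Prime := ⟨hp⟩
  have hkodd : Odd (orderOf k) := by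
    obtain ⟨n, hn⟩ := hkp.exists_card_eq
    rw [Nat.card_zpowers] at hn
    rw [hn]
    exact (hp.eq_two_or_odd'.resolve_left hp2).pow
  set C := fixOn W (Subgroup.zpowers a) with hC
  have hidx : (Subgroup.centralizer (Subgroup.zpowers a : Set G)).relIndex W * Nat.card C = Nat.card W :=
    SFourFree.relIndex_centralizer_mul_card W (Subgroup.zpowers a)
  set i := (Subgroup.centralizer (Subgroup.zpowers a : Set G)).relIndex W with hi
  -- `C_W(a)` meets its conjugate trivially
  have hsq : Nat.card C ^ 2 ≤ Nat.card W := by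
    have hinj : Function.Injective (fun x : C × C => (x.1 : G) * (k * (x.2 : G) * k⁻¹)) := by
      rintro ⟨x, y⟩ ⟨x', y'⟩ he
      simp only at he
      set z := (x' : G)⁻¹ * x with hz
      have hz' : z = k * ((y' : G) * (y : G)⁻¹) * k⁻¹ := by
        rw [hz, inv_mul_eq_iff_eq_mul]
        calc (x : G) = (x : G) * (k * y * k⁻¹) * (k * y * k⁻¹)⁻¹ := by group
          _ = _ := by rw [he]; group
      have hzC : z ∈ C := mul_mem (inv_mem x'.2) x.2
      set w := (y' : G) * (y : G)⁻¹
      have hwC : w ∈ C := mul_mem y'.2 (inv_mem y.2)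
      have hac : ∀ u ∈ C, a * u * a⁻¹ = u := fun u hu => by
        rw [(mem_fixOn.1 hu).2 a (Subgroup.mem_zpowers a), mul_inv_cancel_right]
      -- `k²` fixes `w`
      have h1 : k * k * w = w * (k * k) := by
        have h2 : a * (k * w * k⁻¹) * a⁻¹ = k * w * k⁻¹ := hz' ▸ hac z hzC
        have h3 : a * (k * w * k⁻¹) * a⁻¹ = k⁻¹ * w * k := by
          calc a * (k * w * k⁻¹) * a⁻¹ = (a * k * a⁻¹) * (a * w * a⁻¹) * (a * k * a⁻¹)⁻¹ := by group
            _ = _ := by rw [hinv, hac w hwC, inv_inv]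
        rw [h3] at h2
        calc k * k * w = k * (k * w * k⁻¹) * k := by group
          _ = k * (k⁻¹ * w * k) * k := by rw [h2]
          _ = _ := by group
      have hw1 : w = 1 := by
        refine hfpf w (fixOn_le hwC) ?_
        obtain ⟨n, hn⟩ := hkodd
        have hc : Commute (k * k) w := h1
        have := hc.pow_left (n + 1)
        rwa [← pow_two, ← pow_mul, show 2 * (n + 1) = orderOf k + 1 by omega, pow_succ, pow_orderOf_eq_one,
          one_mul] at this
      have hy : y' = y := Subtype.ext (mul_inv_eq_one.1 hw1)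
      have hx : x' = x := Subtype.ext (inv_mul_eq_one.1 (show (x' : G)⁻¹ * x = 1 by
        rw [← hz, hz', hw1]; simp))
      rw [hx, hy]
    have h := Nat.card_le_card_of_injective (fun x : C × C =>
      (⟨(x.1 : G) * (k * (x.2 : G) * k⁻¹), mul_mem (fixOn_le x.1.2)
        ((Subgroup.mem_normalizer_iff.1 hk _).1 (fixOn_le x.2.2))⟩ : W))
      fun x y h => hinj (congrArg Subtype.val h)
    rwa [Nat.card_prod, ← pow_two] at h
  -- the congruence
  obtain ⟨j, hj⟩ := PGroups.elemAb_card_eq_pow (p := 2) hW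
  have hmod : Nat.card W ≡ 1 [MOD p] := by
    letI : MulAction (Subgroup.zpowers k) W :=
      { smul := fun g w => ⟨(g : G) * w * (g : G)⁻¹,
          (Subgroup.mem_normalizer_iff.1 ((Subgroup.zpowers_le.2 hk) g.2) _).1 w.2⟩
        one_smul := fun w => Subtype.ext (show (1 : G) * w * (1 : G)⁻¹ = w by simp)
        mul_smul := fun g h w => Subtype.ext
          (show ((g : G) * h) * w * ((g : G) * h)⁻¹ = (g : G) * ((h : G) * w * (h : G)⁻¹) * (g : G)⁻¹ by
            group) }
    have h1 := hkp.card_modEq_card_fixedPoints W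
    have h2 : Nat.card (MulAction.fixedPoints (Subgroup.zpowers k) W) = 1 := by
      rw [Nat.card_eq_one_iff_unique]
      refine ⟨⟨fun x y => Subtype.ext (Subtype.ext ?_)⟩, ⟨⟨1, fun g => Subtype.ext
        (show (g : G) * (1 : G) * (g : G)⁻¹ = 1 by simp)⟩⟩⟩
      have hx : ∀ x : MulAction.fixedPoints (Subgroup.zpowers k) W, ((x : W) : G) = 1 := fun x =>
        hfpf _ (x : W).2 (mul_inv_eq_iff_eq_mul.1
          (congrArg Subtype.val (x.2 ⟨k, Subgroup.mem_zpowers k⟩)))
      rw [hx x, hx y]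
    rwa [h2] at h1
  have hjpos : 0 < j := by
    by_contra h0
    have : j = 0 := by omega
    rw [this, pow_zero] at hj
    exact hne (Subgroup.eq_bot_of_card_eq W hj)
  rw [hj] at hmod
  have hq := hf j hjpos hmod
  rw [← hj] at hq
  by_contra hle
  push Not at hle
  have h1 : Nat.card W ^ 2 ≤ i ^ 2 * Nat.card W := by
    calc Nat.card W ^ 2 = i ^ 2 * Nat.card C ^ 2 := by rw [← hidx]; ring
      _ ≤ _ := Nat.mul_le_mul_left _ hsq
  rw [pow_two (Nat.card W)] at h1
  have h2 := Nat.le_of_mul_le_mul_right h1 Nat.card_pos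
  have h3 := Nat.pow_le_pow_left hle 2
  omega

/-- A group with a unique maximal overgroup of its Sylow subgroup satisfies the dichotomy. -/
theorem dichotomy_of_minOver [Finite G] (S : Sylow 2 G) (hmin : MinOver (S : Subgroup G)) : Dichotomy S := by
  haveI : Fact (Nat.Prime 2) := ⟨Nat.prime_two⟩
  obtain ⟨M, hM, hSM⟩ := hmin
  intro N hN
  haveI := hN
  by_cases hNS : N ⊔ (S : Subgroup G) = ⊤
  · refine Or.inl (Transfer.PResidual.pResidual_le_of_isPGroup_quotient N ?_)
    refine S.2.of_surjective ((QuotientGroup.mk' N).comp (S : Subgroup G).subtype) fun q => ?_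
    obtain ⟨w, rfl⟩ := QuotientGroup.mk'_surjective N q
    have hw : w ∈ N ⊔ (S : Subgroup G) := by rw [hNS]; trivial
    obtain ⟨a, ha, s, hs, rfl⟩ := Subgroup.mem_sup_of_normal_left.mp hw
    exact ⟨⟨s, hs⟩, by
      show QuotientGroup.mk' N s = _
      rw [map_mul, show QuotientGroup.mk' N a = 1 from (QuotientGroup.eq_one_iff a).2 ha, one_mul]⟩
  · refine Or.inr ?_
    by_cases htop : Subgroup.normalizer (((S : Subgroup G) ⊓ N : Subgroup G) : Set G) = ⊤
    · haveI : ((S : Subgroup G) ⊓ N).Normal := Subgroup.normalizer_eq_top_iff.1 htop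
      exact Cores.le_pCore (S.2.to_le inf_le_left)
    · exfalso
      refine hM (top_le_iff.1 ?_)
      rw [← normalizer_inf_sup_eq_top S N]
      exact sup_le (hSM _ ((le_inf Subgroup.le_normalizer (pCore_le_normalizer N _)).trans
        Subgroup.inf_normalizer_le_normalizer_inf) htop) (le_sup_left.trans (hSM _ le_sup_right hNS))

end Cfsg.Agent.Lib.Stellmacher55
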